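import Cfsg.Agent.Lib.SpecSix.CoreSThree
import Cfsg.Prelude.Def_JComponents
import Cfsg.Agent.S2751

/-!
Element orders at most six: a parabolic with top `S₃`, in the form used by the amalgam argument.
-/

set_option autoImplicit false
set_option linter.unusedSectionVars false
set_option linter.style.haveILetI false

namespace CfsgLib.SpecSix

open Cfsg

universe u

variable {G : Type u} [Group G] [Finite G]

theorem cj_mem_map {H : Subgroup G} {g v : G} :
    v ∈ H.map (MulAut.conj g).toMonoidHom ↔ g⁻¹ * v * g ∈ H := by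
  constructor
  · rintro ⟨w, hw, rfl⟩
    simpa [mul_assoc] using hw
  · intro hv
    exact ⟨_, hv, by simp [mul_assoc]⟩

theorem cj_map_le {H K : Subgroup G} {g : G} :
    H.map (MulAut.conj g).toMonoidHom ≤ K ↔ ∀ v ∈ H, g * v * g⁻¹ ∈ K := by
  constructor
  · intro h v hv
    exact h ⟨v, hv, rfl⟩
  · rintro h _ ⟨v, hv, rfl⟩
    exact h v hv

theorem mem_normalizer_of_cj_le {H : Subgroup G} {g : G} (h : ∀ v ∈ H, g * v * g⁻¹ ∈ H) :
    g ∈ Subgroup.normalizer (H : Set G) :=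
  Subgroup.mem_normalizer_fintype h

theorem omegaCenterOf_eq (S : Subgroup G) : omegaCenterOf S = centralInvol S := by
  refine le_antisymm ((Subgroup.closure_le _).mpr ?_) fun v hv => Subgroup.subset_closure ?_
  · rintro v ⟨⟨hv, hc⟩, h2⟩
    exact ⟨hv, by rwa [pow_two] at h2, fun q hq => (hc q hq).symm⟩
  · exact ⟨⟨hv.1, fun q hq => (hv.2.2 q hq).symm⟩, by rw [pow_two]; exact hv.2.1⟩

/-- A group of order six with an inverted element of order three is the symmetric group of degree three. -/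
theorem perm_three_of_card_six {K : Type u} [Group K] [Finite K] (hK : Nat.card K = 6) {a t : K}
    (ha : orderOf a = 3) (ht : t * t = 1) (ht1 : t ≠ 1) (hinv : t * a * t⁻¹ = a⁻¹) :
    Nonempty (K ≃* Equiv.Perm (Fin 3)) := by
  obtain ⟨e⟩ := psl_two_of_card_six hK ha ht ht1 hinv
  obtain ⟨e'⟩ := psl_two_of_card_six (K := Equiv.Perm (Fin 3)) (by rw [Nat.card_perm, Nat.card_fin]; rfl)
    (a := Equiv.swap 0 1 * Equiv.swap 1 2) (t := Equiv.swap 0 1)
    (by
      haveI : Fact (Nat.Prime 3) := ⟨Nat.prime_three⟩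
      exact orderOf_eq_prime (by decide) (by decide))
    (by decide) (by decide) (by decide)
  exact ⟨e.trans e'.symm⟩

/-- An element of order three fixing a coset of a 2-group it normalises fixes an element of it. -/
theorem fixed_in_coset {A : Subgroup G} (hA : IsPGroup 2 A) {x q : G} (hx : orderOf x = 3)
    (hn : ∀ a ∈ A, x * a * x⁻¹ ∈ A) (hq : q⁻¹ * (x * q * x⁻¹) ∈ A) : ∃ a ∈ A, Commute x (q * a) := by
  classical
  haveI : Fact (Nat.Prime 3) := ⟨Nat.prime_three⟩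
  haveI : Fact (Nat.Prime 2) := ⟨Nat.prime_two⟩
  have hx3 : x ^ 3 = 1 := hx ▸ pow_orderOf_eq_one x
  set c := q⁻¹ * (x * q * x⁻¹) with hc
  let f : A → A := fun a => ⟨c * (x * (a : G) * x⁻¹), mul_mem hq (hn a a.2)⟩
  have hf : ∀ a : A, f (f (f a)) = a := fun a => by
    apply Subtype.ext
    show c * (x * (c * (x * (c * (x * (a : G) * x⁻¹)) * x⁻¹)) * x⁻¹) = a
    calc c * (x * (c * (x * (c * (x * (a : G) * x⁻¹)) * x⁻¹)) * x⁻¹)
        = q⁻¹ * x ^ 3 * q * a * (x ^ 3)⁻¹ := by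
          rw [hc]; simp only [pow_succ, pow_zero, one_mul]; group
      _ = a := by rw [hx3]; group
  let σ : Equiv.Perm A := ⟨f, fun a => f (f a), fun a => hf a, fun a => hf a⟩
  have hσ : σ ^ 3 ^ 1 = 1 := Equiv.ext fun a => hf a
  haveI : Fintype A := Fintype.ofFinite _
  obtain ⟨n, hn'⟩ := IsPGroup.iff_card.mp hA
  have h3 : ¬ 3 ∣ Fintype.card A := by
    rw [← Nat.card_eq_fintype_card, hn']
    intro hd
    exact absurd ((Nat.prime_dvd_prime_iff_eq Nat.prime_three Nat.prime_two).mp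
      (Nat.prime_three.dvd_of_dvd_pow hd)) (by norm_num)
  obtain ⟨a, ha⟩ := Equiv.Perm.exists_fixed_point_of_prime h3 hσ
  refine ⟨a, a.2, ?_⟩
  have e : c * (x * (a : G) * x⁻¹) = a := congrArg Subtype.val ha
  show x * (q * a) = q * a * x
  calc x * (q * (a : G)) = q * (c * (x * (a : G) * x⁻¹)) * x := by rw [hc]; group
    _ = q * a * x := by rw [e]

/-- A parabolic with top `S₃`. -/
structure Half (S P : Subgroup G) (x : G) : Prop where
  frame : Frame S P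
  index : (pCoreOf 2 P).relIndex P = 6
  parab : Parab S P
  mem : x ∈ P
  order : orderOf x = 3
  notin : x ∉ S
  gen : S ⊔ Subgroup.zpowers x = P
  inv : ∀ s ∈ S, s ∉ pCoreOf 2 P → s * x * s⁻¹ * x ∈ pCoreOf 2 P
  idx : (pCoreOf 2 P).relIndex S = 2
  exists_out : ∃ t ∈ S, t ∉ pCoreOf 2 P

theorem Frame.parab_six {S P : Subgroup G} (hF : Frame S P) (hi : (pCoreOf 2 P).relIndex P = 6) :
    Parab S P := by
  haveI : Fact (Nat.Prime 2) := ⟨Nat.prime_two⟩
  have hmul := hF.relIndex_eq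
  rw [hi] at hmul
  obtain ⟨c, hc⟩ := hF.odd
  have h3 : S.relIndex P = 3 := by
    obtain ⟨n, hn⟩ := IsPGroup.iff_card.mp hF.two
    obtain ⟨j, -, hj⟩ := (Nat.dvd_prime_pow Nat.prime_two).mp
      (show (pCoreOf 2 P).relIndex S ∣ 2 ^ n from hn ▸ Subgroup.relIndex_dvd_card _ S)
    rw [hj] at hmul
    rcases j with _ | _ | j
    · rw [pow_zero, one_mul] at hmul; omega
    · rw [zero_add, pow_one] at hmul; omega
    · rw [show 2 ^ (j + 1 + 1) = 4 * 2 ^ j by rw [pow_succ, pow_succ]; ring, mul_assoc] at hmul; omega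
  refine ⟨hF, fun hn => ?_, S, lt_of_le_of_ne hF.le fun e => ?_, fun H hH hHP => ?_⟩
  · have e := le_antisymm hF.core_le_T (le_core hF.le hn hF.two)
    rw [e] at hi; omega
  · subst e; rw [Subgroup.relIndex_self] at h3; omega
  · have hm := Subgroup.relIndex_mul_relIndex S H P hH hHP.le
    rw [h3] at hm
    rcases (Nat.dvd_prime Nat.prime_three).mp (Dvd.intro _ hm) with e | e
    · exact Subgroup.relIndex_eq_one.mp e
    · rw [e] at hm
      have : H.relIndex P = 1 := by omega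
      exact absurd (Subgroup.relIndex_eq_one.mp this) hHP.not_ge

theorem Half.of_frame (h : Six G) {S P : Subgroup G} (hF : Frame S P)
    (hi : (pCoreOf 2 P).relIndex P = 6) : ∃ x, Half S P x := by
  have hP := hF.parab_six hi
  obtain ⟨h2, x, hx, t, ht, hxo, hxS, htQ, -, hinv, hgen, hst⟩ := hP.di h (p := 3) (Or.inl rfl) hi
  refine ⟨x, hF, hi, hP, hx, hxo, hxS, hgen, fun s hs hsQ => ?_, h2, t, ht, htQ⟩
  have hq := hst s hs hsQ
  have hn : ∀ g ∈ P, ∀ q ∈ pCoreOf 2 P, g * q * g⁻¹ ∈ pCoreOf 2 P := fun g hg q hq =>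
    (Subgroup.mem_normalizer_iff.mp (le_normalizer_core P hg) q).mp hq
  have e : s * x * s⁻¹ * x = (t * ((s⁻¹ * t)⁻¹ * (x * (s⁻¹ * t) * x⁻¹)) * t⁻¹) * (t * x * t⁻¹ * x) := by
    group
  rw [e]
  exact mul_mem (hn t (hF.le ht) _ (mul_mem (inv_mem hq) (hn x hx _ hq))) hinv

namespace Half

variable {S P : Subgroup G} {x : G} (hp : Half S P x)
include hp

theorem qle : pCoreOf 2 P ≤ S := hp.frame.core_le_T

theorem le : S ≤ P := hp.frame.le

theorem conjQ {g : G} (hg : g ∈ P) {q : G} (hq : q ∈ pCoreOf 2 P) : g * q * g⁻¹ ∈ pCoreOf 2 P :=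
  (Subgroup.mem_normalizer_iff.mp (le_normalizer_core P hg) q).mp hq

theorem conjQ_iff {g : G} (hg : g ∈ P) {q : G} : g * q * g⁻¹ ∈ pCoreOf 2 P ↔ q ∈ pCoreOf 2 P :=
  (Subgroup.mem_normalizer_iff.mp (le_normalizer_core P hg) q).symm

theorem cube : x * x * x = 1 := by
  have h := pow_orderOf_eq_one x
  rwa [hp.order, pow_succ, pow_two] at h

theorem inv_eq : x⁻¹ = x * x := inv_eq_of_mul_eq_one_right (by rw [← mul_assoc]; exact hp.cube)

theorem par {a b : G} (ha : a ∈ S) (hb : b ∈ S) :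
    a * b ∈ pCoreOf 2 P ↔ (a ∈ pCoreOf 2 P ↔ b ∈ pCoreOf 2 P) :=
  Subgroup.mul_mem_iff_of_index_two (hp.idx : ((pCoreOf 2 P).subgroupOf S).index = 2)
    (a := (⟨a, ha⟩ : S)) (b := ⟨b, hb⟩)

theorem swap {s : G} (hs : s ∈ S) (hsQ : s ∉ pCoreOf 2 P) :
    ∃ q ∈ pCoreOf 2 P, s * x * s⁻¹ = q * x⁻¹ :=
  ⟨_, hp.inv s hs hsQ, by group⟩

theorem swap_inv {s : G} (hs : s ∈ S) (hsQ : s ∉ pCoreOf 2 P) :
    ∃ q ∈ pCoreOf 2 P, s * x⁻¹ * s⁻¹ = q * x := by
  obtain ⟨q, hq, e⟩ := hp.swap hs hsQ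
  refine ⟨x * q⁻¹ * x⁻¹, hp.conjQ hp.mem (inv_mem hq), ?_⟩
  calc s * x⁻¹ * s⁻¹ = (s * x * s⁻¹)⁻¹ := by group
    _ = (q * x⁻¹)⁻¹ := by rw [e]
    _ = x * q⁻¹ * x⁻¹ * x := by group

theorem card_two : 2 * Nat.card (pCoreOf 2 P) = Nat.card S := by
  rw [← hp.frame.card_eq, hp.idx, mul_comm]

/-- A subgroup normalised by `x` and by `S` is normalised by `P`. -/
theorem le_normalizer {H : Subgroup G} (hS : ∀ s ∈ S, ∀ v ∈ H, s * v * s⁻¹ ∈ H)
    (hx : ∀ v ∈ H, x * v * x⁻¹ ∈ H) : P ≤ Subgroup.normalizer (H : Set G) := by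
  rw [← hp.gen]
  exact sup_le (fun s hs => mem_normalizer_of_cj_le (hS s hs))
    (Subgroup.zpowers_le.mpr (mem_normalizer_of_cj_le hx))

theorem sylow : ∃ R : Sylow 2 P, (R : Subgroup P) = S.subgroupOf P := by
  haveI : Fact (Nat.Prime 2) := ⟨Nat.prime_two⟩
  exact ⟨(hp.frame.two.comap_of_injective P.subtype P.subtype_injective :
    IsPGroup 2 (S.subgroupOf P)).toSylow
      (fun hd => Nat.not_even_iff_odd.mpr hp.frame.odd (even_iff_two_dvd.mpr hd)), rfl⟩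

theorem top : Nonempty (P ⧸ pCore 2 P ≃* Equiv.Perm (Fin 3)) := by
  obtain ⟨t, ht, htQ⟩ := hp.exists_out
  have hK : ∀ y : P, y ∈ pCore 2 P ↔ (y : G) ∈ pCoreOf 2 P := fun y => by
    rw [← core_subgroupOf]; exact Subgroup.mem_subgroupOf
  refine perm_three_of_card_six (a := ((⟨x, hp.mem⟩ : P) : P ⧸ pCore 2 P))
    (t := ((⟨t, hp.le ht⟩ : P) : P ⧸ pCore 2 P)) (by rw [← core_relIndex]; exact hp.index) ?_ ?_ ?_ ?_
  · haveI : Fact (Nat.Prime 3) := ⟨Nat.prime_three⟩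
    refine orderOf_eq_prime ?_ fun e => hp.notin (hp.qle ((hK _).mp ((QuotientGroup.eq_one_iff (⟨x, hp.mem⟩ : P)).mp e)))
    rw [← QuotientGroup.mk_pow, QuotientGroup.eq_one_iff]
    exact (Subtype.ext (hp.order ▸ pow_orderOf_eq_one x) : (⟨x, hp.mem⟩ : P) ^ 3 = 1) ▸ one_mem _
  · rw [← QuotientGroup.mk_mul, QuotientGroup.eq_one_iff, hK]
    exact (hp.par ht ht).mpr Iff.rfl
  · exact fun e => htQ ((hK _).mp ((QuotientGroup.eq_one_iff (⟨t, hp.le ht⟩ : P)).mp e))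
  · refine eq_inv_of_mul_eq_one_left ?_
    rw [← QuotientGroup.mk_inv, ← QuotientGroup.mk_mul, ← QuotientGroup.mk_mul, ← QuotientGroup.mk_mul,
      QuotientGroup.eq_one_iff, hK]
    exact hp.inv t ht htQ

end Half

end CfsgLib.SpecSix
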