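import Mathlib

/-!
Decidable facts about permutations of five and of six points.
-/

set_option autoImplicit false

namespace CfsgLib.SpecSix.Perms

open Equiv

def z0 : Perm (Fin 6) := swap 0 1 * swap 2 3
def b0 : Perm (Fin 6) := swap 0 2 * swap 2 1 * swap 1 3 * swap 4 5
def s0 : Perm (Fin 6) := swap 0 2 * swap 1 3
def x0 : Perm (Fin 6) := swap 0 1 * swap 1 2

theorem basic : Perm.sign z0 = 1 ∧ Perm.sign b0 = 1 ∧ Perm.sign s0 = 1 ∧ Perm.sign x0 = 1 ∧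
    z0 * z0 = 1 ∧ z0 ≠ 1 ∧ b0 * b0 = z0 ∧ s0 * s0 = 1 ∧ s0 ≠ 1 ∧ s0 * b0 * s0⁻¹ = b0⁻¹ ∧
    s0 * z0 * s0⁻¹ = z0 ∧ x0 ^ 3 = 1 ∧ x0 ≠ 1 ∧ x0 * z0 * x0⁻¹ = s0 * z0 := by
  decide +kernel

theorem x0_three : Perm.IsThreeCycle x0 :=
  card_support_eq_three_iff.mp (by decide +kernel)

theorem invol_conj : ∀ σ : Perm (Fin 6), σ * σ = 1 → σ ≠ 1 → Perm.sign σ = 1 →
    ∃ τ : Perm (Fin 6), Perm.sign τ = 1 ∧ τ * σ * τ⁻¹ = z0 := by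
  decide +kernel

theorem roots : ∀ σ : Perm (Fin 6), σ * σ = z0 → Perm.sign σ = 1 → σ = b0 ∨ σ = b0⁻¹ := by
  decide +kernel

theorem inverters : ∀ σ : Perm (Fin 6), σ * σ = 1 → σ * b0 * σ⁻¹ = b0⁻¹ → Perm.sign σ = 1 →
    σ = s0 ∨ σ = s0 * z0 ∨ σ = s0 * b0 ∨ σ = s0 * b0⁻¹ := by
  decide +kernel

theorem movers : ∀ σ : Perm (Fin 6), σ ^ 3 = 1 → Perm.sign σ = 1 →
    (σ * z0 * σ⁻¹ = s0 ∨ σ * z0 * σ⁻¹ = s0 * z0 ∨ σ * z0 * σ⁻¹ = s0 * z0 * z0) → σ.support.card = 3 := by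
  decide +kernel

theorem four_five : ∀ σ : Perm (Fin 5), σ ^ 4 = 1 → Perm.sign σ = 1 → σ ^ 2 = 1 := by
  decide +kernel

theorem six_six : ∀ σ : Perm (Fin 6), σ ^ 6 = 1 → Perm.sign σ = 1 → σ ^ 3 = 1 ∨ σ ^ 2 = 1 := by
  decide +kernel

def u5 : Perm (Fin 5) := swap 0 1 * swap 1 2 * swap 2 3 * swap 3 4
def g5 : Perm (Fin 5) := swap 1 2 * swap 2 4 * swap 4 3
def t5 : Perm (Fin 5) := swap 1 4 * swap 2 3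
def l5 : Perm (Fin 5) := swap 0 1 * swap 2 3
def y5 : Perm (Fin 5) := swap 0 1 * swap 1 2

theorem five_facts : Perm.sign u5 = 1 ∧ Perm.sign t5 = 1 ∧ u5 ^ 5 = 1 ∧ u5 ≠ 1 ∧ t5 * t5 = 1 ∧
    t5 * u5 * t5⁻¹ = u5⁻¹ ∧ g5 ^ 4 = 1 ∧ g5 ^ 2 ≠ 1 ∧ g5 * u5 * g5⁻¹ = u5 ^ 2 := by
  decide +kernel

theorem five_four : Perm.sign l5 = 1 ∧ Perm.sign y5 = 1 ∧ y5 ^ 3 = 1 ∧ l5 * l5 = 1 ∧
    y5 * l5 * y5⁻¹ ≠ l5 ∧ l5 * (y5 * l5 * y5⁻¹) = (y5 * l5 * y5⁻¹) * l5 ∧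
    l5 * (y5 * y5 * l5 * (y5 * y5)⁻¹) = (y5 * y5 * l5 * (y5 * y5)⁻¹) * l5 ∧
    (y5 * l5 * y5⁻¹) * (y5 * y5 * l5 * (y5 * y5)⁻¹) = (y5 * y5 * l5 * (y5 * y5)⁻¹) * (y5 * l5 * y5⁻¹) := by
  decide +kernel

def u6 : Perm (Fin 6) := swap 0 1 * swap 1 2 * swap 2 3 * swap 3 4
def g6 : Perm (Fin 6) := swap 1 2 * swap 2 4 * swap 4 3
def c6 : Perm (Fin 6) := swap 3 4 * swap 4 5
def f6 : Perm (Fin 6) := swap 0 3 * swap 3 1 * swap 1 4 * swap 2 5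

theorem six_facts : u6 ^ 5 = 1 ∧ u6 ≠ 1 ∧ g6 ^ 4 = 1 ∧ g6 ^ 2 ≠ 1 ∧ g6 * u6 * g6⁻¹ = u6 ^ 2 := by
  decide +kernel

theorem six_four : Perm.sign z0 = 1 ∧ Perm.sign x0 = 1 ∧ x0 ^ 3 = 1 ∧ z0 * z0 = 1 ∧
    x0 * z0 * x0⁻¹ ≠ z0 ∧ z0 * (x0 * z0 * x0⁻¹) = (x0 * z0 * x0⁻¹) * z0 ∧
    z0 * (x0 * x0 * z0 * (x0 * x0)⁻¹) = (x0 * x0 * z0 * (x0 * x0)⁻¹) * z0 ∧
    (x0 * z0 * x0⁻¹) * (x0 * x0 * z0 * (x0 * x0)⁻¹) = (x0 * x0 * z0 * (x0 * x0)⁻¹) * (x0 * z0 * x0⁻¹) := by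
  decide +kernel

theorem six_nine : Perm.sign c6 = 1 ∧ Perm.sign f6 = 1 ∧ x0 ≠ 1 ∧ c6 * x0 = x0 * c6 ∧ f6 * x0 * f6⁻¹ = c6 ∧
    f6 ^ 4 = 1 ∧ f6 ^ 2 ≠ 1 ∧ x0 * (f6 * f6 * x0 * (f6 * f6)⁻¹) = 1 := by
  decide +kernel

theorem six_nine_three : ∀ σ : Perm (Fin 6), σ * x0 = x0 * σ → σ * c6 = c6 * σ → Perm.sign σ = 1 → σ ^ 3 = 1 := by
  decide +kernel

end CfsgLib.SpecSix.Perms
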