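import Cfsg.Agent.Lib.SpecSix.Basic
import Cfsg.Agent.Lib.SpecSix.SixPerms
import Cfsg.Agent.Lib.Perm.AutAltGen
import Cfsg.Agent.S2119

/-!
Element orders at most six above a normal alternating group of degree five or six.
-/

set_option autoImplicit false
set_option linter.unusedSectionVars false

namespace CfsgLib.SpecSix

universe u

variable {K : Type u} [Group K] [Finite K]

/-- An element commuting with an element of order four is killed by four. -/
theorem Six.commute_four (h : Six K) {b c : K} (hb : orderOf b = 4) (hc : Commute c b) : c ^ 4 = 1 := by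
  have h6 := h c
  have hpos := orderOf_pos c
  rw [← orderOf_dvd_iff_pow_eq_one]
  have bad : ∀ m : ℕ, orderOf c = m → (m = 3 ∨ m = 5) → False := fun m hm hh => by
    rcases hh with e | e <;> subst e <;> exact h.not_commute hc hm hb (by norm_num) (by norm_num)
  interval_cases ho : orderOf c
  · norm_num
  · norm_num
  · exact (bad 3 rfl (Or.inl rfl)).elim
  · norm_num
  · exact (bad 5 rfl (Or.inr rfl)).elim
  · exfalso
    have h2 : orderOf (c ^ 2) = 3 := by rw [orderOf_pow' c two_ne_zero, ho]; rfl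
    exact h.not_commute (hc.pow_left 2) h2 hb (by norm_num) (by norm_num)

section Six6

variable {T : Subgroup K} [T.Normal] (e : T ≃* alternatingGroup (Fin 6))

open Perms

/-- Conjugation, read in the alternating group. -/
noncomputable def altAct (g : K) : MulAut (alternatingGroup (Fin 6)) :=
  MulAut.congr e (MulAut.conjNormal (H := T) g)

theorem altAct_spec (g : K) (x : alternatingGroup (Fin 6)) :
    ((e.symm (altAct e g x) : T) : K) = g * (e.symm x : T) * g⁻¹ := by
  simp [altAct, MulAut.conjNormal_apply]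

theorem altAct_mul (g g' : K) : altAct e (g * g') = altAct e g * altAct e g' := by
  simp [altAct, map_mul]

theorem altAct_inner (a : alternatingGroup (Fin 6)) (x : alternatingGroup (Fin 6)) :
    altAct e ((e.symm a : T) : K) x = a * x * a⁻¹ := by
  apply e.symm.injective
  apply Subtype.ext
  rw [altAct_spec, map_mul, map_mul, map_inv]
  simp

/-- Conjugation keeps the three-cycles of a normal `A6`. -/
theorem Six.alt_six_preserves (h : Six K) (g : K) (x : alternatingGroup (Fin 6))
    (hx : Equiv.Perm.IsThreeCycle (x : Equiv.Perm (Fin 6))) :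
    Equiv.Perm.IsThreeCycle (altAct e g x : Equiv.Perm (Fin 6)) := by
  classical
  obtain ⟨sz, sb, ss, sx, hzz, hz1, hbb, hss, hs1, hsb, hsz, hx3, hx1, hxz⟩ := Perms.basic
  set Z : alternatingGroup (Fin 6) := ⟨z0, Equiv.Perm.mem_alternatingGroup.mpr sz⟩ with hZ
  set B : alternatingGroup (Fin 6) := ⟨b0, Equiv.Perm.mem_alternatingGroup.mpr sb⟩ with hB
  set S : alternatingGroup (Fin 6) := ⟨s0, Equiv.Perm.mem_alternatingGroup.mpr ss⟩ with hS
  set X : alternatingGroup (Fin 6) := ⟨x0, Equiv.Perm.mem_alternatingGroup.mpr sx⟩ with hX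
  have conj3 : ∀ a y : alternatingGroup (Fin 6), Equiv.Perm.IsThreeCycle (y : Equiv.Perm (Fin 6)) →
      Equiv.Perm.IsThreeCycle ((a * y * a⁻¹ : alternatingGroup (Fin 6)) : Equiv.Perm (Fin 6)) := fun a y hy => by
    unfold Equiv.Perm.IsThreeCycle at hy ⊢
    simpa using hy
  -- it is enough to follow one three-cycle
  suffices main : Equiv.Perm.IsThreeCycle (altAct e g X : Equiv.Perm (Fin 6)) by
    obtain ⟨c, hc⟩ := isConj_iff.mp
      (alternatingGroup.isThreeCycle_isConj (by simp) (σ := X) (τ := x) Perms.x0_three hx)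
    rw [← hc, map_mul, map_mul, map_inv]
    exact conj3 _ _ main
  -- move the element into the centraliser of `z0` and of `b0`
  obtain ⟨a, hga⟩ : ∃ a : alternatingGroup (Fin 6), a * altAct e g Z * a⁻¹ = Z := by
    have h2 : (altAct e g Z) * (altAct e g Z) = 1 := by
      rw [← map_mul, show Z * Z = 1 from Subtype.ext hzz, map_one]
    have h1 : altAct e g Z ≠ 1 := fun e1 => hz1 (congrArg Subtype.val
      ((altAct e g).injective (e1.trans (map_one _).symm)))
    obtain ⟨τ, hτ, hτc⟩ := Perms.invol_conj _ (congrArg Subtype.val h2) (fun e1 => h1 (Subtype.ext e1))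
      (Equiv.Perm.mem_alternatingGroup.mp (altAct e g Z).2)
    exact ⟨⟨τ, Equiv.Perm.mem_alternatingGroup.mpr hτ⟩, Subtype.ext hτc⟩
  obtain ⟨g', hg', hgz, hgb⟩ : ∃ g' : K, (∃ d : alternatingGroup (Fin 6), ∀ y, altAct e g' y = d * altAct e g y * d⁻¹) ∧
      altAct e g' Z = Z ∧ altAct e g' B = B := by
    set g1 := ((e.symm a : T) : K) * g with hg1
    have e1 : ∀ y, altAct e g1 y = a * altAct e g y * a⁻¹ := fun y => by
      rw [hg1, altAct_mul, MulAut.mul_apply, altAct_inner]
    have hr : altAct e g1 B * altAct e g1 B = Z := by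
      rw [← map_mul, show B * B = Z from Subtype.ext hbb, e1, hga]
    rcases Perms.roots _ (congrArg Subtype.val hr) (Equiv.Perm.mem_alternatingGroup.mp (altAct e g1 B).2) with r | r
    · exact ⟨g1, ⟨a, e1⟩, (e1 Z).trans hga, Subtype.ext r⟩
    · refine ⟨((e.symm S : T) : K) * g1, ⟨S * a, fun y => ?_⟩, ?_, ?_⟩
      · rw [altAct_mul, MulAut.mul_apply, altAct_inner, e1]; group
      · rw [altAct_mul, MulAut.mul_apply, altAct_inner, e1, hga]; exact Subtype.ext hsz
      · rw [altAct_mul, MulAut.mul_apply, altAct_inner]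
        refine Subtype.ext ?_
        show s0 * (altAct e g1 B : Equiv.Perm (Fin 6)) * s0⁻¹ = b0
        rw [r, ← conj_inv, hsb, inv_inv]
  obtain ⟨d, hd⟩ := hg'
  suffices main : Equiv.Perm.IsThreeCycle (altAct e g' X : Equiv.Perm (Fin 6)) by
    rw [hd] at main
    simpa [mul_assoc] using conj3 d⁻¹ _ main
  set W := altAct e g' S with hW
  have hW2 : W * W = 1 := by rw [hW, ← map_mul, show S * S = 1 from Subtype.ext hss, map_one]
  have hWB : W * B * W⁻¹ = B⁻¹ := by
    rw [hW, ← hgb, ← map_inv, ← map_mul, ← map_mul, ← map_inv]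
    exact congrArg _ (Subtype.ext hsb)
  have inV : ∀ (hV : (W : Equiv.Perm (Fin 6)) = s0 ∨ (W : Equiv.Perm (Fin 6)) = s0 * z0),
      Equiv.Perm.IsThreeCycle (altAct e g' X : Equiv.Perm (Fin 6)) := fun hV => by
    set Y := altAct e g' X with hY
    have hY3 : (Y : Equiv.Perm (Fin 6)) ^ 3 = 1 := by
      have e3 : Y ^ 3 = 1 := by rw [hY, ← map_pow, show X ^ 3 = 1 from Subtype.ext hx3, map_one]
      exact congrArg Subtype.val e3
    have hYZ : Y * Z * Y⁻¹ = W * Z := by
      rw [hY, hW, ← map_inv]
      conv_lhs => rw [← hgz]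
      conv_rhs => rw [← hgz]
      rw [← map_mul, ← map_mul, ← map_mul]
      exact congrArg _ (Subtype.ext hxz)
    refine card_support_eq_three_iff.mp (Perms.movers _ hY3 (Equiv.Perm.mem_alternatingGroup.mp Y.2) ?_)
    have e' : (Y : Equiv.Perm (Fin 6)) * z0 * (Y : Equiv.Perm (Fin 6))⁻¹ = (W : Equiv.Perm (Fin 6)) * z0 :=
      congrArg Subtype.val hYZ
    rcases hV with w | w <;> rw [w] at e' <;> simp [e']
  rcases Perms.inverters _ (congrArg Subtype.val hW2) (congrArg Subtype.val hWB)
    (Equiv.Perm.mem_alternatingGroup.mp W.2) with w | w | w | w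
  · exact inV (Or.inl w)
  · exact inV (Or.inr w)
  all_goals exfalso
  -- otherwise an element of order eight appears
  all_goals
    set F : alternatingGroup (Fin 6) →* K := T.subtype.comp e.symm.toMonoidHom with hF
    have hFi : Function.Injective F := T.subtype_injective.comp e.symm.injective
    have hFc : ∀ y, g' * F y * g'⁻¹ = F (altAct e g' y) := fun y => (altAct_spec e g' y).symm
    have hFB : orderOf (F B) = 4 := by
      rw [orderOf_injective F hFi]
      refine orderOf_eq_prime_pow (p := 2) (n := 1) (fun e1 => hz1 ?_) (Subtype.ext ?_)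
      · rw [pow_one, pow_two] at e1
        rw [← hbb]; exact congrArg Subtype.val e1
      · show b0 ^ (2 ^ (1 + 1)) = 1
        rw [show 2 ^ (1 + 1) = 2 * 2 from rfl, pow_mul, pow_two b0, hbb, pow_two, hzz]
    have hcB : Commute g' (F B) := by
      have e1 := hFc B
      rw [hgb] at e1
      exact mul_inv_eq_iff_eq_mul.mp e1
    have hc4 := h.commute_four hFB hcB
    obtain ⟨D, hD, hDc⟩ : ∃ D : alternatingGroup (Fin 6), S * W = D ∧ (D = B ∨ D = B⁻¹) :=
      ⟨S * W, rfl, by
        first
        | (left; apply Subtype.ext; show s0 * (W : Equiv.Perm (Fin 6)) = b0; rw [w, ← mul_assoc, hss, one_mul]; done)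
        | (right; apply Subtype.ext; show s0 * (W : Equiv.Perm (Fin 6)) = b0⁻¹; rw [w, ← mul_assoc, hss, one_mul]; done)⟩
    have hcD : Commute (F D) g' := by
      rcases hDc with e1 | e1 <;> rw [e1]
      · exact hcB.symm
      · rw [map_inv]; exact hcB.symm.inv_left
    have hD4 : orderOf (F D) = 4 := by
      rcases hDc with e1 | e1 <;> rw [e1]
      · exact hFB
      · rw [map_inv, orderOf_inv, hFB]
    set k := F S * g' with hk
    have hk2 : k ^ 2 = F D * g' ^ 2 := by
      calc k ^ 2 = F S * (g' * F S * g'⁻¹) * (g' * g') := by rw [pow_two, hk]; group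
        _ = F D * g' ^ 2 := by rw [hFc, ← map_mul, ← hW, hD, pow_two]
    have hk4 : k ^ 4 = F D ^ 2 := by
      rw [show 4 = 2 * 2 from rfl, pow_mul, hk2, (hcD.pow_right 2).mul_pow, ← pow_mul, show 2 * 2 = 4 from rfl, hc4,
        mul_one]
    have h8 : k ^ 2 ^ 3 = 1 := by
      rw [show (2 : ℕ) ^ 3 = 4 * 2 from rfl, pow_mul, hk4, ← pow_mul, show 2 * 2 = 4 from rfl,
        ← hD4, pow_orderOf_eq_one]
    have h44 := h.two_pow h8
    rw [hk4] at h44
    have := Nat.le_of_dvd (by norm_num) (hD4 ▸ orderOf_dvd_of_pow_eq_one h44)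
    omega

end Six6

/-- A subgroup containing the alternating group. -/
theorem eq_alternating_or_top {n : ℕ} {R : Subgroup (Equiv.Perm (Fin n))} (hR : alternatingGroup (Fin n) ≤ R) :
    R = alternatingGroup (Fin n) ∨ R = ⊤ := by
  by_cases hle : R ≤ alternatingGroup (Fin n)
  · exact Or.inl (le_antisymm hle hR)
  obtain ⟨σ, hσ, hσa⟩ := SetLike.not_le_iff_exists.mp hle
  refine Or.inr ((Subgroup.eq_top_iff' R).mpr fun τ => ?_)
  rcases Int.units_eq_one_or (Equiv.Perm.sign τ) with h1 | h1
  · exact hR (Equiv.Perm.mem_alternatingGroup.mpr h1)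
  have hs : Equiv.Perm.sign σ = -1 :=
    (Int.units_eq_one_or _).resolve_left fun h2 => hσa (Equiv.Perm.mem_alternatingGroup.mpr h2)
  have hm : τ * σ ∈ R := hR (Equiv.Perm.mem_alternatingGroup.mpr (by rw [map_mul, h1, hs]; rfl))
  simpa using mul_mem hm (inv_mem hσ)

/-- A group with a self-centralising normal alternating subgroup is alternating or symmetric. -/
theorem Six.alt_sym (h : Six K) {n : ℕ} (hn : n = 5 ∨ n = 6) {T : Subgroup K} [T.Normal]
    (e : T ≃* alternatingGroup (Fin n)) (hC : Subgroup.centralizer (T : Set K) = ⊥) :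
    Nonempty (K ≃* alternatingGroup (Fin n)) ∨ Nonempty (K ≃* Equiv.Perm (Fin n)) := by
  classical
  set ψ : K →* MulAut (alternatingGroup (Fin n)) :=
    (MulAut.congr e).toMonoidHom.comp (MulAut.conjNormal (H := T)) with hψ
  have hψi : Function.Injective ψ := by
    refine (MulAut.congr e).injective.comp ?_
    rw [injective_iff_map_eq_one]
    intro g hg
    have : g ∈ Subgroup.centralizer (T : Set K) := fun x hx => by
      have h1 : g * x * g⁻¹ = x := congrArg Subtype.val (DFunLike.congr_fun hg (⟨x, hx⟩ : T))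
      exact (mul_inv_eq_iff_eq_mul.1 h1).symm
    rwa [hC, Subgroup.mem_bot] at this
  set N : Equiv.Perm (Fin n) →* MulAut (alternatingGroup (Fin n)) := MulAut.conjNormal with hN
  have hNi : Function.Injective N := CfsgLib.AutAltGen.conjNormal_injective n (by omega)
  have hrange : ∀ g, ψ g ∈ N.range := fun g => by
    rcases hn with rfl | rfl
    · exact (Cfsg.Agent.S2119.result 5 (by norm_num) (by norm_num)).2 (ψ g)
    · exact CfsgLib.AutAltGen.exists_conjNormal 6 (by norm_num) (ψ g) (fun x hx => h.alt_six_preserves e g x hx)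
  let f : K →* Equiv.Perm (Fin n) := (MonoidHom.ofInjective hNi).symm.toMonoidHom.comp (ψ.codRestrict N.range hrange)
  have hfN : ∀ g, N (f g) = ψ g := fun g => by
    simp only [f, MonoidHom.coe_comp, MulEquiv.coe_toMonoidHom, Function.comp_apply, MonoidHom.apply_ofInjective_symm]
    rfl
  have hfi : Function.Injective f := fun a b hab => hψi (by rw [← hfN, ← hfN, hab])
  have hge : alternatingGroup (Fin n) ≤ f.range := fun σ hσ => by
    refine ⟨((e.symm ⟨σ, hσ⟩ : T) : K), hNi ?_⟩
    rw [hfN]
    refine MulEquiv.ext fun x => e.symm.injective (Subtype.ext ?_)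
    have e1 : N σ x = ⟨σ, hσ⟩ * x * ⟨σ, hσ⟩⁻¹ := Subtype.ext (by simp [hN, MulAut.conjNormal_apply])
    rw [e1, map_mul, map_mul, map_inv]
    simp [hψ, MulAut.conjNormal_apply]
  let i : K ≃* f.range := MonoidHom.ofInjective hfi
  rcases eq_alternating_or_top hge with e1 | e1
  · exact Or.inl ⟨i.trans (MulEquiv.subgroupCongr e1)⟩
  · exact Or.inr ⟨i.trans ((MulEquiv.subgroupCongr e1).trans Subgroup.topEquiv)⟩

end CfsgLib.SpecSix
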