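import Cfsg.Agent.Lib.SpecSix.AmalgamCore

/-!
Element orders at most six: there are no two parabolics with top `S₃` and trivial common core, one of them
centralising the central involutions of their Sylow 2-subgroup and the other not.
-/

set_option autoImplicit false
set_option linter.unusedSectionVars false
set_option linter.style.haveILetI false

namespace CfsgLib.SpecSix

open Cfsg

universe u

variable {G : Type u} [Group G] [Finite G]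

theorem card_two_mul {H K : Subgroup G} (hle : H ≤ K) (hex : ∃ k ∈ K, k ∉ H)
    (hpar : ∀ b ∈ K, ∀ c ∈ K, b ∉ H → c ∉ H → b * c ∈ H) : Nat.card K = 2 * Nat.card H := by
  obtain ⟨k, hk, hkH⟩ := hex
  have hidx : (H.subgroupOf K).index = 2 := by
    rw [Subgroup.index_eq_two_iff]
    refine ⟨⟨k, hk⟩, fun b => ?_⟩
    by_cases hb : (b : G) ∈ H
    · refine Or.inr ⟨hb, fun hbk => hkH ?_⟩
      have := mul_mem (inv_mem hb) (Subgroup.mem_subgroupOf.mp hbk)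
      simpa using this
    · exact Or.inl ⟨Subgroup.mem_subgroupOf.mpr (hpar _ b.2 _ hk hb hkH), hb⟩
  rw [← CfsgLib.Products.card_mul_relIndex_of_le hle, show H.relIndex K = 2 from hidx, mul_comm]

theorem card_lt_double {A B : Subgroup G} (h : A < B) : 2 * Nat.card A ≤ Nat.card B := by
  obtain ⟨c, hc⟩ := Subgroup.card_dvd_of_le h.le
  have hpos : 0 < Nat.card B := Nat.card_pos
  rcases c with _ | _ | c
  · omega
  · exact absurd (Subgroup.eq_of_le_of_card_ge h.le (by omega)) h.ne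
  · rw [hc]; nlinarith

/-- The elements of the core centralising `amalW`. -/
def amalD (S P : Subgroup G) (x1 x : G) : Subgroup G :=
  pCoreOf 2 P ⊓ Subgroup.centralizer (amalW S x1 x : Set G)

namespace Amal

variable {S P1 P : Subgroup G} {x1 x : G} (a : Amal S P1 P x1 x)
include a

theorem nontrivial : Nontrivial G :=
  nontrivial_of_ne x 1 fun e => a.two.notin (e ▸ one_mem _)

theorem exists_q : ∃ q ∈ pCoreOf 2 P, q ∉ pCoreOf 2 P1 := by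
  haveI := a.nontrivial
  by_contra hno
  push Not at hno
  have e : pCoreOf 2 P = pCoreOf 2 P1 := by
    refine Subgroup.eq_of_le_of_card_ge hno ?_
    have := a.one.card_two
    have := a.two.card_two
    omega
  exact a.two.frame.core_ne_bot (a.core _ a.two.qle (e ▸ le_normalizer_core P1) (le_normalizer_core P))

theorem par1 {b c : G} (hb : b ∈ pCoreOf 2 P) (hc : c ∈ pCoreOf 2 P) :
    b * c ∈ pCoreOf 2 P1 ↔ (b ∈ pCoreOf 2 P1 ↔ c ∈ pCoreOf 2 P1) :=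
  a.one.par (a.two.qle hb) (a.two.qle hc)

theorem rotQ {q : G} (hq : q ∈ pCoreOf 2 P) :
    x * q * x⁻¹ ∈ pCoreOf 2 P ∧ x⁻¹ * q * x ∈ pCoreOf 2 P :=
  ⟨a.two.conjQ a.two.mem hq, by simpa using a.two.conjQ (inv_mem a.two.mem) hq⟩

theorem rot_eq (q : G) : x * (x * q * x⁻¹) * x⁻¹ = x⁻¹ * q * x ∧ x * (x⁻¹ * q * x) * x⁻¹ = q ∧
    x⁻¹ * (x * q * x⁻¹) * x = q ∧ x⁻¹ * (x⁻¹ * q * x) * x = x * q * x⁻¹ := by
  refine ⟨?_, by group, by group, ?_⟩
  · calc x * (x * q * x⁻¹) * x⁻¹ = (x * x) * q * (x * x)⁻¹ := by group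
      _ = _ := by rw [← a.two.inv_eq, inv_inv]
  · calc x⁻¹ * (x⁻¹ * q * x) * x = (x * x)⁻¹ * q * (x * x) := by group
      _ = _ := by rw [← a.two.inv_eq, inv_inv]

theorem cenV {q : G} (hq : q ∈ pCoreOf 2 P) (hc : ∀ v ∈ amalV S x1, q * v = v * q) :
    q ∈ pCoreOf 2 P1 := by
  obtain ⟨v, hv, hvZ⟩ := a.exists_v
  exact a.centV (a.two.qle hq) hv hvZ (hc v hv)

theorem mem_D {q : G} : q ∈ amalD S P x1 x ↔ q ∈ pCoreOf 2 P ∧ q ∈ pCoreOf 2 P1 ∧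
    x * q * x⁻¹ ∈ pCoreOf 2 P1 ∧ x⁻¹ * q * x ∈ pCoreOf 2 P1 := by
  constructor
  · rintro ⟨hq, hc⟩
    refine ⟨hq, a.cenV hq fun v hv => (hc v (a.vW hv)).symm,
      a.cenV (a.rotQ hq).1 fun v hv => ?_, a.cenV (a.rotQ hq).2 fun v hv => ?_⟩
    · have e := hc _ (a.vxxW hv)
      calc x * q * x⁻¹ * v = x * (q * (x⁻¹ * v * x)) * x⁻¹ := by group
        _ = x * ((x⁻¹ * v * x) * q) * x⁻¹ := by rw [← e]
        _ = v * (x * q * x⁻¹) := by group
    · have e := hc _ (a.vxW hv)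
      calc x⁻¹ * q * x * v = x⁻¹ * (q * (x * v * x⁻¹)) * x := by group
        _ = x⁻¹ * ((x * v * x⁻¹) * q) * x := by rw [← e]
        _ = v * (x⁻¹ * q * x) := by group
  · rintro ⟨hq, h0, h1, h2⟩
    refine ⟨hq, fun w hw => ?_⟩
    refine Subgroup.mem_centralizer_singleton_iff.mp
      (a.w_le (H := Subgroup.centralizer {q}) (fun v hv => ?_) (fun v hv => ?_) (fun v hv => ?_) hw)
    · exact Subgroup.mem_centralizer_singleton_iff.mpr ((a.v_cI hv).2.2 q h0)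
    · refine Subgroup.mem_centralizer_singleton_iff.mpr ?_
      have e := (a.v_cI hv).2.2 _ h2
      calc x * v * x⁻¹ * q = x * (v * (x⁻¹ * q * x)) * x⁻¹ := by group
        _ = x * ((x⁻¹ * q * x) * v) * x⁻¹ := by rw [e]
        _ = q * (x * v * x⁻¹) := by group
    · refine Subgroup.mem_centralizer_singleton_iff.mpr ?_
      have e := (a.v_cI hv).2.2 _ h1
      calc x⁻¹ * v * x * q = x⁻¹ * (v * (x * q * x⁻¹)) * x := by group
        _ = x⁻¹ * ((x * q * x⁻¹) * v) * x := by rw [e]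
        _ = q * (x⁻¹ * v * x) := by group

theorem no_three {e : G} (he : e ∈ pCoreOf 2 P) (h0 : e ∉ pCoreOf 2 P1)
    (h1 : x * e * x⁻¹ ∉ pCoreOf 2 P1) (h2 : x⁻¹ * e * x ∉ pCoreOf 2 P1) : False := by
  obtain ⟨hr1, hr2⟩ := a.rotQ he
  obtain ⟨r1, r2, r3, r4⟩ := a.rot_eq e
  have hei : e⁻¹ ∈ pCoreOf 2 P1 ↔ e ∈ pCoreOf 2 P1 := inv_mem_iff
  have hd : e⁻¹ * (x * e * x⁻¹) ∈ amalD S P x1 x := by
    refine a.mem_D.mpr ⟨mul_mem (inv_mem he) hr1, ?_, ?_, ?_⟩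
    · rw [a.par1 (inv_mem he) hr1, inv_mem_iff]
      exact iff_of_false h0 h1
    · have e' : x * (e⁻¹ * (x * e * x⁻¹)) * x⁻¹ = (x * e * x⁻¹)⁻¹ * (x * (x * e * x⁻¹) * x⁻¹) := by group
      rw [e', r1, a.par1 (inv_mem hr1) hr2, inv_mem_iff]
      exact iff_of_false h1 h2
    · have e' : x⁻¹ * (e⁻¹ * (x * e * x⁻¹)) * x = (x⁻¹ * e * x)⁻¹ * e := by group
      rw [e', a.par1 (inv_mem hr2) he, inv_mem_iff]
      exact iff_of_false h2 h0
  have hD2 : IsPGroup 2 (amalD S P x1 x) := (core_isPGroup P).to_le inf_le_left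
  have hn : ∀ d ∈ amalD S P x1 x, x * d * x⁻¹ ∈ amalD S P x1 x := by
    intro d hd
    obtain ⟨d0, d1, d2, d3⟩ := a.mem_D.mp hd
    obtain ⟨s1, s2, s3, s4⟩ := a.rot_eq d
    exact a.mem_D.mpr ⟨(a.rotQ d0).1, d2, by rwa [s1], by rwa [s3]⟩
  obtain ⟨d, hd', hcomm⟩ := fixed_in_coset hD2 a.two.order hn hd
  obtain ⟨d0, d1, -, -⟩ := a.mem_D.mp hd'
  have h := a.cenV (mul_mem he d0) fun v hv => a.fixW (mul_mem he d0) hcomm (a.vW hv)
  exact h0 (by simpa using mul_mem h (inv_mem d1))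

theorem rot {d : G} (hd : d ∈ pCoreOf 2 P) (h0 : d ∈ pCoreOf 2 P1) :
    (x * d * x⁻¹ ∈ pCoreOf 2 P1 ↔ x⁻¹ * d * x ∈ pCoreOf 2 P1) := by
  obtain ⟨hr1, hr2⟩ := a.rotQ hd
  obtain ⟨r1, r2, r3, r4⟩ := a.rot_eq d
  by_contra hne
  set e := d * (x * d * x⁻¹) * (x⁻¹ * d * x) with he
  have heQ : e ∈ pCoreOf 2 P := mul_mem (mul_mem hd hr1) hr2
  refine a.no_three heQ ?_ ?_ ?_
  · rw [he, a.par1 (mul_mem hd hr1) hr2, a.par1 hd hr1]; tauto
  · have e' : x * e * x⁻¹ =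
        (x * d * x⁻¹) * (x * (x * d * x⁻¹) * x⁻¹) * (x * (x⁻¹ * d * x) * x⁻¹) := by rw [he]; group
    rw [e', r1, r2, a.par1 (mul_mem hr1 hr2) hd, a.par1 hr1 hr2]; tauto
  · have e' : x⁻¹ * e * x =
        (x⁻¹ * d * x) * (x⁻¹ * (x * d * x⁻¹) * x) * (x⁻¹ * (x⁻¹ * d * x) * x) := by rw [he]; group
    rw [e', r3, r4, a.par1 (mul_mem hr2 hd) hr1, a.par1 hr2 hd]; tauto

theorem out {q : G} (hq : q ∈ pCoreOf 2 P) (h0 : q ∉ pCoreOf 2 P1) :
    (x * q * x⁻¹ ∈ pCoreOf 2 P1 ↔ x⁻¹ * q * x ∉ pCoreOf 2 P1) := by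
  constructor
  · intro h1 h2
    obtain ⟨r1, r2, r3, r4⟩ := a.rot_eq q
    have := (a.rot (a.rotQ hq).1 h1).mp (by rwa [r1])
    rw [r3] at this
    exact h0 this
  · intro h2
    by_contra h1
    exact a.no_three hq h0 h1 h2

theorem card_D : Nat.card S = 8 * Nat.card (amalD S P x1 x) := by
  obtain ⟨q, hq, hq1⟩ := a.exists_q
  have hA : Nat.card (pCoreOf 2 P) = 2 * Nat.card ↥(pCoreOf 2 P ⊓ pCoreOf 2 P1) :=
    card_two_mul inf_le_left ⟨q, hq, fun h => hq1 h.2⟩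
      fun b hb c hc hb' hc' => ⟨mul_mem hb hc, (a.par1 hb hc).mpr
        (iff_of_false (fun h => hb' ⟨hb, h⟩) (fun h => hc' ⟨hc, h⟩))⟩
  have hout : ∀ b ∈ pCoreOf 2 P ⊓ pCoreOf 2 P1, b ∉ amalD S P x1 x →
      x * b * x⁻¹ ∉ pCoreOf 2 P1 ∧ x⁻¹ * b * x ∉ pCoreOf 2 P1 := by
    intro b hb hbD
    have h' := a.rot hb.1 hb.2
    constructor <;> intro hh <;> exact hbD (a.mem_D.mpr ⟨hb.1, hb.2, by tauto, by tauto⟩)
  have hD : Nat.card ↥(pCoreOf 2 P ⊓ pCoreOf 2 P1) = 2 * Nat.card (amalD S P x1 x) := by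
    refine card_two_mul (fun d hd => ⟨(a.mem_D.mp hd).1, (a.mem_D.mp hd).2.1⟩) ?_ fun b hb c hc hb' hc' => ?_
    · obtain ⟨hr1, hr2⟩ := a.rotQ hq
      obtain ⟨r1, r2, r3, r4⟩ := a.rot_eq q
      by_cases h1 : x * q * x⁻¹ ∈ pCoreOf 2 P1
      · refine ⟨_, ⟨hr1, h1⟩, fun hd => ?_⟩
        have := (a.mem_D.mp hd).2.2.2
        rw [r3] at this; exact hq1 this
      · have h2 : x⁻¹ * q * x ∈ pCoreOf 2 P1 := by
          by_contra h2; exact h1 ((a.out hq hq1).mpr h2)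
        refine ⟨_, ⟨hr2, h2⟩, fun hd => ?_⟩
        have := (a.mem_D.mp hd).2.2.1
        rw [r2] at this; exact hq1 this
    · obtain ⟨b1, b2⟩ := hout b hb hb'
      obtain ⟨c1, c2⟩ := hout c hc hc'
      refine a.mem_D.mpr ⟨mul_mem hb.1 hc.1, mul_mem hb.2 hc.2, ?_, ?_⟩
      · have e' : x * (b * c) * x⁻¹ = (x * b * x⁻¹) * (x * c * x⁻¹) := by group
        rw [e', a.par1 (a.rotQ hb.1).1 (a.rotQ hc.1).1]
        exact iff_of_false b1 c1
      · have e' : x⁻¹ * (b * c) * x = (x⁻¹ * b * x) * (x⁻¹ * c * x) := by group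
        rw [e', a.par1 (a.rotQ hb.1).2 (a.rotQ hc.1).2]
        exact iff_of_false b2 c2
  have := a.two.card_two
  omega

theorem D_normalizer : P ≤ Subgroup.normalizer (amalD S P x1 x : Set G) := fun g hg =>
  mem_normalizer_of_cj_le fun d hd => ⟨a.two.conjQ hg hd.1, fun w hw => by
    have hw' : g⁻¹ * w * g ∈ amalW S x1 x := by simpa using a.w_conj (inv_mem hg) hw
    have e : g⁻¹ * w * g * d = d * (g⁻¹ * w * g) := hd.2 _ hw'
    calc w * (g * d * g⁻¹) = g * ((g⁻¹ * w * g) * d) * g⁻¹ := by group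
      _ = g * (d * (g⁻¹ * w * g)) * g⁻¹ := by rw [e]
      _ = g * d * g⁻¹ * w := by group⟩

theorem W_le_D {w : G} (hw : w ∈ amalW S x1 x) : w ∈ amalD S P x1 x :=
  ⟨a.wQ hw, fun k hk => a.w_comm hk hw⟩

theorem card_S : Nat.card S ≤ 128 := by
  have h := Cfsg.Agent.S2751.result P1 P (by rw [a.inf]; exact a.one.sylow)
    (by rw [a.inf]; exact a.two.sylow) a.one.top a.two.top fun N hN h1 h2 => by
    rw [a.inf] at hN
    exact a.core N hN ((Subgroup.normal_subgroupOf_iff_le_normalizer (hN.trans a.one.le)).mp h1)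
      ((Subgroup.normal_subgroupOf_iff_le_normalizer (hN.trans a.two.le)).mp h2)
  rw [a.inf] at h
  exact h

theorem V_ne_W : amalV S x1 ≠ amalW S x1 x := by
  intro e
  obtain ⟨v, hv, hvZ⟩ := a.exists_v
  have := a.eq_bot (N := amalV S x1) (fun w hw => a.vS hw) (fun s hs w hw => a.v_conjS hs hw)
    (fun w hw => a.v_conj1 hw) fun w hw => by
      rw [e] at hw ⊢; exact a.w_conjx hw
  rw [this, Subgroup.mem_bot] at hv
  exact hvZ (hv ▸ one_mem _)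

theorem small : (∃ z ∈ centralInvol S, z ≠ 1 ∧ ∀ b ∈ centralInvol S, b = 1 ∨ b = z) ∧
    8 ≤ Nat.card (amalW S x1 x) ∧ Nat.card (amalD S P x1 x) ≤ 16 := by
  classical
  have hD : Nat.card (amalD S P x1 x) ≤ 16 := by
    have := a.card_D; have := a.card_S; omega
  have hWD : Nat.card (amalW S x1 x) ≤ Nat.card (amalD S P x1 x) :=
    Subgroup.card_le_of_le fun w hw => a.W_le_D hw
  have hVW : 2 * Nat.card (amalV S x1) ≤ Nat.card (amalW S x1 x) :=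
    card_lt_double (lt_of_le_of_ne (fun v hv => a.vW hv) a.V_ne_W)
  have hinj : Nat.card (centralInvol S) * Nat.card (centralInvol S) ≤ Nat.card (amalV S x1) := by
    rw [← Nat.card_prod]
    refine Nat.card_le_card_of_injective (fun p : centralInvol S × centralInvol S =>
      (⟨(p.1 : G) * (x1 * p.2 * x1⁻¹), mul_mem (a.zV p.1.2) (a.zaV p.2.2)⟩ : amalV S x1)) ?_
    rintro ⟨⟨b, hb⟩, ⟨c, hc⟩⟩ ⟨⟨b', hb'⟩, ⟨c', hc'⟩⟩ e
    have e' : b * (x1 * c * x1⁻¹) = b' * (x1 * c' * x1⁻¹) := congrArg Subtype.val e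
    have e2 : b'⁻¹ * b = x1 * (c' * c⁻¹) * x1⁻¹ := by
      calc b'⁻¹ * b = b'⁻¹ * (b * (x1 * c * x1⁻¹)) * (x1 * c⁻¹ * x1⁻¹) := by group
        _ = _ := by rw [e']; group
    have h1 := a.inter (mul_mem (inv_mem hb') hb) (mul_mem hc' (inv_mem hc)) e2
    have hcc : c' = c := mul_inv_eq_one.mp h1
    subst hcc
    have hbb : b = b' := mul_right_cancel e'
    subst hbb
    rfl
  obtain ⟨z, hz, hz1⟩ := a.exists_z
  have hZ1 : 1 < Nat.card (centralInvol S) :=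
    (Subgroup.one_lt_card_iff_ne_bot _).mpr fun e => hz1 (by rw [e] at hz; exact Subgroup.mem_bot.mp hz)
  have hZ : Nat.card (centralInvol S) = 2 := by nlinarith
  refine ⟨⟨z, hz, hz1, fun b hb => ?_⟩, by nlinarith, hD⟩
  obtain ⟨y, -, huniq⟩ := (Nat.card_eq_two_iff' (1 : centralInvol S)).mp hZ
  by_cases hb1 : b = 1
  · exact Or.inl hb1
  · exact Or.inr (congrArg Subtype.val ((huniq ⟨b, hb⟩ fun e => hb1 (congrArg Subtype.val e)).trans
      (huniq ⟨z, hz⟩ fun e => hz1 (congrArg Subtype.val e)).symm))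

/-! ### The conjugates of `amalW` under `x1` -/

theorem wS {w : G} (hw : w ∈ amalW S x1 x) : w ∈ S := a.two.qle (a.wQ hw)

theorem w1_Q1 {w : G} (hw : w ∈ amalW S x1 x) :
    x1 * w * x1⁻¹ ∈ pCoreOf 2 P1 ∧ x1⁻¹ * w * x1 ∈ pCoreOf 2 P1 :=
  ⟨a.one.conjQ a.one.mem (a.wQ1 hw), by simpa using a.one.conjQ (inv_mem a.one.mem) (a.wQ1 hw)⟩

theorem w1_conjQ1 {q w : G} (hq : q ∈ pCoreOf 2 P1) (hw : w ∈ amalW S x1 x) :
    (∃ w' ∈ amalW S x1 x, q * (x1 * w * x1⁻¹) * q⁻¹ = x1 * w' * x1⁻¹) ∧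
      ∃ w' ∈ amalW S x1 x, q * (x1⁻¹ * w * x1) * q⁻¹ = x1⁻¹ * w' * x1 := by
  have h1 : x1⁻¹ * q * x1 ∈ pCoreOf 2 P1 := by simpa using a.one.conjQ (inv_mem a.one.mem) hq
  have h2 := a.one.conjQ a.one.mem hq
  exact ⟨⟨_, a.w_conj (a.two.le (a.one.qle h1)) hw, by group⟩,
    ⟨_, a.w_conj (a.two.le (a.one.qle h2)) hw, by group⟩⟩

theorem w1_swap {s w : G} (hs : s ∈ S) (hsQ : s ∉ pCoreOf 2 P1) (hw : w ∈ amalW S x1 x) :
    (∃ w' ∈ amalW S x1 x, s * (x1 * w * x1⁻¹) * s⁻¹ = x1⁻¹ * w' * x1) ∧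
      ∃ w' ∈ amalW S x1 x, s * (x1⁻¹ * w * x1) * s⁻¹ = x1 * w' * x1⁻¹ := by
  have hw' := a.w_conj (a.two.le hs) hw
  obtain ⟨q, hq, e⟩ := a.one.swap hs hsQ
  obtain ⟨q', hq', e'⟩ := a.one.swap_inv hs hsQ
  obtain ⟨-, w1, hw1, e1⟩ := a.w1_conjQ1 hq hw'
  obtain ⟨⟨w2, hw2, e2⟩, -⟩ := a.w1_conjQ1 hq' hw'
  constructor
  · refine ⟨w1, hw1, ?_⟩
    calc s * (x1 * w * x1⁻¹) * s⁻¹ = (s * x1 * s⁻¹) * (s * w * s⁻¹) * (s * x1 * s⁻¹)⁻¹ := by group
      _ = q * (x1⁻¹ * (s * w * s⁻¹) * x1) * q⁻¹ := by rw [e]; group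
      _ = _ := e1
  · refine ⟨w2, hw2, ?_⟩
    calc s * (x1⁻¹ * w * x1) * s⁻¹ = (s * x1⁻¹ * s⁻¹) * (s * w * s⁻¹) * (s * x1⁻¹ * s⁻¹)⁻¹ := by group
      _ = q' * (x1 * (s * w * s⁻¹) * x1⁻¹) * q'⁻¹ := by rw [e']; group
      _ = _ := e2

theorem not_both (h8 : 8 ≤ Nat.card (amalW S x1 x)) (hD : Nat.card (amalD S P x1 x) ≤ 16)
    (h1 : ∀ w ∈ amalW S x1 x, x1 * w * x1⁻¹ ∈ pCoreOf 2 P)
    (h2 : ∀ w ∈ amalW S x1 x, x1⁻¹ * w * x1 ∈ pCoreOf 2 P) : False := by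
  have hcomm : ∀ v ∈ amalW S x1 x, ∀ w ∈ amalW S x1 x,
      v * (x1 * w * x1⁻¹) = (x1 * w * x1⁻¹) * v := by
    intro v hv w hw
    set k := x1 * w * x1⁻¹ with hk
    set c := v * k * v⁻¹ * k⁻¹ with hc
    have hcZ : c ∈ centralInvol S := by
      have h' := (a.wT hv).2.2 k (h1 w hw)
      exact h'
    have hcZ' : x1⁻¹ * c * x1 ∈ centralInvol S := by
      have h' := a.commW (h2 v hv) hw
      convert h' using 1
      rw [hc, hk]; group
    have h3 := a.inter hcZ hcZ' (show c = x1 * (x1⁻¹ * c * x1) * x1⁻¹ by group)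
    have hc1 : c = 1 := by
      calc c = x1 * (x1⁻¹ * c * x1) * x1⁻¹ := by group
        _ = 1 := by rw [h3]; group
    calc v * k = c * (k * v) := by rw [hc]; group
      _ = k * v := by rw [hc1, one_mul]
  have hcomm2 : ∀ v ∈ amalW S x1 x, ∀ w ∈ amalW S x1 x,
      v * (x1⁻¹ * w * x1) = (x1⁻¹ * w * x1) * v := by
    intro v hv w hw
    have e := hcomm w hw v hv
    calc v * (x1⁻¹ * w * x1) = x1⁻¹ * ((x1 * v * x1⁻¹) * w) * x1 := by group
      _ = x1⁻¹ * (w * (x1 * v * x1⁻¹)) * x1 := by rw [e]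
      _ = (x1⁻¹ * w * x1) * v := by group
  set W := amalW S x1 x with hW
  set U := W ⊔ W.map (MulAut.conj x1).toMonoidHom ⊔ W.map (MulAut.conj x1⁻¹).toMonoidHom with hU
  have hUle : ∀ H : Subgroup G, (∀ w ∈ W, w ∈ H) → (∀ w ∈ W, x1 * w * x1⁻¹ ∈ H) →
      (∀ w ∈ W, x1⁻¹ * w * x1 ∈ H) → U ≤ H := fun H k0 k1 k2 =>
    sup_le (sup_le k0 (cj_map_le.mpr k1)) (cj_map_le.mpr fun w hw => by simpa using k2 w hw)
  have u0 : ∀ w ∈ W, w ∈ U := fun w hw => Subgroup.mem_sup_left (Subgroup.mem_sup_left hw)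
  have u1 : ∀ w ∈ W, x1 * w * x1⁻¹ ∈ U := fun w hw =>
    Subgroup.mem_sup_left (Subgroup.mem_sup_right ⟨w, hw, rfl⟩)
  have u2 : ∀ w ∈ W, x1⁻¹ * w * x1 ∈ U := fun w hw => Subgroup.mem_sup_right ⟨w, hw, by simp⟩
  have hUD : U ≤ amalD S P x1 x := hUle _ (fun w hw => a.W_le_D hw)
    (fun w hw => ⟨h1 w hw, fun v hv => hcomm v hv w hw⟩)
    (fun w hw => ⟨h2 w hw, fun v hv => hcomm2 v hv w hw⟩)
  have hUg : ∀ g : G, (∀ w ∈ W, g * w * g⁻¹ ∈ U ∧ g * (x1 * w * x1⁻¹) * g⁻¹ ∈ U ∧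
      g * (x1⁻¹ * w * x1) * g⁻¹ ∈ U) → ∀ v ∈ U, g * v * g⁻¹ ∈ U := fun g hg v hv =>
    hUle (U.comap (MulAut.conj g).toMonoidHom) (fun w hw => (hg w hw).1) (fun w hw => (hg w hw).2.1)
      (fun w hw => (hg w hw).2.2) hv
  have hU1 : P1 ≤ Subgroup.normalizer (U : Set G) := by
    refine a.one.le_normalizer (fun s hs => hUg s fun w hw => ?_) (hUg x1 fun w hw => ?_)
    · refine ⟨u0 _ (a.w_conj (a.two.le hs) hw), ?_⟩
      by_cases hsQ : s ∈ pCoreOf 2 P1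
      · obtain ⟨⟨w', hw', e⟩, ⟨w'', hw'', e'⟩⟩ := a.w1_conjQ1 hsQ hw
        rw [e, e']; exact ⟨u1 _ hw', u2 _ hw''⟩
      · obtain ⟨⟨w', hw', e⟩, ⟨w'', hw'', e'⟩⟩ := a.w1_swap hs hsQ hw
        rw [e, e']; exact ⟨u2 _ hw', u1 _ hw''⟩
    · refine ⟨u1 w hw, ?_, ?_⟩
      · have e : x1 * (x1 * w * x1⁻¹) * x1⁻¹ = x1⁻¹ * w * x1 := by
          calc x1 * (x1 * w * x1⁻¹) * x1⁻¹ = (x1 * x1) * w * (x1 * x1)⁻¹ := by group
            _ = _ := by rw [← a.one.inv_eq, inv_inv]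
        rw [e]; exact u2 w hw
      · have e : x1 * (x1⁻¹ * w * x1) * x1⁻¹ = w := by group
        rw [e]; exact u0 w hw
  obtain ⟨z, hz, hz1⟩ := a.exists_z
  have hzW : z ∈ W := a.vW (a.zV hz)
  by_cases hUW : U = W
  · have := a.core W (fun w hw => a.wS hw) (hUW ▸ hU1) a.w_normalizer
    rw [this, Subgroup.mem_bot] at hzW
    exact hz1 hzW
  have h16 : 2 * Nat.card W ≤ Nat.card U := card_lt_double (lt_of_le_of_ne u0 (Ne.symm hUW))
  have e : U = amalD S P x1 x := Subgroup.eq_of_le_of_card_ge hUD (by omega)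
  have hbot := a.core (amalD S P x1 x) (fun d hd => a.two.qle hd.1) (e ▸ hU1) a.D_normalizer
  have hzD := a.W_le_D hzW
  rw [hbot, Subgroup.mem_bot] at hzD
  exact hz1 hzD

theorem exists_outside (h8 : 8 ≤ Nat.card (amalW S x1 x)) (hD : Nat.card (amalD S P x1 x) ≤ 16) :
    ∃ w ∈ amalW S x1 x, x1 * w * x1⁻¹ ∉ pCoreOf 2 P ∧ x1⁻¹ * w * x1 ∉ pCoreOf 2 P := by
  obtain ⟨q, hq, hq1⟩ := a.exists_q
  have hqP : q ∈ P := core_le P hq
  have h12 : (∀ w ∈ amalW S x1 x, x1 * w * x1⁻¹ ∈ pCoreOf 2 P) ↔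
      ∀ w ∈ amalW S x1 x, x1⁻¹ * w * x1 ∈ pCoreOf 2 P := by
    constructor <;> intro h w hw
    · obtain ⟨-, w', hw', e⟩ := a.w1_swap (a.two.qle hq) hq1 hw
      exact (a.two.conjQ_iff hqP).mp (e ▸ h w' hw')
    · obtain ⟨⟨w', hw', e⟩, -⟩ := a.w1_swap (a.two.qle hq) hq1 hw
      exact (a.two.conjQ_iff hqP).mp (e ▸ h w' hw')
  obtain ⟨b, hb, hb1⟩ : ∃ b ∈ amalW S x1 x, x1 * b * x1⁻¹ ∉ pCoreOf 2 P := by
    by_contra hno
    push Not at hno
    exact a.not_both h8 hD hno (h12.mp hno)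
  obtain ⟨c, hc, hc2⟩ : ∃ c ∈ amalW S x1 x, x1⁻¹ * c * x1 ∉ pCoreOf 2 P := by
    by_contra hno
    push Not at hno
    exact a.not_both h8 hD (h12.mpr hno) hno
  by_cases hb2 : x1⁻¹ * b * x1 ∈ pCoreOf 2 P
  swap
  · exact ⟨b, hb, hb1, hb2⟩
  by_cases hc1 : x1 * c * x1⁻¹ ∈ pCoreOf 2 P
  swap
  · exact ⟨c, hc, hc1, hc2⟩
  refine ⟨b * c, mul_mem hb hc, ?_, ?_⟩
  · rw [show x1 * (b * c) * x1⁻¹ = (x1 * b * x1⁻¹) * (x1 * c * x1⁻¹) by group,
      a.two.par (a.one.qle (a.w1_Q1 hb).1) (a.one.qle (a.w1_Q1 hc).1)]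
    tauto
  · rw [show x1⁻¹ * (b * c) * x1 = (x1⁻¹ * b * x1) * (x1⁻¹ * c * x1) by group,
      a.two.par (a.one.qle (a.w1_Q1 hb).2) (a.one.qle (a.w1_Q1 hc).2)]
    tauto

/-- A noncommuting pair in `amalW` and the conjugate of `amalW`. -/
theorem exists_pair (h8 : 8 ≤ Nat.card (amalW S x1 x)) (hD : Nat.card (amalD S P x1 x) ≤ 16) :
    ∃ w ∈ amalW S x1 x, x1 * w * x1⁻¹ ∉ pCoreOf 2 P ∧
      ∃ b ∈ pCoreOf 2 P1, b ∉ pCoreOf 2 P ∧ b * w = w * b := by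
  obtain ⟨w, hw, hw1, hw2⟩ := a.exists_outside h8 hD
  set k := x1 * w * x1⁻¹ with hk
  have hkQ1 : k ∈ pCoreOf 2 P1 := (a.w1_Q1 hw).1
  have hkS := a.one.qle hkQ1
  have hkP := a.two.le hkS
  have hkP1 := core_le P1 hkQ1
  have hkk : k * k = 1 := by
    calc k * k = x1 * (w * w) * x1⁻¹ := by rw [hk]; group
      _ = 1 := by rw [a.w_sq hw]; group
  have hki : k⁻¹ = k := inv_eq_of_mul_eq_one_left hkk
  obtain ⟨q, hq, hq1⟩ := a.exists_q
  have hqS := a.two.qle hq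
  have hq' : k * q * k⁻¹ ∈ pCoreOf 2 P := a.two.conjQ hkP hq
  set r0 := q * (k * q * k⁻¹) with hr0
  have hr0Q : r0 ∈ pCoreOf 2 P := mul_mem hq hq'
  have hr1 : x * r0 * x⁻¹ ∉ pCoreOf 2 P1 := by
    have e : x * r0 * x⁻¹ = (x * q * x⁻¹) * (x * (k * q * k⁻¹) * x⁻¹) := by rw [hr0]; group
    rw [e, a.par1 (a.rotQ hq).1 (a.rotQ hq').1]
    obtain ⟨q0, hq0, es⟩ := a.two.swap (inv_mem hkS) (fun h => hw1 (inv_mem_iff.mp h))
    rw [inv_inv] at es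
    have hx : x * k = k * (q0 * x⁻¹) := by rw [← es]; group
    have e2 : x * (k * q * k⁻¹) * x⁻¹ = k * (q0 * (x⁻¹ * q * x) * q0⁻¹) * k⁻¹ := by
      calc x * (k * q * k⁻¹) * x⁻¹ = (x * k) * q * (x * k)⁻¹ := by group
        _ = _ := by rw [hx]; group
    have h3 : x * (k * q * k⁻¹) * x⁻¹ ∈ pCoreOf 2 P1 ↔ x⁻¹ * q * x ∈ pCoreOf 2 P1 := by
      rw [e2, a.one.conjQ_iff hkP1, a.one.conjQ_iff (a.one.le (a.two.qle hq0))]
    rw [h3]
    have := a.out hq hq1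
    tauto
  have hr02 : r0 * r0 = 1 := by
    have h4 := a.six.pgroup_pow_four a.two.frame.two (mul_mem hqS hkS)
    calc r0 * r0 = (q * k) ^ 4 := by
          rw [hr0, hki]; simp only [pow_succ, pow_zero, one_mul, mul_assoc]
      _ = 1 := h4
  set r := x * r0 * x⁻¹ with hr
  have hrQ : r ∈ pCoreOf 2 P := (a.rotQ hr0Q).1
  have hrS := a.two.qle hrQ
  have hr2 : r * r = 1 := by
    calc r * r = x * (r0 * r0) * x⁻¹ := by rw [hr]; group
      _ = 1 := by rw [hr02]; group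
  have hri : r⁻¹ = r := inv_eq_of_mul_eq_one_left hr2
  have hcomm : k * (r * k * r⁻¹) = (r * k * r⁻¹) * k := by
    have h4 := a.six.pgroup_pow_four a.two.frame.two (mul_mem hrS hkS)
    have hll : (r * k * r⁻¹) * (r * k * r⁻¹) = 1 := by
      calc (r * k * r⁻¹) * (r * k * r⁻¹) = r * (k * k) * r⁻¹ := by group
        _ = 1 := by rw [hkk]; group
    have e : (r * k * r⁻¹ * k) * (r * k * r⁻¹ * k) = 1 := by
      rw [hri, ← h4]; simp only [pow_succ, pow_zero, one_mul, mul_assoc]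
    set l := r * k * r⁻¹ with hl
    calc k * l = l⁻¹ * ((l * k) * (l * k)) * k⁻¹ := by group
      _ = l⁻¹ * k⁻¹ := by rw [e, mul_one]
      _ = l * k := by rw [hki, inv_eq_of_mul_eq_one_left hll]
  obtain ⟨⟨w', hw', e'⟩, -⟩ := a.w1_swap hrS hr1 hw
  rw [← hk] at e'
  set b := x1⁻¹ * (r * k * r⁻¹) * x1 with hb
  have hbQ1 : b ∈ pCoreOf 2 P1 := by
    have e : b = x1 * w' * x1⁻¹ := by
      calc b = (x1 * x1)⁻¹ * w' * (x1 * x1) := by rw [hb, e']; group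
        _ = _ := by rw [← a.one.inv_eq, inv_inv]
    rw [e]; exact (a.w1_Q1 hw').1
  refine ⟨w, hw, hw1, b, hbQ1, ?_, ?_⟩
  · obtain ⟨q0, hq0, es⟩ := a.one.swap hrS hr1
    have e1 : x1⁻¹ * r = q0⁻¹ * r * x1 := by
      calc x1⁻¹ * r = q0⁻¹ * (q0 * x1⁻¹) * r := by group
        _ = q0⁻¹ * r * x1 := by rw [← es]; group
    have hg : q0⁻¹ * r ∈ P := mul_mem (inv_mem (a.two.le (a.one.qle hq0))) (a.two.le hrS)
    have e2 : b = q0⁻¹ * r * (x1 * k * x1⁻¹) * (q0⁻¹ * r)⁻¹ := by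
      calc b = (x1⁻¹ * r) * k * (x1⁻¹ * r)⁻¹ := by rw [hb]; group
        _ = _ := by rw [e1]; group
    rw [e2, a.two.conjQ_iff hg]
    intro hh
    refine hw2 ?_
    convert hh using 1
    rw [hk]
    calc x1⁻¹ * w * x1 = (x1 * x1) * w * (x1 * x1)⁻¹ := by rw [← a.one.inv_eq, inv_inv]
      _ = _ := by group
  · calc b * w = x1⁻¹ * ((r * k * r⁻¹) * k) * x1 := by rw [hb, hk]; group
      _ = x1⁻¹ * (k * (r * k * r⁻¹)) * x1 := by rw [hcomm]
      _ = w * b := by rw [hb, hk]; group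

theorem false : False := by
  obtain ⟨⟨z, hz, hz1, hZ⟩, h8, hD⟩ := a.small
  obtain ⟨w, hw, hw1, b, hb1, hbQ, hbw⟩ := a.exists_pair h8 hD
  have hbS := a.one.qle hb1
  have hbP := a.two.le hbS
  set u := x1 * z * x1⁻¹ with hu
  have huV : u ∈ amalV S x1 := a.zaV hz
  set u1 := x * u * x⁻¹ with hu1
  set u2 := x⁻¹ * u * x with hu2
  have h1W : u1 ∈ amalW S x1 x := a.vxW huV
  have h2W : u2 ∈ amalW S x1 x := a.vxxW huV
  set K : G → Prop := fun g => x1 * g * x1⁻¹ ∈ pCoreOf 2 P with hK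
  have hKS : ∀ v ∈ amalW S x1 x, x1 * v * x1⁻¹ ∈ S := fun v hv => a.one.qle (a.w1_Q1 hv).1
  have hKmul : ∀ v ∈ amalW S x1 x, ∀ k ∈ amalW S x1 x, (K (v * k) ↔ (K v ↔ K k)) := by
    intro v hv k hk
    show x1 * (v * k) * x1⁻¹ ∈ pCoreOf 2 P ↔ _
    rw [show x1 * (v * k) * x1⁻¹ = (x1 * v * x1⁻¹) * (x1 * k * x1⁻¹) by group]
    exact a.two.par (hKS v hv) (hKS k hk)
  have hKV : ∀ v ∈ amalV S x1, K v := fun v hv => a.v_le (a.v_conj1 hv)
  have hKb : ∀ v : G, K (b * v * b⁻¹) ↔ K v := by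
    intro v
    show x1 * (b * v * b⁻¹) * x1⁻¹ ∈ pCoreOf 2 P ↔ _
    rw [show x1 * (b * v * b⁻¹) * x1⁻¹ = (x1 * b * x1⁻¹) * (x1 * v * x1⁻¹) * (x1 * b * x1⁻¹)⁻¹ by group]
    exact a.two.conjQ_iff (a.two.le (a.one.qle (a.one.conjQ a.one.mem hb1)))
  obtain ⟨q, hq, es⟩ := a.two.swap hbS hbQ
  obtain ⟨q', hq', es'⟩ := a.two.swap_inv hbS hbQ
  have hbu : b * u * b⁻¹ = u := by rw [← (a.za_cI hz).2.2 b hb1, mul_inv_cancel_right]
  obtain ⟨c, hc, e12⟩ : ∃ c ∈ centralInvol S, b * u1 * b⁻¹ = c * u2 := by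
    refine ⟨_, a.commW hq h2W, ?_⟩
    calc b * u1 * b⁻¹ = (b * x * b⁻¹) * (b * u * b⁻¹) * (b * x * b⁻¹)⁻¹ := by rw [hu1]; group
      _ = q * u2 * q⁻¹ := by rw [es, hbu, hu2]; group
      _ = q * u2 * q⁻¹ * u2⁻¹ * u2 := by group
  obtain ⟨d, hd, e21⟩ : ∃ d ∈ centralInvol S, b * u2 * b⁻¹ = d * u1 := by
    refine ⟨_, a.commW hq' h1W, ?_⟩
    calc b * u2 * b⁻¹ = (b * x⁻¹ * b⁻¹) * (b * u * b⁻¹) * (b * x⁻¹ * b⁻¹)⁻¹ := by rw [hu2]; group
      _ = q' * u1 * q'⁻¹ := by rw [es', hbu, hu1]; group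
      _ = q' * u1 * q'⁻¹ * u1⁻¹ * u1 := by group
  have hcW := a.vW (a.zV hc)
  have hdW := a.vW (a.zV hd)
  have hiff : K u2 ↔ K u1 := by
    rw [← hKb u1, e12, hKmul c hcW u2 h2W]
    exact ⟨fun h => iff_of_true (hKV c (a.zV hc)) h, fun h => h.mp (hKV c (a.zV hc))⟩
  -- the generators
  have gens : ∀ H : Subgroup G, (∀ v ∈ amalV S x1, v ∈ H) → u1 ∈ H → u2 ∈ H → amalW S x1 x ≤ H := by
    intro H k0 k1 k2
    have hzH : ∀ v ∈ centralInvol S, v ∈ H := fun v hv => k0 v (a.zV hv)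
    refine a.w_le k0 (fun v hv => ?_) (fun v hv => ?_)
    · obtain ⟨β, hβ, γ, hγ, rfl⟩ := a.memV.mp hv
      rw [show x * (β * (x1 * γ * x1⁻¹)) * x⁻¹ = (x * β * x⁻¹) * (x * (x1 * γ * x1⁻¹) * x⁻¹) by group,
        a.zx hβ]
      refine mul_mem (hzH β hβ) ?_
      rcases hZ γ hγ with rfl | rfl
      · simp [one_mem]
      · exact k1
    · obtain ⟨β, hβ, γ, hγ, rfl⟩ := a.memV.mp hv
      have hfx : x⁻¹ * β * x = β := by
        calc x⁻¹ * β * x = x⁻¹ * (x * β * x⁻¹) * x := by rw [a.zx hβ]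
          _ = β := by group
      rw [show x⁻¹ * (β * (x1 * γ * x1⁻¹)) * x = (x⁻¹ * β * x) * (x⁻¹ * (x1 * γ * x1⁻¹) * x) by group, hfx]
      refine mul_mem (hzH β hβ) ?_
      rcases hZ γ hγ with rfl | rfl
      · simp [one_mem]
      · exact k2
  have hnu1 : ¬ K u1 := by
    intro hk1
    let H : Subgroup G :=
      { carrier := {v | v ∈ amalW S x1 x ∧ K v}
        one_mem' := ⟨one_mem _, hKV 1 (one_mem _)⟩
        mul_mem' := fun {v k} hv hk => ⟨mul_mem hv.1 hk.1, (hKmul v hv.1 k hk.1).mpr (iff_of_true hv.2 hk.2)⟩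
        inv_mem' := fun {v} hv => by rw [inv_eq_of_mul_eq_one_left (a.w_sq hv.1)]; exact hv }
    exact hw1 ((gens H (fun v hv => ⟨a.vW hv, hKV v hv⟩) ⟨h1W, hk1⟩ ⟨h2W, hiff.mpr hk1⟩ hw).2)
  have hnu2 : ¬ K u2 := fun h => hnu1 (hiff.mp h)
  set φ : G → G := fun v => b * v * b⁻¹ * v⁻¹ with hφ
  have hφW : ∀ v ∈ amalW S x1 x, φ v ∈ amalW S x1 x := fun v hv =>
    mul_mem (a.w_conj hbP hv) (inv_mem hv)
  have hφmul : ∀ v ∈ amalW S x1 x, ∀ k ∈ amalW S x1 x, φ (v * k) = φ v * φ k := by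
    intro v hv k hk
    calc φ (v * k) = (b * v * b⁻¹) * (φ k) * v⁻¹ := by simp only [hφ]; group
      _ = (b * v * b⁻¹) * (v⁻¹ * φ k) := by rw [mul_assoc, a.w_comm (hφW k hk) (inv_mem hv)]
      _ = φ v * φ k := by rw [← mul_assoc]
  set e := u1 * u2 with he
  have heW : e ∈ amalW S x1 x := mul_mem h1W h2W
  let L : Subgroup G :=
    { carrier := {v | v ∈ amalW S x1 x ∧ (K v → φ v ∈ centralInvol S) ∧
        (¬ K v → φ v * e ∈ centralInvol S)}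
      one_mem' := by
        refine ⟨one_mem _, fun _ => ?_, fun h => absurd (hKV 1 (one_mem _)) h⟩
        simp [hφ, one_mem]
      mul_mem' := fun {v k} hv hk => by
        obtain ⟨hvW, hv1, hv2⟩ := hv
        obtain ⟨hkW, hk1, hk2⟩ := hk
        refine ⟨mul_mem hvW hkW, fun h => ?_, fun h => ?_⟩
        · rw [hφmul v hvW k hkW]
          rw [hKmul v hvW k hkW] at h
          by_cases hv' : K v
          · exact mul_mem (hv1 hv') (hk1 (h.mp hv'))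
          · have := mul_mem (hv2 hv') (hk2 fun hk' => hv' (h.mpr hk'))
            have e' : φ v * e * (φ k * e) = φ v * φ k := by
              calc φ v * e * (φ k * e) = φ v * ((e * φ k) * e) := by simp only [mul_assoc]
                _ = φ v * (φ k * (e * e)) := by rw [a.w_comm heW (hφW k hkW), mul_assoc (φ k) e e]
                _ = φ v * φ k := by rw [a.w_sq heW, mul_one]
            rwa [e'] at this
        · rw [hφmul v hvW k hkW]
          rw [hKmul v hvW k hkW] at h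
          by_cases hv' : K v
          · rw [mul_assoc]
            exact mul_mem (hv1 hv') (hk2 fun hk' => h (iff_of_true hv' hk'))
          · have hk' : K k := by
              by_contra hk'; exact h (iff_of_false hv' hk')
            rw [mul_assoc, a.w_comm (hφW k hkW) heW, ← mul_assoc]
            exact mul_mem (hv2 hv') (hk1 hk')
      inv_mem' := fun {v} hv => by rw [inv_eq_of_mul_eq_one_left (a.w_sq hv.1)]; exact hv }
  have hL : amalW S x1 x ≤ L := by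
    refine gens L (fun v hv => ⟨a.vW hv, fun _ => ?_, fun h => absurd (hKV v hv) h⟩) ?_ ?_
    · exact a.commV hbS hv
    · refine ⟨h1W, fun h => absurd h hnu1, fun _ => ?_⟩
      have e' : φ u1 * e = c * (u2 * u2) := by
        simp only [hφ, he]
        rw [e12]; group
      rw [e', a.w_sq h2W, mul_one]; exact hc
    · refine ⟨h2W, fun h => absurd h hnu2, fun _ => ?_⟩
      have e' : φ u2 * e = d * (e * e) := by
        simp only [hφ]
        rw [e21, inv_eq_of_mul_eq_one_left (a.w_sq h2W), he]; simp only [mul_assoc]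
      rw [e', a.w_sq heW, mul_one]; exact hd
  have heZ : e ∈ centralInvol S := by
    have h := (hL hw).2.2 hw1
    have e' : φ w = 1 := by simp only [hφ]; rw [hbw]; group
    rwa [e', one_mul] at h
  have h2e : x⁻¹ * u2 * x = u1 := by
    calc x⁻¹ * u2 * x = (x * x)⁻¹ * u * (x * x) := by rw [hu2]; group
      _ = _ := by rw [← a.two.inv_eq, inv_inv]
  have hu1V : u1 ∈ amalV S x1 := by
    have h' : x⁻¹ * e * x = u * u1 := by
      calc x⁻¹ * e * x = (x⁻¹ * u1 * x) * (x⁻¹ * u2 * x) := by rw [he]; group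
        _ = u * u1 := by rw [h2e, hu1]; group
    have hfx : x⁻¹ * e * x = e := by
      calc x⁻¹ * e * x = x⁻¹ * (x * e * x⁻¹) * x := by rw [a.zx heZ]
        _ = e := by group
    rw [hfx] at h'
    have : u⁻¹ * e ∈ amalV S x1 := mul_mem (inv_mem huV) (a.zV heZ)
    rwa [h', inv_mul_cancel_left] at this
  have hu2V : u2 ∈ amalV S x1 := by
    have : u1⁻¹ * e ∈ amalV S x1 := mul_mem (inv_mem hu1V) (a.zV heZ)
    rwa [he, inv_mul_cancel_left] at this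
  exact a.V_ne_W (le_antisymm (fun v hv => a.vW hv) (gens _ (fun v hv => hv) hu1V hu2V))

end Amal

/-- There are no two parabolics with top `S₃` and trivial common core of which exactly one centralises the
central involutions of their Sylow 2-subgroup. -/
theorem Six.no_center_amalgam (h : Six G) {S P1 P : Subgroup G} (hF1 : Frame S P1) (hF : Frame S P)
    (hi1 : (pCoreOf 2 P1).relIndex P1 = 6) (hi : (pCoreOf 2 P).relIndex P = 6) (hinf : P1 ⊓ P = S)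
    (hcore : ∀ N : Subgroup G, N ≤ S → P1 ≤ Subgroup.normalizer (N : Set G) →
      P ≤ Subgroup.normalizer (N : Set G) → N = ⊥)
    (_hmove : ¬ P1 ≤ Subgroup.centralizer (omegaCenterOf S : Set G))
    (hfix : P ≤ Subgroup.centralizer (omegaCenterOf S : Set G)) : False := by
  obtain ⟨x1, h1⟩ := Half.of_frame h hF1 hi1
  obtain ⟨x, h2⟩ := Half.of_frame h hF hi
  rw [omegaCenterOf_eq] at hfix
  exact Amal.false ⟨h, h1, h2, hinf, hcore, fun g hg v hv => ((hfix hg) v hv).symm⟩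

end CfsgLib.SpecSix
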