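import Cfsg.Agent.Lib.SpecSix.AmalgamBase

/-!
Element orders at most six: two parabolics with top `S₃`, one centralising the central involutions of their
Sylow 2-subgroup; the modules generated by these involutions.
-/

set_option autoImplicit false
set_option linter.unusedSectionVars false
set_option linter.style.haveILetI false

namespace CfsgLib.SpecSix

open Cfsg

universe u

variable {G : Type u} [Group G] [Finite G]

/-- The data of the amalgam: `P1` and `P` meet in `S`, have no common normal subgroup in it, and `P` centralises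
the central involutions of `S`. -/
structure Amal (S P1 P : Subgroup G) (x1 x : G) : Prop where
  six : Six G
  one : Half S P1 x1
  two : Half S P x
  inf : P1 ⊓ P = S
  core : ∀ N : Subgroup G, N ≤ S → P1 ≤ Subgroup.normalizer (N : Set G) →
    P ≤ Subgroup.normalizer (N : Set G) → N = ⊥
  fix : ∀ g ∈ P, ∀ v ∈ centralInvol S, g * v = v * g

/-- The involutions generated by the central involutions of `S` and their conjugates under `x1`. -/
def amalV (S : Subgroup G) (x1 : G) : Subgroup G :=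
  centralInvol S ⊔ (centralInvol S).map (MulAut.conj x1).toMonoidHom

/-- The closure of `amalV` under `x`. -/
def amalW (S : Subgroup G) (x1 x : G) : Subgroup G :=
  amalV S x1 ⊔ (amalV S x1).map (MulAut.conj x).toMonoidHom ⊔ (amalV S x1).map (MulAut.conj x⁻¹).toMonoidHom

/-- The elements of `P` acting trivially on its core modulo `Z`. -/
def actMod (P Z : Subgroup G) : Subgroup G where
  carrier := {g | g ∈ P ∧ ∀ q ∈ pCoreOf 2 P, g * q * g⁻¹ * q⁻¹ ∈ Z}
  one_mem' := ⟨one_mem _, fun q _ => by simp [one_mem]⟩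
  mul_mem' := fun {g k} hg hk => ⟨mul_mem hg.1 hk.1, fun q hq => by
    have e : g * k * q * (g * k)⁻¹ * q⁻¹ =
        (g * (k * q * k⁻¹) * g⁻¹ * (k * q * k⁻¹)⁻¹) * (k * q * k⁻¹ * q⁻¹) := by group
    rw [e]
    exact mul_mem (hg.2 _ ((Subgroup.mem_normalizer_iff.mp (le_normalizer_core P hk.1) q).mp hq)) (hk.2 q hq)⟩
  inv_mem' := fun {g} hg => ⟨inv_mem hg.1, fun q hq => by
    have h' := inv_mem (hg.2 _ ((Subgroup.mem_normalizer_iff.mp (le_normalizer_core P (inv_mem hg.1)) q).mp hq))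
    convert h' using 1
    group⟩

namespace Amal

variable {S P1 P : Subgroup G} {x1 x : G} (a : Amal S P1 P x1 x)
include a

theorem zQ {z : G} (hz : z ∈ centralInvol S) : z ∈ pCoreOf 2 P :=
  a.two.frame.cent fun q hq => (hz.2.2 q (a.two.qle hq)).symm

theorem zQ1 {z : G} (hz : z ∈ centralInvol S) : z ∈ pCoreOf 2 P1 :=
  a.one.frame.cent fun q hq => (hz.2.2 q (a.one.qle hq)).symm

theorem zfix {g : G} (hg : g ∈ P) {z : G} (hz : z ∈ centralInvol S) : g * z * g⁻¹ = z := by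
  rw [a.fix g hg z hz, mul_inv_cancel_right]

theorem zfixS {g : G} (hg : g ∈ S) {z : G} (hz : z ∈ centralInvol S) : g * z * g⁻¹ = z :=
  a.zfix (a.two.le hg) hz

theorem zx {z : G} (hz : z ∈ centralInvol S) : x * z * x⁻¹ = z := a.zfix a.two.mem hz

theorem eq_bot {N : Subgroup G} (hN : N ≤ S) (hS : ∀ s ∈ S, ∀ v ∈ N, s * v * s⁻¹ ∈ N)
    (h1 : ∀ v ∈ N, x1 * v * x1⁻¹ ∈ N) (h2 : ∀ v ∈ N, x * v * x⁻¹ ∈ N) : N = ⊥ :=
  a.core N hN (a.one.le_normalizer hS h1) (a.two.le_normalizer hS h2)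

theorem zone {z : G} (hz : z ∈ centralInvol S) (hc : x1 * z * x1⁻¹ = z) : z = 1 := by
  have key : ∀ g : G, g * z * g⁻¹ = z → ∀ v ∈ Subgroup.zpowers z, g * v * g⁻¹ ∈ Subgroup.zpowers z := by
    rintro g hg _ ⟨n, rfl⟩
    refine ⟨n, ?_⟩
    show z ^ n = g * z ^ n * g⁻¹
    rw [← conj_zpow, hg]
  exact Subgroup.zpowers_eq_bot.mp (a.eq_bot (Subgroup.zpowers_le.mpr hz.1)
    (fun s hs => key s (a.zfixS hs hz)) (key x1 hc) (key x (a.zx hz)))

theorem cI_conj {g : G} (hg : g ∈ P1) {v : G} (hv : v ∈ centralInvol (pCoreOf 2 P1)) :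
    g * v * g⁻¹ ∈ centralInvol (pCoreOf 2 P1) := by
  refine ⟨a.one.conjQ hg hv.1, ?_, fun q hq => ?_⟩
  · calc g * v * g⁻¹ * (g * v * g⁻¹) = g * (v * v) * g⁻¹ := by group
      _ = 1 := by rw [hv.2.1]; group
  · have hq' : g⁻¹ * q * g ∈ pCoreOf 2 P1 := by
      simpa using a.one.conjQ (inv_mem hg) hq
    calc g * v * g⁻¹ * q = g * (v * (g⁻¹ * q * g)) * g⁻¹ := by group
      _ = g * ((g⁻¹ * q * g) * v) * g⁻¹ := by rw [hv.2.2 _ hq']
      _ = q * (g * v * g⁻¹) := by group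

theorem z_cI {z : G} (hz : z ∈ centralInvol S) : z ∈ centralInvol (pCoreOf 2 P1) :=
  ⟨a.zQ1 hz, hz.2.1, fun q hq => hz.2.2 q (a.one.qle hq)⟩

theorem za_cI {z : G} (hz : z ∈ centralInvol S) : x1 * z * x1⁻¹ ∈ centralInvol (pCoreOf 2 P1) :=
  a.cI_conj a.one.mem (a.z_cI hz)

theorem zb_cI {z : G} (hz : z ∈ centralInvol S) : x1⁻¹ * z * x1 ∈ centralInvol (pCoreOf 2 P1) := by
  simpa using a.cI_conj (inv_mem a.one.mem) (a.z_cI hz)

theorem swap_za {z s : G} (hz : z ∈ centralInvol S) (hs : s ∈ S) (hsQ : s ∉ pCoreOf 2 P1) :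
    s * (x1 * z * x1⁻¹) * s⁻¹ = x1⁻¹ * z * x1 ∧ s * (x1⁻¹ * z * x1) * s⁻¹ = x1 * z * x1⁻¹ := by
  obtain ⟨q, hq, e⟩ := a.one.swap hs hsQ
  obtain ⟨q', hq', e'⟩ := a.one.swap_inv hs hsQ
  constructor
  · calc s * (x1 * z * x1⁻¹) * s⁻¹ = (s * x1 * s⁻¹) * (s * z * s⁻¹) * (s * x1 * s⁻¹)⁻¹ := by group
      _ = q * (x1⁻¹ * z * x1) * q⁻¹ := by rw [e, a.zfixS hs hz]; group
      _ = (x1⁻¹ * z * x1) * q * q⁻¹ := by rw [(a.zb_cI hz).2.2 q hq]
      _ = x1⁻¹ * z * x1 := by group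
  · calc s * (x1⁻¹ * z * x1) * s⁻¹ = (s * x1⁻¹ * s⁻¹) * (s * z * s⁻¹) * (s * x1⁻¹ * s⁻¹)⁻¹ := by group
      _ = q' * (x1 * z * x1⁻¹) * q'⁻¹ := by rw [e', a.zfixS hs hz]; group
      _ = (x1 * z * x1⁻¹) * q' * q'⁻¹ := by rw [(a.za_cI hz).2.2 q' hq']
      _ = x1 * z * x1⁻¹ := by group

theorem third {z : G} (hz : z ∈ centralInvol S) : x1⁻¹ * z * x1 = z * (x1 * z * x1⁻¹) := by
  have hza := a.za_cI hz
  have hzb := a.zb_cI hz
  have hz' := a.z_cI hz
  set za := x1 * z * x1⁻¹ with hzadef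
  set zb := x1⁻¹ * z * x1 with hzbdef
  have hp : z * za * zb ∈ centralInvol (pCoreOf 2 P1) := mul_mem (mul_mem hz' hza) hzb
  have hpS : z * za * zb ∈ centralInvol S := by
    refine ⟨a.one.qle hp.1, hp.2.1, fun s hs => ?_⟩
    by_cases hsQ : s ∈ pCoreOf 2 P1
    · exact hp.2.2 s hsQ
    obtain ⟨e1, e2⟩ := a.swap_za hz hs hsQ
    rw [← hzadef, ← hzbdef] at e1 e2
    have e : s * (z * za * zb) * s⁻¹ = z * za * zb := by
      calc s * (z * za * zb) * s⁻¹ = (s * z * s⁻¹) * (s * za * s⁻¹) * (s * zb * s⁻¹) := by group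
        _ = z * (zb * za) := by rw [a.zfixS hs hz, e1, e2, mul_assoc]
        _ = z * za * zb := by rw [hzb.2.2 za hza.1, mul_assoc z za zb]
    calc z * za * zb * s = (s * (z * za * zb) * s⁻¹) * s := by rw [e]
      _ = s * (z * za * zb) := by group
  have h1 : x1 * za * x1⁻¹ = zb := by
    calc x1 * za * x1⁻¹ = (x1 * x1) * z * (x1 * x1)⁻¹ := by rw [hzadef]; group
      _ = zb := by rw [← a.one.inv_eq, inv_inv]
  have h2 : x1 * zb * x1⁻¹ = z := by rw [hzbdef]; group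
  have h3 : z * za * zb = 1 := by
    refine a.zone hpS ?_
    calc x1 * (z * za * zb) * x1⁻¹ = (x1 * z * x1⁻¹) * (x1 * za * x1⁻¹) * (x1 * zb * x1⁻¹) := by group
      _ = za * zb * z := by rw [← hzadef, h1, h2]
      _ = z * za * zb := by
        rw [mul_assoc z, hz'.2.2 (za * zb) (mul_mem hza.1 hzb.1)]
  rw [eq_inv_of_mul_eq_one_right h3, mul_inv_rev, inv_eq_of_mul_eq_one_left hza.2.1,
    inv_eq_of_mul_eq_one_left hz.2.1, hza.2.2 z hz'.1]

theorem za_out {z s : G} (hz : z ∈ centralInvol S) (hs : s ∈ S) (hsQ : s ∉ pCoreOf 2 P1) :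
    s * (x1 * z * x1⁻¹) * s⁻¹ = z * (x1 * z * x1⁻¹) := by
  rw [(a.swap_za hz hs hsQ).1, a.third hz]

theorem memV {v : G} : v ∈ amalV S x1 ↔
    ∃ b ∈ centralInvol S, ∃ c ∈ centralInvol S, b * (x1 * c * x1⁻¹) = v := by
  constructor
  · intro hv
    have hle : centralInvol S ≤
        Subgroup.normalizer (((centralInvol S).map (MulAut.conj x1).toMonoidHom : Subgroup G) : Set G) := by
      intro b hb
      refine mem_normalizer_of_cj_le ?_
      rintro _ ⟨c, hc, rfl⟩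
      refine ⟨c, hc, ?_⟩
      simp only [MulEquiv.coe_toMonoidHom, MulAut.conj_apply]
      rw [(a.z_cI hb).2.2 _ (a.za_cI hc).1, mul_inv_cancel_right]
    rw [amalV, ← SetLike.mem_coe, Subgroup.coe_mul_of_left_le_normalizer_right _ _ hle] at hv
    obtain ⟨b, hb, _, ⟨c, hc, rfl⟩, rfl⟩ := Set.mem_mul.mp hv
    exact ⟨b, hb, c, hc, rfl⟩
  · rintro ⟨b, hb, c, hc, rfl⟩
    exact mul_mem (Subgroup.mem_sup_left hb) (Subgroup.mem_sup_right ⟨c, hc, rfl⟩)

theorem zV {z : G} (hz : z ∈ centralInvol S) : z ∈ amalV S x1 := Subgroup.mem_sup_left hz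

theorem zaV {z : G} (hz : z ∈ centralInvol S) : x1 * z * x1⁻¹ ∈ amalV S x1 :=
  Subgroup.mem_sup_right ⟨z, hz, rfl⟩

theorem v_cI {v : G} (hv : v ∈ amalV S x1) : v ∈ centralInvol (pCoreOf 2 P1) := by
  obtain ⟨b, hb, c, hc, rfl⟩ := a.memV.mp hv
  exact mul_mem (a.z_cI hb) (a.za_cI hc)

theorem vS {v : G} (hv : v ∈ amalV S x1) : v ∈ S := a.one.qle (a.v_cI hv).1

theorem v_out {b c s : G} (hb : b ∈ centralInvol S) (hc : c ∈ centralInvol S) (hs : s ∈ S)
    (hsQ : s ∉ pCoreOf 2 P1) : s * (b * (x1 * c * x1⁻¹)) * s⁻¹ = c * (b * (x1 * c * x1⁻¹)) := by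
  calc s * (b * (x1 * c * x1⁻¹)) * s⁻¹ = (s * b * s⁻¹) * (s * (x1 * c * x1⁻¹) * s⁻¹) := by group
    _ = b * (c * (x1 * c * x1⁻¹)) := by rw [a.zfixS hs hb, a.za_out hc hs hsQ]
    _ = c * (b * (x1 * c * x1⁻¹)) := by rw [← mul_assoc, hb.2.2 c hc.1, mul_assoc]

theorem commV {s v : G} (hs : s ∈ S) (hv : v ∈ amalV S x1) : s * v * s⁻¹ * v⁻¹ ∈ centralInvol S := by
  by_cases hsQ : s ∈ pCoreOf 2 P1
  · rw [← (a.v_cI hv).2.2 s hsQ, mul_inv_cancel_right, mul_inv_cancel]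
    exact one_mem _
  · obtain ⟨b, hb, c, hc, rfl⟩ := a.memV.mp hv
    rw [a.v_out hb hc hs hsQ, mul_inv_cancel_right]
    exact hc

theorem centV {s v : G} (hs : s ∈ S) (hv : v ∈ amalV S x1) (hvZ : v ∉ centralInvol S) (hc : s * v = v * s) :
    s ∈ pCoreOf 2 P1 := by
  by_contra hsQ
  obtain ⟨b, hb, c, hc', rfl⟩ := a.memV.mp hv
  have e := a.v_out hb hc' hs hsQ
  rw [hc, mul_inv_cancel_right] at e
  have hc1 : c = 1 := right_eq_mul.mp e
  subst hc1
  exact hvZ (by simpa using hb)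

theorem inter {b c : G} (hb : b ∈ centralInvol S) (hc : c ∈ centralInvol S) (e : b = x1 * c * x1⁻¹) :
    c = 1 := by
  obtain ⟨s, hs, hsQ⟩ := a.one.exists_out
  have e' := a.za_out hc hs hsQ
  rw [← e, a.zfixS hs hb] at e'
  exact right_eq_mul.mp e'

theorem v_conjS {s v : G} (hs : s ∈ S) (hv : v ∈ amalV S x1) : s * v * s⁻¹ ∈ amalV S x1 := by
  have := mul_mem (a.zV (a.commV hs hv)) hv
  rwa [inv_mul_cancel_right] at this

theorem v_conj1 {v : G} (hv : v ∈ amalV S x1) : x1 * v * x1⁻¹ ∈ amalV S x1 := by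
  obtain ⟨b, hb, c, hc, rfl⟩ := a.memV.mp hv
  have e : x1 * (b * (x1 * c * x1⁻¹)) * x1⁻¹ = (x1 * b * x1⁻¹) * (x1⁻¹ * c * x1) := by
    calc x1 * (b * (x1 * c * x1⁻¹)) * x1⁻¹ = (x1 * b * x1⁻¹) * ((x1 * x1) * c * (x1 * x1)⁻¹) := by group
      _ = _ := by rw [← a.one.inv_eq, inv_inv]
  rw [e, a.third hc]
  exact mul_mem (a.zaV hb) (mul_mem (a.zV hc) (a.zaV hc))

theorem exists_z : ∃ z ∈ centralInvol S, z ≠ 1 := by
  obtain ⟨t, ht, htQ⟩ := a.two.exists_out
  have hS : S ≠ ⊥ := fun e => htQ (by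
    rw [e, Subgroup.mem_bot] at ht; rw [ht]; exact one_mem _)
  exact (centralInvol S).ne_bot_iff_exists_ne_one.mp (centralInvol_ne_bot a.two.frame.two hS) |>.elim
    fun z hz => ⟨z, z.2, fun e => hz (Subtype.ext e)⟩

theorem exists_v : ∃ v ∈ amalV S x1, v ∉ centralInvol S := by
  obtain ⟨z, hz, hz1⟩ := a.exists_z
  exact ⟨_, a.zaV hz, fun hm => hz1 (a.inter hm hz rfl)⟩

theorem actMod_conj {g k : G} (hk : k ∈ P) (hg : g ∈ actMod P (centralInvol S)) :
    k * g * k⁻¹ ∈ actMod P (centralInvol S) := by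
  refine ⟨mul_mem (mul_mem hk hg.1) (inv_mem hk), fun q hq => ?_⟩
  have hq' : k⁻¹ * q * k ∈ pCoreOf 2 P := by simpa using a.two.conjQ (inv_mem hk) hq
  have h' := hg.2 _ hq'
  have e : k * g * k⁻¹ * q * (k * g * k⁻¹)⁻¹ * q⁻¹ =
      k * (g * (k⁻¹ * q * k) * g⁻¹ * (k⁻¹ * q * k)⁻¹) * k⁻¹ := by group
  rw [e, a.zfix hk h']
  exact h'

theorem v_act {v : G} (hv : v ∈ amalV S x1) : v ∈ actMod P (centralInvol S) := by
  refine ⟨a.two.le (a.vS hv), fun q hq => ?_⟩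
  have h' := inv_mem (a.commV (a.two.qle hq) hv)
  convert h' using 1
  group

theorem v_le {v : G} (hv : v ∈ amalV S x1) : v ∈ pCoreOf 2 P := by
  by_contra hvQ
  set Z := centralInvol S with hZ
  set T0 := actMod P Z with hT0
  obtain ⟨q0, hq0, hswap⟩ := a.two.swap (a.vS hv) hvQ
  have hvT := a.v_act hv
  have hxv : x * v⁻¹ * x⁻¹ ∈ T0 := a.actMod_conj a.two.mem (inv_mem hvT)
  -- `x` is the inverse of `q0` modulo `T0`
  have hd : q0 * x ∈ T0 := by
    have e : q0 * x = v * (x * v⁻¹ * x⁻¹) * (x * x * x) := by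
      have : q0 = v * x * v⁻¹ * x := by rw [hswap]; group
      rw [this]; group
    rw [e, a.two.cube, mul_one]
    exact mul_mem hvT hxv
  have hpow : ∀ n : ℕ, q0 ^ n * x ^ n ∈ T0 := by
    intro n
    induction n with
    | zero => simp [one_mem]
    | succ n ih =>
      have e : q0 ^ (n + 1) * x ^ (n + 1) = q0 * (q0 ^ n * x ^ n) * q0⁻¹ * (q0 * x) := by
        rw [pow_succ' q0, pow_succ x]; group
      rw [e]
      exact mul_mem (a.actMod_conj (core_le P hq0) ih) hd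
  have hxT : x ∈ T0 := by
    have h4 := hpow 4
    rw [a.six.pgroup_pow_four (core_isPGroup P) hq0, one_mul] at h4
    have e : x ^ 4 = x := by
      rw [pow_succ, pow_succ, pow_two, a.two.cube, one_mul]
    rwa [e] at h4
  refine a.two.notin (a.two.qle (a.two.frame.cent fun q hq => ?_))
  set c := x * q * x⁻¹ * q⁻¹ with hc
  have hcZ : c ∈ Z := hxT.2 q hq
  have e1 : x * q * x⁻¹ = c * q := by rw [hc]; group
  have hcf := a.zx hcZ
  have e3 : c * c * c = 1 := by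
    have h1 : x * (x * (x * q * x⁻¹) * x⁻¹) * x⁻¹ = c * c * c * q := by
      rw [e1]
      calc x * (x * (c * q) * x⁻¹) * x⁻¹ = (x * (x * c * x⁻¹) * x⁻¹) * (x * (x * q * x⁻¹) * x⁻¹) := by
            group
        _ = c * (x * (x * q * x⁻¹) * x⁻¹) := by rw [hcf, hcf]
        _ = c * ((x * c * x⁻¹) * (x * q * x⁻¹)) := by
            have e2 : x * (x * q * x⁻¹) * x⁻¹ = x * (c * q) * x⁻¹ := by rw [e1]
            rw [e2]; group
        _ = c * c * c * q := by rw [hcf, e1]; simp only [mul_assoc]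
    have h2 : x * (x * (x * q * x⁻¹) * x⁻¹) * x⁻¹ = (x * x * x) * q * (x * x * x)⁻¹ := by group
    rw [h2, a.two.cube] at h1
    simpa using h1
  rw [hcZ.2.1, one_mul] at e3
  rw [e3, one_mul] at e1
  calc q * x = (x * q * x⁻¹) * x := by rw [e1]
    _ = x * q := by group

/-! ### The closure under `x` -/

theorem vW {v : G} (hv : v ∈ amalV S x1) : v ∈ amalW S x1 x :=
  Subgroup.mem_sup_left (Subgroup.mem_sup_left hv)

theorem vxW {v : G} (hv : v ∈ amalV S x1) : x * v * x⁻¹ ∈ amalW S x1 x :=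
  Subgroup.mem_sup_left (Subgroup.mem_sup_right ⟨v, hv, rfl⟩)

theorem vxxW {v : G} (hv : v ∈ amalV S x1) : x⁻¹ * v * x ∈ amalW S x1 x :=
  Subgroup.mem_sup_right ⟨v, hv, by simp⟩

theorem w_le {H : Subgroup G} (h1 : ∀ v ∈ amalV S x1, v ∈ H) (h2 : ∀ v ∈ amalV S x1, x * v * x⁻¹ ∈ H)
    (h3 : ∀ v ∈ amalV S x1, x⁻¹ * v * x ∈ H) : amalW S x1 x ≤ H :=
  sup_le (sup_le h1 (cj_map_le.mpr h2)) (cj_map_le.mpr fun v hv => by simpa using h3 v hv)

theorem w_ind {g : G} {H : Subgroup G}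
    (h : ∀ v ∈ amalV S x1, g * v * g⁻¹ ∈ H ∧ g * (x * v * x⁻¹) * g⁻¹ ∈ H ∧ g * (x⁻¹ * v * x) * g⁻¹ ∈ H) :
    ∀ w ∈ amalW S x1 x, g * w * g⁻¹ ∈ H := fun w hw =>
  a.w_le (H := H.comap (MulAut.conj g).toMonoidHom) (fun v hv => (h v hv).1) (fun v hv => (h v hv).2.1)
    (fun v hv => (h v hv).2.2) hw

theorem wT {w : G} (hw : w ∈ amalW S x1 x) :
    w ∈ pCoreOf 2 P ⊓ actMod P (centralInvol S) := by
  refine a.w_le (H := pCoreOf 2 P ⊓ actMod P (centralInvol S)) (fun v hv => ⟨a.v_le hv, a.v_act hv⟩)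
    (fun v hv => ⟨a.two.conjQ a.two.mem (a.v_le hv), a.actMod_conj a.two.mem (a.v_act hv)⟩)
    (fun v hv => ⟨?_, ?_⟩) hw
  · simpa using a.two.conjQ (inv_mem a.two.mem) (a.v_le hv)
  · simpa using a.actMod_conj (inv_mem a.two.mem) (a.v_act hv)

theorem wQ {w : G} (hw : w ∈ amalW S x1 x) : w ∈ pCoreOf 2 P := (a.wT hw).1

theorem commW {q w : G} (hq : q ∈ pCoreOf 2 P) (hw : w ∈ amalW S x1 x) :
    q * w * q⁻¹ * w⁻¹ ∈ centralInvol S := by
  have h' := inv_mem ((a.wT hw).2.2 q hq)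
  convert h' using 1
  group

theorem w_conjQ {q w : G} (hq : q ∈ pCoreOf 2 P) (hw : w ∈ amalW S x1 x) :
    q * w * q⁻¹ ∈ amalW S x1 x := by
  have := mul_mem (a.vW (a.zV (a.commW hq hw))) hw
  rwa [inv_mul_cancel_right] at this

theorem w_conjx {w : G} (hw : w ∈ amalW S x1 x) : x * w * x⁻¹ ∈ amalW S x1 x := by
  refine a.w_ind (fun v hv => ⟨a.vxW hv, ?_, ?_⟩) w hw
  · have e : x * (x * v * x⁻¹) * x⁻¹ = x⁻¹ * v * x := by
      calc x * (x * v * x⁻¹) * x⁻¹ = (x * x) * v * (x * x)⁻¹ := by group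
        _ = _ := by rw [← a.two.inv_eq, inv_inv]
    rw [e]; exact a.vxxW hv
  · have e : x * (x⁻¹ * v * x) * x⁻¹ = v := by group
    rw [e]; exact a.vW hv

theorem w_normalizer : P ≤ Subgroup.normalizer (amalW S x1 x : Set G) := by
  refine a.two.le_normalizer (fun s hs => ?_) fun w hw => a.w_conjx hw
  by_cases hsQ : s ∈ pCoreOf 2 P
  · exact fun w hw => a.w_conjQ hsQ hw
  obtain ⟨q, hq, e⟩ := a.two.swap hs hsQ
  obtain ⟨q', hq', e'⟩ := a.two.swap_inv hs hsQ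
  refine a.w_ind fun v hv => ⟨a.vW (a.v_conjS hs hv), ?_, ?_⟩
  · have h1 : s * (x * v * x⁻¹) * s⁻¹ = q * (x⁻¹ * (s * v * s⁻¹) * x) * q⁻¹ := by
      calc s * (x * v * x⁻¹) * s⁻¹ = (s * x * s⁻¹) * (s * v * s⁻¹) * (s * x * s⁻¹)⁻¹ := by group
        _ = _ := by rw [e]; group
    rw [h1]; exact a.w_conjQ hq (a.vxxW (a.v_conjS hs hv))
  · have h1 : s * (x⁻¹ * v * x) * s⁻¹ = q' * (x * (s * v * s⁻¹) * x⁻¹) * q'⁻¹ := by
      calc s * (x⁻¹ * v * x) * s⁻¹ = (s * x⁻¹ * s⁻¹) * (s * v * s⁻¹) * (s * x⁻¹ * s⁻¹)⁻¹ := by group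
        _ = _ := by rw [e']; group
    rw [h1]; exact a.w_conjQ hq' (a.vxW (a.v_conjS hs hv))

theorem w_conj {g w : G} (hg : g ∈ P) (hw : w ∈ amalW S x1 x) : g * w * g⁻¹ ∈ amalW S x1 x :=
  (Subgroup.mem_normalizer_iff.mp (a.w_normalizer hg) w).mp hw

theorem w_gen_Q1 {u : G} (hu : u ∈ amalV S x1) :
    x * u * x⁻¹ ∈ pCoreOf 2 P1 ∧ x⁻¹ * u * x ∈ pCoreOf 2 P1 := by
  by_cases huZ : u ∈ centralInvol S
  · have h1 : x⁻¹ * u * x = u := by
      calc x⁻¹ * u * x = x⁻¹ * (u * x) := mul_assoc _ _ _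
        _ = x⁻¹ * (x * u) := by rw [a.fix x a.two.mem u huZ]
        _ = u := inv_mul_cancel_left _ _
    rw [a.zx huZ, h1]
    exact ⟨a.zQ1 huZ, a.zQ1 huZ⟩
  set v := x * u * x⁻¹ with hv
  set w := x⁻¹ * u * x with hw
  have huW := a.vW hu
  have hvW : v ∈ amalW S x1 x := a.vxW hu
  have hwW : w ∈ amalW S x1 x := a.vxxW hu
  set c := u * v * u⁻¹ * v⁻¹ with hc
  have hcZ : c ∈ centralInvol S := a.commW (a.wQ huW) hvW
  have hxv : x * v * x⁻¹ = w := by
    rw [hv, hw]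
    calc x * (x * u * x⁻¹) * x⁻¹ = (x * x) * u * (x * x)⁻¹ := by group
      _ = _ := by rw [← a.two.inv_eq, inv_inv]
  have hxw : x * w * x⁻¹ = u := by rw [hw]; group
  have huv : u * v = c * (v * u) := by rw [hc]; group
  have hvw : v * w = c * (w * v) := by
    calc v * w = (x * u * x⁻¹) * (x * v * x⁻¹) := by rw [hxv]
      _ = x * (u * v) * x⁻¹ := by group
      _ = (x * c * x⁻¹) * ((x * v * x⁻¹) * (x * u * x⁻¹)) := by rw [huv]; group
      _ = c * (w * v) := by rw [a.zx hcZ, hxv]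
  have hwu : w * u = c * (u * w) := by
    calc w * u = (x * v * x⁻¹) * (x * w * x⁻¹) := by rw [hxv, hxw]
      _ = x * (v * w) * x⁻¹ := by group
      _ = (x * c * x⁻¹) * ((x * w * x⁻¹) * (x * v * x⁻¹)) := by rw [hvw]; group
      _ = c * (u * w) := by rw [a.zx hcZ, hxv, hxw]
  have hu2 : u * u = 1 := (a.v_cI hu).2.1
  have hv2 : v * v = 1 := by
    calc v * v = x * (u * u) * x⁻¹ := by rw [hv]; group
      _ = 1 := by rw [hu2]; group
  have hw2 : w * w = 1 := by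
    calc w * w = x⁻¹ * (u * u) * x := by rw [hw]; group
      _ = 1 := by rw [hu2]; group
  have hcS : ∀ g ∈ S, g * c = c * g := fun g hg => (hcZ.2.2 g hg).symm
  have huS := a.vS hu
  have hvS : v ∈ S := a.two.qle (a.wQ hvW)
  have hwS : w ∈ S := a.two.qle (a.wQ hwW)
  set y := u * v * w with hy
  have hfix : Commute x y := by
    have e : x * y * x⁻¹ = y := by
      calc x * y * x⁻¹ = (x * u * x⁻¹) * (x * v * x⁻¹) * (x * w * x⁻¹) := by rw [hy]; group
        _ = v * (w * u) := by rw [← hv, hxv, hxw, mul_assoc]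
        _ = v * (c * (u * w)) := by rw [hwu]
        _ = c * (v * u) * w := by rw [← mul_assoc, hcS v hvS]; simp only [mul_assoc]
        _ = y := by rw [← huv]
    show x * y = y * x
    calc x * y = (x * y * x⁻¹) * x := by group
      _ = y * x := by rw [e]
  have hyy : y * y = c := by
    have hvu : v * u = c * (u * v) := by rw [huv, ← mul_assoc c, hcZ.2.1, one_mul]
    have hwv : w * v = c * (v * w) := by rw [hvw, ← mul_assoc c, hcZ.2.1, one_mul]
    calc y * y = u * v * (w * u) * v * w := by rw [hy]; simp only [mul_assoc]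
      _ = u * v * (c * (u * w)) * v * w := by rw [hwu]
      _ = u * (c * (v * u)) * (w * v) * w := by
          rw [← mul_assoc (u * v) c, mul_assoc u v c, hcS v hvS]; simp only [mul_assoc]
      _ = u * (u * v) * (w * v) * w := by rw [hvu, ← mul_assoc c, hcZ.2.1, one_mul]
      _ = v * (w * v) * w := by rw [← mul_assoc u, hu2, one_mul]
      _ = v * (c * (v * w)) * w := by rw [hwv]
      _ = c * ((v * v) * (w * w)) := by rw [← mul_assoc v c, hcS v hvS]; simp only [mul_assoc]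
      _ = c := by rw [hv2, hw2, one_mul, mul_one]
  have hc1 : c = 1 := by
    have h4 : y ^ 2 ^ 2 = 1 := by
      rw [show (2 : ℕ) ^ 2 = 2 + 2 from rfl, pow_add, pow_two, hyy, hcZ.2.1]
    rw [← hyy]
    exact a.six.commute_three a.two.order hfix h4
  rw [hc1, one_mul] at huv hwu
  exact ⟨a.centV hvS hu huZ huv.symm, a.centV hwS hu huZ hwu⟩

theorem wQ1 {w : G} (hw : w ∈ amalW S x1 x) : w ∈ pCoreOf 2 P1 :=
  a.w_le (H := pCoreOf 2 P1) (fun _ hv => (a.v_cI hv).1) (fun _ hv => (a.w_gen_Q1 hv).1)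
    (fun _ hv => (a.w_gen_Q1 hv).2) hw

theorem w_abel {w : G} (hw : w ∈ amalW S x1 x) : w ∈ centralInvol (amalW S x1 x) := by
  have key : ∀ v ∈ amalV S x1, v ∈ centralInvol (amalW S x1 x) := fun v hv =>
    ⟨a.vW hv, (a.v_cI hv).2.1, fun k hk => (a.v_cI hv).2.2 k (a.wQ1 hk)⟩
  have conj : ∀ g ∈ P, ∀ v ∈ centralInvol (amalW S x1 x), g * v * g⁻¹ ∈ centralInvol (amalW S x1 x) := by
    intro g hg v hv
    refine ⟨a.w_conj hg hv.1, ?_, fun k hk => ?_⟩
    · calc g * v * g⁻¹ * (g * v * g⁻¹) = g * (v * v) * g⁻¹ := by group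
        _ = 1 := by rw [hv.2.1]; group
    · have hk' : g⁻¹ * k * g ∈ amalW S x1 x := by simpa using a.w_conj (inv_mem hg) hk
      calc g * v * g⁻¹ * k = g * (v * (g⁻¹ * k * g)) * g⁻¹ := by group
        _ = g * ((g⁻¹ * k * g) * v) * g⁻¹ := by rw [hv.2.2 _ hk']
        _ = k * (g * v * g⁻¹) := by group
  refine a.w_le key (fun v hv => conj x a.two.mem v (key v hv)) (fun v hv => ?_) hw
  simpa using conj x⁻¹ (inv_mem a.two.mem) v (key v hv)

theorem w_sq {w : G} (hw : w ∈ amalW S x1 x) : w * w = 1 := (a.w_abel hw).2.1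

theorem w_comm {v w : G} (hv : v ∈ amalW S x1 x) (hw : w ∈ amalW S x1 x) : v * w = w * v :=
  (a.w_abel hv).2.2 w hw

theorem fixW {q : G} (hq : q ∈ pCoreOf 2 P) (hc : Commute x q) {u : G} (hu : u ∈ amalW S x1 x) :
    q * u = u * q := by
  obtain ⟨k, hk⟩ := core_isPGroup P ⟨q, hq⟩
  have hq2 : q * q = 1 := a.six.commute_three a.two.order hc (congrArg Subtype.val hk)
  by_cases hq1 : q = 1
  · simp [hq1]
  have hqo : orderOf q = 2 := orderOf_eq_prime (by rw [pow_two]; exact hq2) hq1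
  have ho : orderOf (x * q) = 6 := by
    rw [hc.orderOf_mul_eq_mul_orderOf_of_coprime (by rw [a.two.order, hqo]; norm_num), a.two.order, hqo]
  have hfixed : ∀ y ∈ amalW S x1 x, Commute x y → q * y = y * q := by
    intro y hy hxy
    have hg : x * q ∈ P := mul_mem a.two.mem (core_le P hq)
    have hyc : Commute (x * q * (x * q)) y := by
      have e : x * q * (x * q) = x * x := by
        calc x * q * (x * q) = x * (q * x) * q := by simp only [mul_assoc]
          _ = x * (x * q) * q := by rw [hc.eq]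
          _ = x * x * (q * q) := by simp only [mul_assoc]
          _ = x * x := by rw [hq2, mul_one]
      rw [e]; exact hxy.mul_left hxy
    have hy' : (x * q)⁻¹ * y * (x * q) ∈ amalW S x1 x := by simpa using a.w_conj (inv_mem hg) hy
    have h6 := a.six.fix_six ho (a.w_sq hy) hyc (a.w_comm hy hy')
    have e : x * q * y = x * (y * q) := by rw [h6.eq, ← mul_assoc y x q, ← hxy.eq, mul_assoc]
    rw [mul_assoc] at e
    exact mul_left_cancel e
  set v := x * u * x⁻¹ with hv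
  set w := x * v * x⁻¹ with hw
  have hvW := a.w_conjx hu
  have hwW : w ∈ amalW S x1 x := a.w_conjx hvW
  have hxw : x * w * x⁻¹ = u := by
    calc x * w * x⁻¹ = (x * x * x) * u * (x * x * x)⁻¹ := by rw [hw, hv]; group
      _ = u := by rw [a.two.cube]; group
  set c := q * u * q⁻¹ * u⁻¹ with hc'
  have hcZ : c ∈ centralInvol S := a.commW hq hu
  have e1 : q * u * q⁻¹ = c * u := by rw [hc']; group
  have e2 : q * v * q⁻¹ = c * v := by
    calc q * v * q⁻¹ = (q * x) * u * (q * x)⁻¹ := by rw [hv]; group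
      _ = (x * q) * u * (x * q)⁻¹ := by rw [hc.eq]
      _ = x * (q * u * q⁻¹) * x⁻¹ := by group
      _ = (x * c * x⁻¹) * v := by rw [e1, hv]; group
      _ = c * v := by rw [a.zx hcZ]
  have e3 : q * w * q⁻¹ = c * w := by
    calc q * w * q⁻¹ = (q * x) * v * (q * x)⁻¹ := by rw [hw]; group
      _ = (x * q) * v * (x * q)⁻¹ := by rw [hc.eq]
      _ = x * (q * v * q⁻¹) * x⁻¹ := by group
      _ = (x * c * x⁻¹) * w := by rw [e2, hw]; group
      _ = c * w := by rw [a.zx hcZ]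
  set y := u * v * w with hy
  have hxy : Commute x y := by
    have e : x * y * x⁻¹ = y := by
      calc x * y * x⁻¹ = (x * u * x⁻¹) * (x * v * x⁻¹) * (x * w * x⁻¹) := by rw [hy]; group
        _ = v * w * u := by rw [← hv, ← hw, hxw]
        _ = u * (v * w) := a.w_comm (mul_mem hvW hwW) hu
        _ = y := (mul_assoc _ _ _).symm
    show x * y = y * x
    calc x * y = (x * y * x⁻¹) * x := by group
      _ = y * x := by rw [e]
  have hyf := hfixed y (mul_mem (mul_mem hu hvW) hwW) hxy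
  have hcu : c * u = u * c := hcZ.2.2 u (a.two.qle (a.wQ hu))
  have hcv : c * v = v * c := hcZ.2.2 v (a.two.qle (a.wQ hvW))
  have hc1 : c = 1 := by
    have e : y = c * y := by
      calc y = q * y * q⁻¹ := by rw [hyf, mul_inv_cancel_right]
        _ = (q * u * q⁻¹) * (q * v * q⁻¹) * (q * w * q⁻¹) := by rw [hy]; group
        _ = c * (u * (c * v)) * (c * w) := by rw [e1, e2, e3]; simp only [mul_assoc]
        _ = c * (c * (u * (v * c))) * w := by
            rw [← mul_assoc u, ← hcu]; simp only [mul_assoc]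
        _ = c * (c * c) * (u * v) * w := by
            rw [← hcv, ← mul_assoc u, ← hcu]; simp only [mul_assoc]
        _ = c * y := by rw [hcZ.2.1, mul_one, hy]; simp only [mul_assoc]
    exact right_eq_mul.mp e
  calc q * u = (q * u * q⁻¹) * q := by group
    _ = u * q := by rw [e1, hc1, one_mul]

end Amal

end CfsgLib.SpecSix
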