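import Mathlib
import Cfsg.Agent.Lib.CharTheory.Burnside

/-!
Finite groups all of whose element orders are at most six: first consequences.
-/

set_option autoImplicit false
set_option linter.unusedSectionVars false

namespace CfsgLib.SpecSix

universe u v

/-- Every element has order at most six. -/
def Six (G : Type u) [Group G] : Prop := ∀ g : G, orderOf g ≤ 6

variable {G : Type u} [Group G] [Finite G]

theorem Six.subgroup (h : Six G) (H : Subgroup G) : Six H := fun g => by
  rw [← Subgroup.orderOf_coe]; exact h g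

theorem Six.of_surjective (h : Six G) {K : Type v} [Group K] (f : G →* K) (hf : Function.Surjective f) :
    Six K := by
  intro k
  obtain ⟨g, rfl⟩ := hf k
  exact le_trans (Nat.le_of_dvd (orderOf_pos g) (orderOf_map_dvd f g)) (h g)

theorem Six.quotient (h : Six G) (N : Subgroup G) [N.Normal] : Six (G ⧸ N) :=
  h.of_surjective _ (QuotientGroup.mk'_surjective N)

theorem Six.prime_cases (h : Six G) {p : ℕ} (hp : p.Prime) (hd : p ∣ Nat.card G) :
    p = 2 ∨ p = 3 ∨ p = 5 := by
  haveI := Fact.mk hp
  obtain ⟨x, hx⟩ := exists_prime_orderOf_dvd_card' (G := G) p hd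
  have h6 : p ≤ 6 := hx ▸ h x
  have := hp.two_le
  interval_cases p <;> first | omega | norm_num at hp

/-- Elements of two-power order have order dividing four. -/
theorem Six.two_pow (h : Six G) {g : G} {k : ℕ} (hg : g ^ 2 ^ k = 1) : g ^ 4 = 1 := by
  obtain ⟨i, -, hi⟩ := (Nat.dvd_prime_pow Nat.prime_two).mp (orderOf_dvd_of_pow_eq_one hg)
  have h6 := h g
  rw [hi] at h6
  have h2 : i ≤ 2 := by
    by_contra hlt
    have := Nat.pow_le_pow_right (show 0 < 2 by norm_num) (show 3 ≤ i by omega)
    omega
  rw [← orderOf_dvd_iff_pow_eq_one, hi]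
  exact pow_dvd_pow 2 h2

theorem Six.pgroup_pow_four (h : Six G) {P : Subgroup G} (hP : IsPGroup 2 P) {g : G} (hg : g ∈ P) :
    g ^ 4 = 1 := by
  obtain ⟨k, hk⟩ := hP ⟨g, hg⟩
  exact h.two_pow (congrArg Subtype.val hk)

theorem Six.pow_eq_one (h : Six G) {p : ℕ} (hp : p = 3 ∨ p = 5) {g : G} {k : ℕ} (hg : g ^ p ^ k = 1) :
    g ^ p = 1 := by
  have hpp : p.Prime := by rcases hp with e | e <;> subst e <;> norm_num
  obtain ⟨i, -, hi⟩ := (Nat.dvd_prime_pow hpp).mp (orderOf_dvd_of_pow_eq_one hg)
  have h6 := h g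
  rw [hi] at h6
  have h2 : i ≤ 1 := by
    by_contra hlt
    have := Nat.pow_le_pow_right hpp.pos (show 2 ≤ i by omega)
    rcases hp with e | e <;> subst e <;> omega
  rw [← orderOf_dvd_iff_pow_eq_one, hi]
  exact (pow_dvd_pow p h2).trans (pow_one p).dvd

/-- Commuting elements of coprime orders whose product is more than six. -/
theorem Six.not_commute (h : Six G) {a b : G} (hc : Commute a b) {m n : ℕ} (ha : orderOf a = m)
    (hb : orderOf b = n) (hcop : Nat.Coprime m n) (hbig : 6 < m * n) : False := by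
  have h6 := h (a * b)
  rw [hc.orderOf_mul_eq_mul_orderOf_of_coprime (by rwa [ha, hb]), ha, hb] at h6
  omega

/-- An element of order five only commutes with elements of order dividing five. -/
theorem Six.commute_five (h : Six G) {u a : G} (hu : orderOf u = 5) (hc : Commute u a) : a ^ 5 = 1 := by
  by_contra ha
  obtain ⟨p, hp, hpd⟩ := Nat.exists_prime_and_dvd
    (show orderOf (a ^ 5) ≠ 1 from fun e => ha (orderOf_eq_one_iff.mp e))
  have hpG : p ∣ Nat.card G := hpd.trans (orderOf_dvd_natCard _)
  have hb : orderOf ((a ^ 5) ^ (orderOf (a ^ 5) / p)) = p :=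
    orderOf_pow_orderOf_div (orderOf_pos _).ne' hpd
  rcases h.prime_cases hp hpG with e | e | e
  · subst e; exact h.not_commute ((hc.pow_right 5).pow_right _) hu hb (by norm_num) (by norm_num)
  · subst e; exact h.not_commute ((hc.pow_right 5).pow_right _) hu hb (by norm_num) (by norm_num)
  · subst e
    have h5 : 5 ∣ orderOf a := hpd.trans (orderOf_pow_dvd 5)
    have h6 := h a
    obtain ⟨c, hc'⟩ := h5
    have hc1 : c = 1 := by
      have := orderOf_pos a
      rcases c with _ | _ | c
      · omega
      · rfl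
      · omega
    subst hc1
    exact ha (orderOf_dvd_iff_pow_eq_one.mp (by rw [hc']))

/-- An element of order two or three in the centraliser of an element of order five is trivial. -/
theorem Six.five_fixes (h : Six G) {u a : G} (hu : orderOf u = 5) (hc : Commute u a) {p : ℕ}
    (hp : Nat.Coprime p 5) {k : ℕ} (ha : a ^ p ^ k = 1) : a = 1 := by
  have h5 := h.commute_five hu hc
  have hg : Nat.gcd (p ^ k) 5 = 1 := Nat.Coprime.pow_left k hp
  have := pow_gcd_eq_one.mpr ⟨ha, h5⟩
  rwa [hg, pow_one] at this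

/-- A two-element commuting with an element of order three is an involution or trivial. -/
theorem Six.commute_three (h : Six G) {x a : G} (hx : orderOf x = 3) (hc : Commute x a) {k : ℕ}
    (ha : a ^ 2 ^ k = 1) : a * a = 1 := by
  have h4 := h.two_pow ha
  by_contra hne
  have ho : orderOf a = 4 := orderOf_eq_prime_pow (p := 2) (n := 1) (by rw [pow_one, pow_two]; exact hne) h4
  exact h.not_commute hc hx ho (by norm_num) (by norm_num)

/-- Two-elements centralising an element of order three commute. -/
theorem Six.three_abelian (h : Six G) {x : G} (hx : orderOf x = 3) {P : Subgroup G} (hP : IsPGroup 2 P)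
    (hc : ∀ a ∈ P, Commute x a) : ∀ a ∈ P, ∀ b ∈ P, a * b = b * a := by
  have sq : ∀ a ∈ P, a * a = 1 := fun a ha => by
    obtain ⟨k, hk⟩ := hP ⟨a, ha⟩
    exact h.commute_three hx (hc a ha) (congrArg Subtype.val hk)
  intro a ha b hb
  calc a * b = (a * b)⁻¹ := eq_inv_of_mul_eq_one_left (sq _ (mul_mem ha hb))
    _ = b * a := by
      rw [mul_inv_rev, inv_eq_of_mul_eq_one_left (sq b hb), inv_eq_of_mul_eq_one_left (sq a ha)]

/-- The order of a preimage of an element of order six is six. -/
theorem Six.orderOf_lift (h : Six G) {K : Type v} [Group K] (f : G →* K) {g : G} (hg : orderOf (f g) = 6) :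
    orderOf g = 6 := by
  have h1 := Nat.le_of_dvd (orderOf_pos g) (orderOf_map_dvd f g)
  have h2 := h g
  omega

/-- An element of order six fixes every involution fixed by its square and commuting with its conjugate. -/
theorem Six.fix_six (h : Six G) {g v : G} (hg : orderOf g = 6) (hv : v * v = 1) (hc : Commute (g * g) v)
    (hcc : Commute v (g⁻¹ * v * g)) : Commute g v := by
  set w := g⁻¹ * v * g * v with hw
  have hw2 : w * w = 1 := by
    calc w * w = (g⁻¹ * v * g * v) * (g⁻¹ * v * g * v) := rfl
      _ = (g⁻¹ * v * g) * (v * (g⁻¹ * v * g)) * v := by group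
      _ = (g⁻¹ * v * g) * ((g⁻¹ * v * g) * v) * v := by rw [hcc.eq]
      _ = g⁻¹ * (v * v) * g * (v * v) := by group
      _ = 1 := by simp [hv]
  have hsq : (g * v) * (g * v) = (g * g) * w := by rw [hw]; group
  have hcw : Commute (g * g) w := by
    have h1 : Commute (g * g) g := (Commute.refl g).mul_left (Commute.refl g)
    rw [hw]
    exact ((h1.inv_right.mul_right hc).mul_right h1).mul_right hc
  by_contra hne
  have hw1 : w ≠ 1 := fun e => hne (by
    have e' : g⁻¹ * v * g = v := by
      calc g⁻¹ * v * g = w * v⁻¹ := by rw [hw]; group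
        _ = v := by rw [e, one_mul, inv_eq_of_mul_eq_one_left hv]
    show g * v = v * g
    calc g * v = g * (g⁻¹ * v * g) := by rw [e']
      _ = v * g := by group)
  have ho3 : orderOf (g * g) = 3 := by
    rw [← pow_two, orderOf_pow' g two_ne_zero, hg]; rfl
  have ho2 : orderOf w = 2 := orderOf_eq_prime (by rw [pow_two]; exact hw2) hw1
  have ho : orderOf ((g * v) ^ 2) = 6 := by
    rw [pow_two, hsq, hcw.orderOf_mul_eq_mul_orderOf_of_coprime (by rw [ho3, ho2]; norm_num), ho3, ho2]
  have h6 := h (g * v)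
  rw [orderOf_pow' (g * v) two_ne_zero] at ho
  have hpos := orderOf_pos (g * v)
  interval_cases (orderOf (g * v)) <;> simp_all

/-- The norm of an element of a normal elementary abelian subgroup under an element of order dividing four. -/
theorem Six.norm_one (h : Six G) {U : Subgroup G} (hU : ∀ v ∈ U, v * v = 1) {g v : G}
    (hn : ∀ w ∈ U, g * w * g⁻¹ ∈ U) (hg : g ^ 4 = 1) (hv : v ∈ U) :
    (g * v * g⁻¹) * (g ^ 2 * v * (g ^ 2)⁻¹) * (g ^ 3 * v * (g ^ 3)⁻¹) * v = 1 := by
  have c1 := hn v hv
  have c2 : g ^ 2 * v * (g ^ 2)⁻¹ ∈ U := by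
    have := hn _ c1
    have e : g ^ 2 * v * (g ^ 2)⁻¹ = g * (g * v * g⁻¹) * g⁻¹ := by
      rw [pow_two, mul_inv_rev]; simp only [mul_assoc]
    rw [e]; exact this
  have c3 : g ^ 3 * v * (g ^ 3)⁻¹ ∈ U := by
    have := hn _ c2
    have e : g ^ 3 * v * (g ^ 3)⁻¹ = g * (g ^ 2 * v * (g ^ 2)⁻¹) * g⁻¹ := by
      rw [pow_succ', mul_inv_rev]; simp only [mul_assoc]
    rw [e]; exact this
  set N := (g * v * g⁻¹) * (g ^ 2 * v * (g ^ 2)⁻¹) * (g ^ 3 * v * (g ^ 3)⁻¹) * v with hN
  have hNU : N ∈ U := mul_mem (mul_mem (mul_mem c1 c2) c3) hv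
  have e : (g * v) ^ 4 = N := by
    calc (g * v) ^ 4 = g * v * (g * v) * (g * v) * (g * v) := by
          rw [pow_succ, pow_succ, pow_succ, pow_one]
      _ = (g * v * g⁻¹) * (g ^ 2 * v * (g ^ 2)⁻¹) * (g ^ 3 * v * (g ^ 3)⁻¹) * (g ^ 4 * v) := by group
      _ = N := by rw [hg, one_mul]
  have h8 : (g * v) ^ 2 ^ 3 = 1 := by
    rw [show (2 : ℕ) ^ 3 = 4 * 2 by norm_num, pow_mul, e, pow_two]; exact hU N hNU
  rw [← e]; exact h.two_pow h8

/-- A group of order prime to five is solvable. -/
theorem Six.solvable_of_not_five (h : Six G) (h5 : ¬ 5 ∣ Nat.card G) : Group.IsSolvable G := by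
  have hf : Nat.card G = 2 ^ (Nat.card G).factorization 2 * 3 ^ (Nat.card G).factorization 3 := by
    have hsub : (Nat.card G).primeFactors ⊆ {2, 3} := fun p hp => by
      have h1 := Nat.prime_of_mem_primeFactors hp
      have h2 := Nat.dvd_of_mem_primeFactors hp
      rcases h.prime_cases h1 h2 with e | e | e
      · simp [e]
      · simp [e]
      · exact absurd (e ▸ h2) h5
    calc Nat.card G = (Nat.card G).factorization.prod fun p k => p ^ k :=
          (Nat.prod_factorization_pow_eq_self Nat.card_pos.ne').symm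
      _ = ∏ p ∈ ({2, 3} : Finset ℕ), p ^ (Nat.card G).factorization p := by
          rw [Finsupp.prod_of_support_subset _ (by simpa using hsub) _ (fun i _ => pow_zero i)]
      _ = _ := by rw [Finset.prod_pair (by norm_num)]
  exact CfsgLib.CharTheory.isSolvable_of_card_two_primes Nat.prime_two Nat.prime_three hf

/-- The centraliser of an involution is solvable. -/
theorem Six.solvable_centralizer (h : Six G) {t : G} (ht : orderOf t = 2) :
    Group.IsSolvable (Subgroup.centralizer ({t} : Set G)) := by
  refine (h.subgroup _).solvable_of_not_five fun hd => ?_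
  haveI : Fact (Nat.Prime 5) := ⟨by norm_num⟩
  obtain ⟨c, hc⟩ := exists_prime_orderOf_dvd_card' (G := Subgroup.centralizer ({t} : Set G)) 5 hd
  rw [← Subgroup.orderOf_coe] at hc
  exact h.not_commute (Subgroup.mem_centralizer_singleton_iff.mp c.2) hc ht (by norm_num) (by norm_num)

end CfsgLib.SpecSix
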