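import Cfsg.Agent.Lib.SpecSix.Five

/-!
Element orders at most six: the fixed spaces of the Sylow 2-subgroups of a parabolic with top `A₅`.
-/

set_option autoImplicit false
set_option linter.unusedSectionVars false
set_option linter.style.haveILetI false

namespace CfsgLib.SpecSix

open Cfsg CfsgLib.SpecFive

universe u

local notation "A5" => alternatingGroup (Fin 5)

theorem s_five : ∃ p q : Fin 4, (AltFive.U p * (AltFive.s * AltFive.U q * AltFive.s⁻¹)) ^ 5 = 1 ∧
    AltFive.U p * (AltFive.s * AltFive.U q * AltFive.s⁻¹) ≠ 1 := by decide +kernel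

/-- An element of order five moving the standard four group to its other conjugates. -/
def rot : A5 := ⟨finRotate 5, by rw [Equiv.Perm.mem_alternatingGroup]; decide⟩

theorem rot_five : rot ^ 5 = 1 ∧ ∀ j : Fin 5, j ≠ 0 → ∃ p q : Fin 4,
    (AltFive.U p * (rot ^ (j : ℕ) * AltFive.U q * (rot ^ (j : ℕ))⁻¹)) ^ 5 = 1 ∧
      AltFive.U p * (rot ^ (j : ℕ) * AltFive.U q * (rot ^ (j : ℕ))⁻¹) ≠ 1 := by
  decide +kernel

variable {G : Type u} [Group G] [Finite G] {T P : Subgroup G} {φ : P →* A5}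

/-- The fixed points of `T` on the core. -/
def fixC (T P : Subgroup G) : Subgroup G := pCoreOf 2 P ⊓ Subgroup.centralizer (T : Set G)

theorem fixC_le_core (T P : Subgroup G) : fixC T P ≤ pCoreOf 2 P := inf_le_left

theorem mem_fixC {T P : Subgroup G} {v : G} :
    v ∈ fixC T P ↔ v ∈ pCoreOf 2 P ∧ ∀ t ∈ T, t * v = v * t := Iff.rfl

/-- Two Sylow subgroups whose images generate an element of order five have no common fixed point. -/
theorem Five.fixed_disjoint (h : Five T P φ) (h6 : Six G) {g : P}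
    (hg : ∃ p q : Fin 4, (AltFive.U p * (φ g * AltFive.U q * (φ g)⁻¹)) ^ 5 = 1 ∧
      AltFive.U p * (φ g * AltFive.U q * (φ g)⁻¹) ≠ 1) :
    fixC T P ⊓ (fixC T P).map (MulAut.conj (g : G)).toMonoidHom = ⊥ := by
  obtain ⟨p, q, h5, h1⟩ := hg
  obtain ⟨a, ha⟩ := h.surj (AltFive.U p)
  obtain ⟨b, hb⟩ := h.surj (AltFive.U q)
  have haT : (a : G) ∈ T := (h.mem_T a).mpr (ha ▸ ⟨p, rfl⟩)
  have hbT : (b : G) ∈ T := (h.mem_T b).mpr (hb ▸ ⟨q, rfl⟩)
  have e : φ (a * (g * b * g⁻¹)) = AltFive.U p * (φ g * AltFive.U q * (φ g)⁻¹) := by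
    simp only [map_mul, map_inv, ha, hb]
  have hou := h.orderOf_five h6 (a := a * (g * b * g⁻¹)) (by rw [e]; exact h5) (by rw [e]; exact h1)
  refine (Subgroup.eq_bot_iff_forall _).mpr ?_
  rintro v ⟨hv, w, hw, rfl⟩
  have c1 : Commute (a : G) (MulAut.conj (g : G) w) := (mem_fixC.mp hv).2 _ haT
  have c2 : Commute ((g : G) * b * (g : G)⁻¹) (MulAut.conj (g : G) w) := by
    have e2 : (b : G) * w = w * b := (mem_fixC.mp hw).2 _ hbT
    show (g : G) * b * (g : G)⁻¹ * ((g : G) * w * (g : G)⁻¹) = (g : G) * w * (g : G)⁻¹ * ((g : G) * b * (g : G)⁻¹)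
    calc (g : G) * b * (g : G)⁻¹ * ((g : G) * w * (g : G)⁻¹) = (g : G) * (b * w) * (g : G)⁻¹ := by group
      _ = _ := by rw [e2]; group
  obtain ⟨j, hj⟩ := core_isPGroup P ⟨_, (mem_fixC.mp hv).1⟩
  refine h6.five_fixes hou ?_ (p := 2) (by norm_num) (congrArg Subtype.val hj)
  simp only [Subgroup.coe_mul, Subgroup.coe_inv]
  exact c1.mul_left c2

/-- The fixed space of a Sylow 2-subgroup has order at most the square root of the order of the core. -/
theorem Five.fixC_card_sq_le (h : Five T P φ) (h6 : Six G) :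
    Nat.card (fixC T P) * Nat.card (fixC T P) ≤ Nat.card (pCoreOf 2 P) := by
  obtain ⟨g, hg⟩ := h.surj AltFive.s
  have hd := h.fixed_disjoint h6 (g := g) (by rw [hg]; exact s_five)
  set C := fixC T P
  set C' := C.map (MulAut.conj (g : G)).toMonoidHom with hC'
  have hC'Q : C' ≤ pCoreOf 2 P := by
    rintro _ ⟨w, hw, rfl⟩
    exact (Subgroup.mem_normalizer_iff.mp (le_normalizer_core P g.2) w).mp hw.1
  obtain ⟨t, ht, htQ⟩ : ∃ t ∈ T, t ∉ pCoreOf 2 P := by
    by_contra hno
    push Not at hno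
    have := h.relIndex_T
    rw [Subgroup.relIndex_eq_one.mpr hno] at this
    omega
  have hsq := (h.cent_card h6 ht htQ).1
  haveI := isMulCommutative_of_sq hsq
  have hn : C ≤ Subgroup.normalizer (C' : Set G) := fun c hc => by
    rw [Subgroup.mem_normalizer_iff]
    intro y
    have hcm : ∀ z ∈ pCoreOf 2 P, c * z * c⁻¹ = z := fun z hz => by
      rw [show c * z = z * c from congrArg Subtype.val
        (IsMulCommutative.is_comm.comm (⟨c, hc.1⟩ : pCoreOf 2 P) ⟨z, hz⟩), mul_inv_cancel_right]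
    constructor
    · intro hy; rwa [hcm y (hC'Q hy)]
    · intro hy
      have e := hcm _ (hC'Q hy)
      have : c * y * c⁻¹ = y := by
        calc c * y * c⁻¹ = c⁻¹ * (c * (c * y * c⁻¹) * c⁻¹) * c := by group
          _ = c⁻¹ * (c * y * c⁻¹) * c := by rw [e]
          _ = y := by group
      rwa [this] at hy
  have hcard := CfsgLib.JComp.card_sup_mul_card_inf hn
  rw [hd, Subgroup.card_bot, mul_one, hC', Subgroup.card_map_of_injective (MulAut.conj (g : G)).injective] at hcard
  rw [← hcard]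
  exact Subgroup.card_le_of_le (sup_le (fixC_le_core T P) hC'Q)

/-- With a natural core, the element of order three moves the fixed points, and all points are conjugate. -/
theorem Five.natural (h : Five T P φ) (h6 : Six G) (h16 : Nat.card (pCoreOf 2 P) = 16)
    (h4 : Nat.card (fixC T P) = 4) :
    ∀ q ∈ pCoreOf 2 P, q ≠ 1 → ∀ z ∈ fixC T P, z ≠ 1 → ∃ g ∈ P, g * z * g⁻¹ = q := by
  classical
  set Q := pCoreOf 2 P with hQdef
  set C := fixC T P with hCdef
  haveI : Fintype C := Fintype.ofFinite C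
  obtain ⟨y, hyP, hy3, hyN, -, _, hyx⟩ := h.exists_y h6
  obtain ⟨t, ht, htQ⟩ : ∃ t ∈ T, t ∉ Q := by
    by_contra hno
    push Not at hno
    have := h.relIndex_T
    rw [Subgroup.relIndex_eq_one.mpr hno] at this
    omega
  have hsq : ∀ v ∈ Q, v * v = 1 := (h.cent_card h6 ht htQ).1
  have hcomm : ∀ a ∈ Q, ∀ b ∈ Q, a * b = b * a := fun a ha b hb => by
    haveI := isMulCommutative_of_sq hsq
    exact congrArg Subtype.val (IsMulCommutative.is_comm.comm (⟨a, ha⟩ : Q) ⟨b, hb⟩)
  have hNC : ∀ n ∈ P, n ∈ Subgroup.normalizer (T : Set G) → ∀ v ∈ C, n * v * n⁻¹ ∈ C := by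
    intro n hnP hnT v hv
    refine mem_fixC.mpr ⟨(Subgroup.mem_normalizer_iff.mp (le_normalizer_core P hnP) v).mp hv.1, fun s hs => ?_⟩
    have hs' : n⁻¹ * s * n ∈ T := by
      have := (Subgroup.mem_normalizer_iff.mp hnT (n⁻¹ * s * n)).mpr
      exact this (by simpa [mul_assoc] using hs)
    have e := (mem_fixC.mp hv).2 _ hs'
    calc s * (n * v * n⁻¹) = n * ((n⁻¹ * s * n) * v) * n⁻¹ := by group
      _ = n * (v * (n⁻¹ * s * n)) * n⁻¹ := by rw [e]
      _ = n * v * n⁻¹ * s := by group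
  have hy1 : y ^ 3 = 1 := hy3 ▸ pow_orderOf_eq_one y
  -- the element of order three has no fixed point in `C`
  have hfpf : ∀ v ∈ C, y * v * y⁻¹ = v → v = 1 := by
    intro v hv hyv
    by_contra hv1
    have hyC : ∀ a ∈ C, y * a * y⁻¹ = a := by
      intro a ha
      by_contra hne
      have h2 : orderOf v = 2 := orderOf_eq_prime (by rw [pow_two]; exact hsq v hv.1) hv1
      have hav : a ∉ Subgroup.zpowers v := by
        intro hmem
        obtain ⟨i, rfl⟩ := Subgroup.mem_zpowers_iff.mp hmem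
        exact hne (by rw [← conj_zpow, hyv])
      have hS : ∀ b ∈ C, b ∈ ({1, v, a, v * a} : Set G) := by
        have hsub : ({⟨1, C.one_mem⟩, ⟨v, hv⟩, ⟨a, ha⟩, ⟨v * a, mul_mem hv ha⟩} : Finset C) = Finset.univ := by
          refine Finset.eq_univ_of_card _ ?_
          rw [← Nat.card_eq_fintype_card, h4]
          have n1 : a ≠ 1 := fun e => hav (e ▸ one_mem _)
          have n2 : a ≠ v := fun e => hav (e ▸ Subgroup.mem_zpowers v)
          have n3 : v * a ≠ 1 := fun e => hav (by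
            rw [eq_inv_of_mul_eq_one_right e]; exact inv_mem (Subgroup.mem_zpowers v))
          rw [Finset.card_insert_of_notMem, Finset.card_insert_of_notMem, Finset.card_insert_of_notMem,
            Finset.card_singleton] <;> simp [Subtype.ext_iff, Ne.symm hv1, Ne.symm n1, Ne.symm n2, Ne.symm n3, n1, hv1]
        intro b hb
        have := Finset.mem_univ (⟨b, hb⟩ : C)
        rw [← hsub] at this
        simpa [Subtype.ext_iff] using this
      have hb := hS _ (hNC y hyP hyN a ha)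
      simp only [Set.mem_insert_iff, Set.mem_singleton_iff] at hb
      rcases hb with e | e | e | e
      · exact hne (by rw [e]; exact ((conj_eq_one_iff).mp e).symm)
      · refine hav ?_
        have : a = v := by
          have e' : y * a * y⁻¹ = y * v * y⁻¹ := by rw [hyv, e]
          exact mul_left_cancel (mul_right_cancel e')
        rw [this]; exact Subgroup.mem_zpowers v
      · exact hne e
      · -- the conjugations by powers
        have e2 : y * (y * a * y⁻¹) * y⁻¹ = a := by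
          rw [e, show y * (v * a) * y⁻¹ = (y * v * y⁻¹) * (y * a * y⁻¹) by group, hyv, e, ← mul_assoc, hsq v hv.1,
            one_mul]
        refine hne ?_
        calc y * a * y⁻¹ = y * (y * (y * a * y⁻¹) * y⁻¹) * y⁻¹ := by rw [e2]
          _ = (y ^ 3) * a * (y ^ 3)⁻¹ := by simp [pow_succ, mul_assoc]
          _ = a := by rw [hy1]; group
    obtain ⟨g, hg⟩ := h.surj AltFive.s
    have hd := h.fixed_disjoint h6 (g := g) (by rw [hg]; exact s_five)
    -- `g⁻¹ y g` agrees with `y⁻¹` modulo the core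
    have hmod : (g : G)⁻¹ * y * g * y ∈ Q := by
      refine (h.mem_core (g⁻¹ * ⟨y, hyP⟩ * g * ⟨y, hyP⟩)).mpr ?_
      rw [map_mul, map_mul, map_mul, map_inv, hg, hyx]
      decide +kernel
    have hyC' : ∀ b ∈ C.map (MulAut.conj (g : G)).toMonoidHom, y * b * y⁻¹ = b := by
      rintro _ ⟨a, ha, rfl⟩
      show y * ((g : G) * a * (g : G)⁻¹) * y⁻¹ = (g : G) * a * (g : G)⁻¹
      set q0 := (g : G)⁻¹ * y * g * y with hq0
      have e1 : y⁻¹ * a * y = a := by
        calc y⁻¹ * a * y = y⁻¹ * (y * a * y⁻¹) * y := by rw [hyC a ha]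
          _ = a := by group
      calc y * ((g : G) * a * (g : G)⁻¹) * y⁻¹ = (g : G) * (q0 * (y⁻¹ * a * y) * q0⁻¹) * (g : G)⁻¹ := by
            rw [hq0]; group
        _ = (g : G) * a * (g : G)⁻¹ := by rw [e1, hcomm q0 hmod a ha.1, mul_inv_cancel_right]
    have hC'Q : C.map (MulAut.conj (g : G)).toMonoidHom ≤ Q := by
      rintro _ ⟨w, hw, rfl⟩
      exact (Subgroup.mem_normalizer_iff.mp (le_normalizer_core P g.2) w).mp hw.1
    have hn : C ≤ Subgroup.normalizer (C.map (MulAut.conj (g : G)).toMonoidHom : Set G) := fun c hc =>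
      CfsgLib.JComp.mem_normalizer_of_conj_mem fun z hz => by
        rwa [hcomm c hc.1 z (hC'Q hz), mul_inv_cancel_right]
    have hcard := CfsgLib.JComp.card_sup_mul_card_inf hn
    rw [hd, Subgroup.card_bot, mul_one, Subgroup.card_map_of_injective (MulAut.conj (g : G)).injective, h4] at hcard
    have hQeq : C ⊔ C.map (MulAut.conj (g : G)).toMonoidHom = Q :=
      Subgroup.eq_of_le_of_card_ge (sup_le (fixC_le_core T P) hC'Q) (by rw [hcard, h16])
    have hcent : Q ≤ Subgroup.centralizer {y} := by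
      rw [← hQeq, sup_le_iff]
      constructor <;> intro a ha <;> rw [Subgroup.mem_centralizer_singleton_iff]
      · exact (mul_inv_eq_iff_eq_mul.mp (hyC a ha)).symm
      · exact (mul_inv_eq_iff_eq_mul.mp (hyC' a ha)).symm
    have hyQ : y ∈ Q := h.frame.cent fun a ha => Subgroup.mem_centralizer_singleton_iff.mp (hcent ha)
    obtain ⟨j, hj⟩ := core_isPGroup P ⟨y, hyQ⟩
    have hd' := hy3 ▸ orderOf_dvd_of_pow_eq_one (congrArg Subtype.val hj)
    have := Nat.Prime.dvd_of_dvd_pow Nat.prime_three hd'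
    omega
  -- conjugates by powers of an element of order five
  intro q hq hq1 z hz hz1
  haveI : Fintype Q := Fintype.ofFinite Q
  obtain ⟨r, hr⟩ := h.surj rot
  let f : Fin 5 × {c : C // (c : G) ≠ 1} → {v : Q // (v : G) ≠ 1} := fun x =>
    ⟨⟨(r : G) ^ (x.1 : ℕ) * (x.2.1 : G) * ((r : G) ^ (x.1 : ℕ))⁻¹,
      (Subgroup.mem_normalizer_iff.mp (le_normalizer_core P (pow_mem r.2 _)) _).mp x.2.1.2.1⟩,
      fun e => x.2.2 (conj_eq_one_iff.mp e)⟩
  have hinj : Function.Injective f := by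
    have key : ∀ (a b : Fin 5) (c d : {c : C // (c : G) ≠ 1}), a < b → f (a, c) ≠ f (b, d) := by
      intro a b c d hab e
      set j : Fin 5 := ⟨(b : ℕ) - a, by omega⟩ with hj
      have hj0 : j ≠ 0 := fun e0 => by
        have : ((b : ℕ) - a) = 0 := congrArg Fin.val e0
        omega
      have hd := h.fixed_disjoint h6 (g := r ^ (j : ℕ)) (by rw [map_pow, hr]; exact rot_five.2 j hj0)
      have e' : (r : G) ^ (a : ℕ) * (c.1 : G) * ((r : G) ^ (a : ℕ))⁻¹ =
          (r : G) ^ (b : ℕ) * (d.1 : G) * ((r : G) ^ (b : ℕ))⁻¹ :=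
        congrArg (fun v : {v : Q // (v : G) ≠ 1} => ((v.1 : Q) : G)) e
      have hmem : (c.1 : G) ∈ C ⊓ C.map (MulAut.conj ((r ^ (j : ℕ) : P) : G)).toMonoidHom := by
        refine ⟨c.1.2, (d.1 : G), d.1.2, ?_⟩
        have hba : (b : ℕ) = a + (j : ℕ) := by simp [hj]; omega
        show ((r ^ (j : ℕ) : P) : G) * (d.1 : G) * ((r ^ (j : ℕ) : P) : G)⁻¹ = (c.1 : G)
        rw [hba, pow_add] at e'
        rw [Subgroup.coe_pow]
        calc (r : G) ^ (j : ℕ) * (d.1 : G) * ((r : G) ^ (j : ℕ))⁻¹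
            = ((r : G) ^ (a : ℕ))⁻¹ * ((r : G) ^ (a : ℕ) * (r : G) ^ (j : ℕ) * (d.1 : G) *
              ((r : G) ^ (a : ℕ) * (r : G) ^ (j : ℕ))⁻¹) * (r : G) ^ (a : ℕ) := by group
          _ = (c.1 : G) := by rw [← e']; group
      rw [hd, Subgroup.mem_bot] at hmem
      exact c.2 hmem
    rintro ⟨a, c⟩ ⟨b, d⟩ e
    rcases lt_trichotomy a b with hlt | rfl | hlt
    · exact absurd e (key a b c d hlt)
    · have e' := congrArg (fun v : {v : Q // (v : G) ≠ 1} => ((v.1 : Q) : G)) e
      simp only [f] at e'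
      exact Prod.ext rfl (Subtype.ext (Subtype.ext (mul_left_cancel (mul_right_cancel e'))))
    · exact absurd e.symm (key b a d c hlt)
  have hcards : Fintype.card (Fin 5 × {c : C // (c : G) ≠ 1}) = Fintype.card {v : Q // (v : G) ≠ 1} := by
    have e1 : Fintype.card {c : C // (c : G) ≠ 1} = 3 := by
      rw [Fintype.card_congr (Equiv.subtypeEquivRight (q := fun c : C => ¬ c = 1) (fun c => by simp)),
        Fintype.card_subtype_compl, Fintype.card_subtype_eq, ← Nat.card_eq_fintype_card, h4]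
    have e2 : Fintype.card {v : Q // (v : G) ≠ 1} = 15 := by
      rw [Fintype.card_congr (Equiv.subtypeEquivRight (q := fun c : Q => ¬ c = 1) (fun c => by simp)),
        Fintype.card_subtype_compl, Fintype.card_subtype_eq, ← Nat.card_eq_fintype_card, h16]
    rw [Fintype.card_prod, Fintype.card_fin, e1, e2]
  obtain ⟨⟨i, c⟩, hic⟩ := ((Fintype.bijective_iff_injective_and_card f).mpr ⟨hinj, hcards⟩).2 ⟨⟨q, hq⟩, hq1⟩
  -- the element of order three is transitive on the points of `C`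
  obtain ⟨k, hk⟩ : ∃ k : ℕ, y ^ k * z * (y ^ k)⁻¹ = (c.1 : G) := by
    let o : Fin 3 → {c : C // (c : G) ≠ 1} := fun k =>
      ⟨⟨y ^ (k : ℕ) * z * (y ^ (k : ℕ))⁻¹, hNC _ (pow_mem hyP _) (pow_mem hyN _) z hz⟩,
        fun e => hz1 (conj_eq_one_iff.mp e)⟩
    have oinj : Function.Injective o := by
      intro a b e
      have e' : y ^ (a : ℕ) * z * (y ^ (a : ℕ))⁻¹ = y ^ (b : ℕ) * z * (y ^ (b : ℕ))⁻¹ :=
        congrArg (fun v : {c : C // (c : G) ≠ 1} => ((v.1 : C) : G)) e
      by_contra hab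
      refine hz1 (hfpf z hz ?_)
      have hpp : ∀ d : ℕ, y ^ d * z * (y ^ d)⁻¹ = z → ¬ 3 ∣ d → y * z * y⁻¹ = z := by
        intro d hd h3
        have hc : Commute (y ^ d) z := mul_inv_eq_iff_eq_mul.mp hd
        obtain ⟨m, hm⟩ := exists_pow_eq_self_of_coprime (x := y) (n := d)
          (by rw [hy3]; exact ((Nat.prime_three.coprime_iff_not_dvd).mpr h3).symm)
        have hcy : Commute y z := by rw [← hm]; exact hc.pow_left m
        rw [hcy.eq, mul_inv_cancel_right]
      rcases Nat.lt_or_gt_of_ne (fun e0 => hab (Fin.ext e0)) with hl | hl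
      · refine hpp ((b : ℕ) - a) ?_ (by omega)
        have hb : (b : ℕ) = a + ((b : ℕ) - a) := by omega
        rw [hb, pow_add] at e'
        calc y ^ ((b : ℕ) - a) * z * (y ^ ((b : ℕ) - a))⁻¹
            = (y ^ (a : ℕ))⁻¹ * (y ^ (a : ℕ) * y ^ ((b : ℕ) - a) * z * (y ^ (a : ℕ) * y ^ ((b : ℕ) - a))⁻¹) *
              y ^ (a : ℕ) := by group
          _ = z := by rw [← e']; group
      · refine hpp ((a : ℕ) - b) ?_ (by omega)
        have hb : (a : ℕ) = b + ((a : ℕ) - b) := by omega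
        rw [hb, pow_add] at e'
        calc y ^ ((a : ℕ) - b) * z * (y ^ ((a : ℕ) - b))⁻¹
            = (y ^ (b : ℕ))⁻¹ * (y ^ (b : ℕ) * y ^ ((a : ℕ) - b) * z * (y ^ (b : ℕ) * y ^ ((a : ℕ) - b))⁻¹) *
              y ^ (b : ℕ) := by group
          _ = z := by rw [e']; group
    have e1 : Fintype.card {c : C // (c : G) ≠ 1} = Fintype.card (Fin 3) := by
      rw [Fintype.card_congr (Equiv.subtypeEquivRight (q := fun c : C => ¬ c = 1) (fun c => by simp)),
        Fintype.card_subtype_compl, Fintype.card_subtype_eq, ← Nat.card_eq_fintype_card, h4, Fintype.card_fin]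
    obtain ⟨k, hk⟩ := ((Fintype.bijective_iff_injective_and_card o).mpr ⟨oinj, e1.symm⟩).2 c
    exact ⟨k, congrArg (fun v : {c : C // (c : G) ≠ 1} => ((v.1 : C) : G)) hk⟩
  refine ⟨(r : G) ^ (i : ℕ) * y ^ k, mul_mem (pow_mem r.2 _) (pow_mem hyP _), ?_⟩
  have e := congrArg (fun v : {v : Q // (v : G) ≠ 1} => ((v.1 : Q) : G)) hic
  simp only [f] at e
  rw [← e, ← hk]; group

end CfsgLib.SpecSix
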