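import Cfsg.Agent.Lib.SpecSix.Top

/-!
An element of order five inverted by a two-element acts on an elementary abelian two-group.
-/

set_option autoImplicit false
set_option linter.unusedSectionVars false

namespace CfsgLib.SpecSix

universe u

variable {G : Type u} [Group G] [Finite G]

theorem Six.sq_one_of_inverts (h : Six G) {u t : G} (hu : orderOf u = 5) {k : ℕ} (ht : t ^ 2 ^ k = 1)
    (hinv : t * u * t⁻¹ = u⁻¹) : t * t = 1 := by
  have hc : Commute u (t * t) := by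
    show u * (t * t) = t * t * u
    calc u * (t * t) = (t * u⁻¹ * t⁻¹) * (t * t) := by
          rw [show t * u⁻¹ * t⁻¹ = (t * u * t⁻¹)⁻¹ by group, hinv, inv_inv]
      _ = t * u⁻¹ * t := by group
      _ = t * (t * u * t⁻¹) * t := by rw [hinv]
      _ = t * t * u := by group
  refine h.five_fixes hu hc (p := 2) (k := k) (by norm_num) ?_
  rw [← pow_two, ← pow_mul, mul_comm, pow_mul, ht, one_pow]

/-- The elementary case: `Q` is twice the centraliser of the involution. -/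
theorem Six.dten_module (h : Six G) (Q : Subgroup G) [Q.Normal] (hsq : ∀ v ∈ Q, v * v = 1) {u t : G}
    (hu : orderOf u = 5) (ht : t * t = 1) (hinv : t * u * t⁻¹ = u⁻¹) :
    Nat.card ↥(Q ⊓ Subgroup.centralizer {t}) ^ 2 = Nat.card Q ∧
      (∀ y ∈ Q, t * y * t⁻¹ = y → ∃ q ∈ Q, y = (t * q * t⁻¹) * q) ∧
      (∀ q ∈ Q, ∃ a ∈ Q, ∃ b ∈ Q, q = a * b ∧ t * a * t⁻¹ = a ∧ (u * t * u⁻¹) * b * (u * t * u⁻¹)⁻¹ = b) := by
  haveI := isMulCommutative_of_sq hsq
  have hc : ∀ a ∈ Q, ∀ b ∈ Q, a * b = b * a := fun a ha b hb =>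
    congrArg Subtype.val (IsMulCommutative.is_comm.comm (⟨a, ha⟩ : Q) ⟨b, hb⟩)
  have hn : ∀ (g : G) {q : G}, q ∈ Q → g * q * g⁻¹ ∈ Q := fun g q hq => Subgroup.Normal.conj_mem ‹_› q hq g
  set C := Q ⊓ Subgroup.centralizer ({t} : Set G) with hC
  have memC : ∀ y, y ∈ C ↔ y ∈ Q ∧ t * y * t⁻¹ = y := fun y => by
    rw [hC, Subgroup.mem_inf, Subgroup.mem_centralizer_singleton_iff, mul_inv_eq_iff_eq_mul, eq_comm (a := y * t)]
  let f : ↥Q →* ↥Q :=
    { toFun := fun q => ⟨(t * q * t⁻¹) * q, mul_mem (hn t q.2) q.2⟩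
      map_one' := Subtype.ext (by simp)
      map_mul' := fun a b => Subtype.ext (by
        simp only [Subgroup.coe_mul]
        calc t * ((a : G) * b) * t⁻¹ * (a * b) = (t * a * t⁻¹) * ((t * b * t⁻¹) * a) * b := by group
          _ = (t * a * t⁻¹) * (a * (t * b * t⁻¹)) * b := by rw [hc _ (hn t b.2) _ a.2]
          _ = _ := by group) }
  have hrange : ∀ y : ↥Q, y ∈ f.range → (y : G) ∈ C := by
    rintro y ⟨q, rfl⟩
    refine (memC _).mpr ⟨(f q).2, ?_⟩
    show t * ((t * q * t⁻¹) * q) * t⁻¹ = (t * q * t⁻¹) * q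
    calc t * ((t * q * t⁻¹) * q) * t⁻¹ = ((t * t) * q * (t * t)⁻¹) * (t * q * t⁻¹) := by group
      _ = (q : G) * (t * q * t⁻¹) := by rw [ht]; group
      _ = _ := hc _ q.2 _ (hn t q.2)
  have hker : ∀ q : ↥Q, q ∈ f.ker ↔ (q : G) ∈ C := fun q => by
    rw [MonoidHom.mem_ker, memC, Subtype.ext_iff]
    show (t * q * t⁻¹) * q = 1 ↔ (q : G) ∈ Q ∧ t * q * t⁻¹ = q
    constructor
    · intro e
      exact ⟨q.2, (eq_inv_of_mul_eq_one_left e).trans (inv_eq_of_mul_eq_one_left (hsq q q.2))⟩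
    · rintro ⟨-, e⟩
      rw [e, hsq q q.2]
  have hcardQ : Nat.card Q = Nat.card f.ker * Nat.card f.range := by
    rw [← Subgroup.index_ker f]; exact (Subgroup.card_mul_index f.ker).symm
  have hkC : Nat.card f.ker = Nat.card C :=
    Nat.card_congr ⟨fun q => ⟨((q : ↥Q) : G), (hker q.1).mp q.2⟩,
      fun y => ⟨⟨y, ((memC _).mp y.2).1⟩, (hker _).mpr y.2⟩, fun q => rfl, fun y => rfl⟩
  have hrC : Nat.card f.range ≤ Nat.card C :=
    Nat.card_le_card_of_injective (fun y => (⟨((y : ↥Q) : G), hrange y.1 y.2⟩ : ↥C))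
      (fun a b e => Subtype.ext (Subtype.ext (congrArg (fun z : ↥C => (z : G)) e)))
  let g : ↥C × ↥C → ↥Q := fun p =>
    ⟨p.1 * (u * p.2 * u⁻¹), mul_mem ((memC _).mp p.1.2).1 (hn u ((memC _).mp p.2.2).1)⟩
  have hu2 : orderOf (u ^ 2) = 5 := by
    rw [Nat.Coprime.orderOf_pow (by rw [hu]; norm_num), hu]
  have ginj : Function.Injective g := by
    rintro ⟨a, b⟩ ⟨a', b'⟩ e
    have e' : (a : G) * (u * b * u⁻¹) = a' * (u * b' * u⁻¹) := congrArg Subtype.val e
    have hm : (a' : G)⁻¹ * a = u * ((b' : G) * (b : G)⁻¹) * u⁻¹ := by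
      calc (a' : G)⁻¹ * a = (a' : G)⁻¹ * (a * (u * b * u⁻¹)) * (u * b * u⁻¹)⁻¹ := by group
        _ = _ := by rw [e']; group
    set w := (a' : G)⁻¹ * a with hw
    have h1 := (memC _).mp (mul_mem (inv_mem a'.2) a.2 : w ∈ C)
    have h2 := (memC _).mp (mul_mem b'.2 (inv_mem b.2) : (b' : G) * (b : G)⁻¹ ∈ C)
    have h3 : u ^ 2 * w * (u ^ 2)⁻¹ = w := by
      have hts : u ^ 2 = u * t * u⁻¹ * t := by
        have e1 : t * u⁻¹ = u * t := by
          calc t * u⁻¹ = t * (t * u * t⁻¹) := by rw [hinv]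
            _ = (t * t) * u * t⁻¹ := by group
            _ = u * t := by rw [ht, one_mul, inv_eq_of_mul_eq_one_left ht]
        calc u ^ 2 = u * u * (t * t) := by rw [ht, mul_one, pow_two]
          _ = u * (u * t) * t := by group
          _ = u * (t * u⁻¹) * t := by rw [e1]
          _ = u * t * u⁻¹ * t := by group
      rw [hts]
      calc u * t * u⁻¹ * t * w * (u * t * u⁻¹ * t)⁻¹ = u * t * u⁻¹ * (t * w * t⁻¹) * u * t⁻¹ * u⁻¹ := by group
        _ = u * t * (u⁻¹ * w * u) * t⁻¹ * u⁻¹ := by rw [show t * w * t⁻¹ = w from h1.2]; group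
        _ = u * (t * ((b' : G) * (b : G)⁻¹) * t⁻¹) * u⁻¹ := by rw [hm]; group
        _ = w := by rw [h2.2, hm]
    have hcu : Commute (u ^ 2) w := by
      show u ^ 2 * w = w * u ^ 2
      calc u ^ 2 * w = u ^ 2 * w * (u ^ 2)⁻¹ * u ^ 2 := by group
        _ = w * u ^ 2 := by rw [h3]
    have hw1 : w = 1 := h.five_fixes hu2 hcu (p := 2) (k := 1) (by norm_num) (by
      rw [pow_one, pow_two]; exact hsq w h1.1)
    have ha : (a : G) = a' := (inv_mul_eq_one.mp (hw ▸ hw1)).symm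
    have hb : (b : G) = b' := by
      rw [ha] at e'
      simpa using e'
    exact Prod.ext (Subtype.ext ha) (Subtype.ext hb)
  have hCC : Nat.card C * Nat.card C ≤ Nat.card Q := by
    rw [← Nat.card_prod]; exact Nat.card_le_card_of_injective g ginj
  have hsquare : Nat.card C ^ 2 = Nat.card Q := by
    refine le_antisymm (by rw [pow_two]; exact hCC) ?_
    rw [hcardQ, hkC, pow_two]
    exact Nat.mul_le_mul_left _ hrC
  refine ⟨hsquare, ?_, ?_⟩
  · intro y hy hty
    let F : ↥f.range → ↥C := fun z => ⟨((z : ↥Q) : G), hrange z.1 z.2⟩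
    have hF : Function.Injective F := fun a b e => Subtype.ext (Subtype.ext (congrArg (fun z : ↥C => (z : G)) e))
    have hb : Function.Bijective F := hF.bijective_of_nat_card_le (by
      rw [hcardQ, hkC] at hCC
      exact Nat.le_of_mul_le_mul_left hCC Nat.card_pos)
    obtain ⟨⟨z, q, hq⟩, hz⟩ := hb.2 ⟨y, (memC y).mpr ⟨hy, hty⟩⟩
    exact ⟨q, q.2, ((congrArg (fun z : ↥C => (z : G)) hz).symm.trans (congrArg Subtype.val hq.symm))⟩
  · intro q hq
    obtain ⟨⟨a, b⟩, hab⟩ := (ginj.bijective_of_nat_card_le (by rw [Nat.card_prod, ← hsquare, pow_two])).2 ⟨q, hq⟩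
    refine ⟨a, ((memC _).mp a.2).1, u * b * u⁻¹, hn u ((memC _).mp b.2).1, (congrArg Subtype.val hab).symm,
      ((memC _).mp a.2).2, ?_⟩
    calc u * t * u⁻¹ * (u * b * u⁻¹) * (u * t * u⁻¹)⁻¹ = u * (t * b * t⁻¹) * u⁻¹ := by group
      _ = _ := by rw [((memC _).mp b.2).2]

private theorem dten_aux : ∀ (n : ℕ) (G : Type u) [Group G] [Finite G], Nat.card G = n → Six G →
    ∀ (Q : Subgroup G) [Q.Normal], IsPGroup 2 Q → ∀ {u t : G}, orderOf u = 5 → t * t = 1 →
      t * u * t⁻¹ = u⁻¹ → ∀ v ∈ Q, v * v = 1 := by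
  intro n
  induction n using Nat.strong_induction_on with
  | _ n ih =>
    intro G _ _ hn h Q _ hQ u t hu ht hinv
    by_cases hQ1 : Q = ⊥
    · intro v hv
      rw [hQ1, Subgroup.mem_bot] at hv
      rw [hv, mul_one]
    set L := centralInvol Q with hL
    haveI : L.Normal := centralInvol_normal Q
    have hLn := centralInvol_ne_bot hQ hQ1
    set f := QuotientGroup.mk' L with hf
    have fs : Function.Surjective f := QuotientGroup.mk'_surjective L
    have fker : ∀ {a b : G}, f a = f b → a⁻¹ * b ∈ L := fun {a b} e => QuotientGroup.eq.mp e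
    have hlt : Nat.card (G ⧸ L) < n := by
      rw [← hn, ← Subgroup.card_mul_index L, Subgroup.index]
      have h2 : 1 < Nat.card L := (Subgroup.one_lt_card_iff_ne_bot L).mpr hLn
      have hpos : 0 < Nat.card (G ⧸ L) := Nat.card_pos
      calc Nat.card (G ⧸ L) = 1 * Nat.card (G ⧸ L) := (one_mul _).symm
        _ < Nat.card L * Nat.card (G ⧸ L) := Nat.mul_lt_mul_of_pos_right h2 hpos
    haveI hQbn : (Q.map f).Normal := Subgroup.Normal.map inferInstance f fs
    have hu' : orderOf (f u) = 5 := by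
      have hd : orderOf (f u) ∣ 5 := hu ▸ orderOf_map_dvd f u
      rcases (Nat.dvd_prime (by norm_num)).mp hd with e | e
      · exfalso
        have hm : u ∈ L := (QuotientGroup.eq_one_iff u).mp (orderOf_eq_one_iff.mp e)
        have : orderOf u ∣ 2 := orderOf_dvd_of_pow_eq_one (by rw [pow_two]; exact hm.2.1)
        rw [hu] at this
        norm_num at this
      · exact e
    have ht' : f t * f t = 1 := by rw [← map_mul, ht, map_one]
    have hinv' : f t * f u * (f t)⁻¹ = (f u)⁻¹ := by rw [← map_inv, ← map_mul, ← map_mul, hinv, map_inv]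
    have hbar := ih _ hlt (G ⧸ L) rfl (h.quotient L) (Q.map f) (hQ.map f) hu' ht' hinv'
    obtain ⟨-, hsurj, hdec⟩ := (h.quotient L).dten_module (Q.map f) hbar hu' ht' hinv'
    haveI := isMulCommutative_of_sq hbar
    have hbc : ∀ a ∈ Q, ∀ b ∈ Q, f a * f b = f b * f a := fun a ha b hb =>
      congrArg Subtype.val (IsMulCommutative.is_comm.comm (⟨f a, Subgroup.mem_map_of_mem f ha⟩ : Q.map f)
        ⟨f b, Subgroup.mem_map_of_mem f hb⟩)
    have hnQ : ∀ (g : G) {q : G}, q ∈ Q → g * q * g⁻¹ ∈ Q := fun g q hq => Subgroup.Normal.conj_mem ‹_› q hq g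
    -- elements fixed modulo `L` are involutions
    have sqK : ∀ (s : G), s * s = 1 → s * u * s⁻¹ = u⁻¹ → ∀ y ∈ Q, f (s * y * s⁻¹) = f y → y * y = 1 := by
      intro s hs hsinv y hy hfy
      have hs' : f s * f s = 1 := by rw [← map_mul, hs, map_one]
      have hsinv' : f s * f u * (f s)⁻¹ = (f u)⁻¹ := by rw [← map_inv, ← map_mul, ← map_mul, hsinv, map_inv]
      obtain ⟨q', ⟨q, hq, rfl⟩, hq'⟩ := ((h.quotient L).dten_module (Q.map f) hbar hu' hs' hsinv').2.1 (f y)
        (Subgroup.mem_map_of_mem f hy) (by rw [← map_inv, ← map_mul, ← map_mul]; exact hfy)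
      rw [← map_inv, ← map_mul, ← map_mul, ← map_mul] at hq'
      set x := (s * q * s⁻¹) * q with hx
      have hxQ : x ∈ Q := mul_mem (hnQ s hq) hq
      obtain ⟨j, hj⟩ := hQ ⟨x, hxQ⟩
      have e2 : (s * q) ^ 2 = x := by rw [pow_two, hx, inv_eq_of_mul_eq_one_left hs]; group
      have h4 : (s * q) ^ 4 = 1 := h.two_pow (k := j + 1) (by
        rw [pow_succ', pow_mul, e2]; exact congrArg Subtype.val hj)
      have hx2 : x * x = 1 := by rw [← h4, show (4 : ℕ) = 2 * 2 from rfl, pow_mul, e2, pow_two]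
      have hl := fker hq'.symm
      calc y * y = x * (x⁻¹ * y) * (x * (x⁻¹ * y)) := by group
        _ = x * ((x⁻¹ * y) * x) * (x⁻¹ * y) := by group
        _ = x * (x * (x⁻¹ * y)) * (x⁻¹ * y) := by rw [hl.2.2 x hxQ]
        _ = (x * x) * ((x⁻¹ * y) * (x⁻¹ * y)) := by group
        _ = 1 := by rw [hx2, hl.2.1, mul_one]
    have Kcomm : ∀ (s : G), s * s = 1 → s * u * s⁻¹ = u⁻¹ → ∀ y ∈ Q, f (s * y * s⁻¹) = f y →
        ∀ z ∈ Q, f (s * z * s⁻¹) = f z → y * z = z * y := by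
      intro s hs hsinv y hy hfy z hz hfz
      have h1 := sqK s hs hsinv y hy hfy
      have h2 := sqK s hs hsinv z hz hfz
      have h3 := sqK s hs hsinv (y * z) (mul_mem hy hz) (by
        rw [show s * (y * z) * s⁻¹ = (s * y * s⁻¹) * (s * z * s⁻¹) by group, map_mul, hfy, hfz, ← map_mul])
      calc y * z = (y * z)⁻¹ := eq_inv_of_mul_eq_one_left h3
        _ = z * y := by rw [mul_inv_rev, inv_eq_of_mul_eq_one_left h1, inv_eq_of_mul_eq_one_left h2]
    -- a commutator of the two kinds is fixed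
    have fixc : ∀ (s : G), s * s = 1 → s * u * s⁻¹ = u⁻¹ → ∀ y ∈ Q, f (s * y * s⁻¹) = f y → ∀ z ∈ Q,
        s * (y * z * y⁻¹ * z⁻¹) * s⁻¹ = y * z * y⁻¹ * z⁻¹ := by
      intro s hs hsinv y hy hfy z hz
      set l := y⁻¹ * (s * y * s⁻¹) with hl
      have hlL : l ∈ L := fker hfy.symm
      set k1 := z⁻¹ * (s * z * s⁻¹) with hk1
      have hk1Q : k1 ∈ Q := mul_mem (inv_mem hz) (hnQ s hz)
      have hk1f : f (s * k1 * s⁻¹) = f k1 := by
        have hsz := hnQ s hz
        have e : s * k1 * s⁻¹ = (s * z * s⁻¹)⁻¹ * z := by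
          calc s * k1 * s⁻¹ = (s * z * s⁻¹)⁻¹ * ((s * s) * z * (s * s)⁻¹) := by rw [hk1]; group
            _ = _ := by rw [hs]; group
        have hf2 : ∀ a ∈ Q, (f a)⁻¹ = f a := fun a ha =>
          inv_eq_of_mul_eq_one_left (hbar _ (Subgroup.mem_map_of_mem f ha))
        rw [e, hk1, map_mul, map_mul f z⁻¹, map_inv, map_inv, hf2 _ hsz, hf2 _ hz, hbc _ hsz _ hz]
      have hym : y * l ∈ Q := mul_mem hy hlL.1
      have hymf : f (s * (y * l) * s⁻¹) = f (y * l) := by
        have hl1 : f l = 1 := (QuotientGroup.eq_one_iff l).mpr hlL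
        have hl2 : f (s * l * s⁻¹) = 1 := (QuotientGroup.eq_one_iff _).mpr
          (Subgroup.Normal.conj_mem ‹L.Normal› l hlL s)
        rw [show s * (y * l) * s⁻¹ = (s * y * s⁻¹) * (s * l * s⁻¹) by group, map_mul f (s * y * s⁻¹), map_mul f y,
          hfy, hl1, hl2]
      have c1 := Kcomm s hs hsinv (y * l) hym hymf k1 hk1Q hk1f
      have hlk : l * k1 = k1 * l := hlL.2.2 k1 hk1Q
      have c2 : y * k1 = k1 * y := mul_right_cancel (b := l) (by
        rw [mul_assoc, ← hlk, ← mul_assoc, c1, hk1]; group)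
      have c3 : y⁻¹ * k1⁻¹ = k1⁻¹ * y⁻¹ := by rw [← mul_inv_rev, ← mul_inv_rev, c2]
      calc s * (y * z * y⁻¹ * z⁻¹) * s⁻¹ = (y * l) * (z * k1) * (y * l)⁻¹ * (z * k1)⁻¹ := by
            rw [hl, hk1]; group
        _ = y * (l * z) * k1 * (y * l)⁻¹ * (z * k1)⁻¹ := by group
        _ = y * z * (l * k1) * (y * l)⁻¹ * (z * k1)⁻¹ := by rw [hlL.2.2 z hz]; group
        _ = y * z * k1 * (y⁻¹ * k1⁻¹) * z⁻¹ := by rw [hlk]; group
        _ = _ := by rw [c3]; group
    have ts : ∀ (a b : G), Commute (f a) (f b) → a * b * a⁻¹ * b⁻¹ ∈ L := fun a b hab =>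
      (QuotientGroup.eq_one_iff _).mp (show f (a * b * a⁻¹ * b⁻¹) = 1 by
        rw [map_mul, map_mul, map_mul, map_inv, map_inv, hab.eq]; group)
    set t' := u * t * u⁻¹ with ht'def
    have ht'2 : t' * t' = 1 := by
      calc t' * t' = u * (t * t) * u⁻¹ := by rw [ht'def]; group
        _ = 1 := by rw [ht]; group
    have ht'inv : t' * u * t'⁻¹ = u⁻¹ := by
      calc t' * u * t'⁻¹ = u * (t * u * t⁻¹) * u⁻¹ := by rw [ht'def]; group
        _ = u⁻¹ := by rw [hinv]; group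
    have hu2 : orderOf (u ^ 2) = 5 := by rw [Nat.Coprime.orderOf_pow (by rw [hu]; norm_num), hu]
    have htu : u ^ 2 = t' * t := by
      have e1 : t * u⁻¹ = u * t := by
        calc t * u⁻¹ = t * (t * u * t⁻¹) := by rw [hinv]
          _ = (t * t) * u * t⁻¹ := by group
          _ = u * t := by rw [ht, one_mul, inv_eq_of_mul_eq_one_left ht]
      calc u ^ 2 = u * u * (t * t) := by rw [ht, mul_one, pow_two]
        _ = u * (u * t) * t := by group
        _ = u * (t * u⁻¹) * t := by rw [e1]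
        _ = t' * t := by rw [ht'def]; group
    have cross : ∀ a ∈ Q, f (t * a * t⁻¹) = f a → ∀ b ∈ Q, f (t' * b * t'⁻¹) = f b → a * b = b * a := by
      intro a ha hfa b hb hfb
      have hcL := ts a b (hbc a ha b hb)
      set c := a * b * a⁻¹ * b⁻¹ with hc
      have c1 : t * c * t⁻¹ = c := fixc t ht hinv a ha hfa b hb
      have c2 : t' * c * t'⁻¹ = c := by
        have e := fixc t' ht'2 ht'inv b hb hfb a ha
        have e2 : b * a * b⁻¹ * a⁻¹ = c⁻¹ := by rw [hc]; group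
        rw [e2] at e
        calc t' * c * t'⁻¹ = (t' * c⁻¹ * t'⁻¹)⁻¹ := by group
          _ = c := by rw [e, inv_inv]
      have hcu : Commute (u ^ 2) c := by
        rw [htu]
        have d1 : Commute t c := mul_inv_eq_iff_eq_mul.mp c1
        have d2 : Commute t' c := mul_inv_eq_iff_eq_mul.mp c2
        exact d2.mul_left d1
      have hc1 : c = 1 := h.five_fixes hu2 hcu (p := 2) (k := 1) (by norm_num) (by
        rw [pow_one, pow_two]; exact hcL.2.1)
      calc a * b = c * (b * a) := by rw [hc]; group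
        _ = b * a := by rw [hc1, one_mul]
    intro v hv
    obtain ⟨a', ⟨a, ha, rfl⟩, b', ⟨b, hb, rfl⟩, hvab, hfa, hfb⟩ := hdec (f v) (Subgroup.mem_map_of_mem f hv)
    rw [← map_mul] at hvab
    rw [← map_inv, ← map_mul, ← map_mul] at hfa
    rw [← map_inv f u, ← map_mul, ← map_mul, ← map_inv, ← map_mul, ← map_mul, ← ht'def] at hfb
    have hl := fker hvab.symm
    have c := cross a ha hfa b hb hfb
    calc v * v = (a * b) * ((a * b)⁻¹ * v) * ((a * b) * ((a * b)⁻¹ * v)) := by group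
      _ = (a * b) * (((a * b)⁻¹ * v) * (a * b)) * ((a * b)⁻¹ * v) := by group
      _ = (a * b) * ((a * b) * ((a * b)⁻¹ * v)) * ((a * b)⁻¹ * v) := by rw [hl.2.2 _ (mul_mem ha hb)]
      _ = (a * (b * a) * b) * (((a * b)⁻¹ * v) * ((a * b)⁻¹ * v)) := by group
      _ = (a * a) * (b * b) := by rw [hl.2.1, ← c]; group
      _ = 1 := by rw [sqK t ht hinv a ha hfa, sqK t' ht'2 ht'inv b hb hfb, mul_one]

/-- An element of order five inverted by a two-element on a normal two-subgroup. -/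
theorem Six.dten (h : Six G) (Q : Subgroup G) [Q.Normal] (hQ : IsPGroup 2 Q) {u t : G} (hu : orderOf u = 5)
    {k : ℕ} (ht : t ^ 2 ^ k = 1) (hinv : t * u * t⁻¹ = u⁻¹) :
    t * t = 1 ∧ (∀ v ∈ Q, v * v = 1) ∧ Nat.card ↥(Q ⊓ Subgroup.centralizer {t}) ^ 2 = Nat.card Q := by
  have ht2 := h.sq_one_of_inverts hu ht hinv
  have hsq := dten_aux _ G rfl h Q hQ hu ht2 hinv
  exact ⟨ht2, hsq, (h.dten_module Q hsq hu ht2 hinv).1⟩

end CfsgLib.SpecSix
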