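import Cfsg.Agent.Lib.SpecSix.Top
import Cfsg.Agent.Lib.SpecSix.Dten
import Cfsg.Agent.Lib.SpecSix.AltAut
import Cfsg.Prelude.Def_Transfer

/-!
Nonsolvable groups with all element orders at most six, given the simple ones.
-/

set_option autoImplicit false
set_option linter.unusedSectionVars false
set_option linter.style.haveILetI false

namespace CfsgLib.SpecSix

open scoped IsMulCommutative

universe u

/-! ### Three commuting involutive operators in characteristic three -/

section Module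

variable {A : Type*} [AddCommGroup A]

/-- `(1 + L)(1 - M)` -/
theorem cross_zero (L M N : A →+ A) (hL : ∀ a, L (L a) = a) (hM : ∀ a, M (M a) = a) (hN : ∀ a, N (N a) = a)
    (hLM : ∀ a, L (M a) = M (L a)) (hLN : ∀ a, L (N a) = N (L a)) (hMN : ∀ a, M (N a) = N (M a)) (a : A) :
    ((a + M a - N a - M (N a)) + L (a + M a - N a - M (N a)) - M (a + M a - N a - M (N a)) -
        L (M (a + M a - N a - M (N a))) = 0) ∧
      ((a + N a - L a - N (L a)) + L (a + N a - L a - N (L a)) - M (a + N a - L a - N (L a)) -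
        L (M (a + N a - L a - N (L a))) = 0) := by
  constructor <;> simp only [map_add, map_sub, hL, hM, hN, hLM, hLN, hMN] <;> abel

theorem half_zero (X L : A →+ A) (h3 : ∀ a : A, a + a + a = 0) (hX : ∀ a, X (X (X a)) = a)
    (hN : ∀ a, a + X a + X (X a) = 0) (hL : ∀ a, L (L a) = a)
    (h1 : ∀ a, L (X (L (X (X a)))) = X (L (X (X (L a)))))
    (h2 : ∀ a, L (X (X (L (X a)))) = X (X (L (X (L a)))))
    (h3' : ∀ a, X (L (X (L (X a)))) = X (X (L (X (X (L (X (X a)))))))) (a : A) :
    a + L a - X (L (X (X a))) - L (X (L (X (X a)))) = 0 := by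
  let M : A →+ A := X.comp (L.comp (X.comp X))
  let N : A →+ A := X.comp (X.comp (L.comp X))
  have eM : ∀ b, M b = X (L (X (X b))) := fun b => rfl
  have eN : ∀ b, N b = X (X (L (X b))) := fun b => rfl
  have hM : ∀ b, M (M b) = b := fun b => by simp [eM, hX, hL]
  have hN' : ∀ b, N (N b) = b := fun b => by simp [eN, hX, hL]
  have hMN : ∀ b, M (N b) = N (M b) := fun b => by
    simp only [eM, eN, hX]
    exact h3' b
  set e : A → A := fun b => b + L b - M b - L (M b) with he
  have eX : ∀ b, X (e b) = X b + M (X b) - N (X b) - M (N (X b)) := fun b => by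
    simp [he, eM, eN, map_add, map_sub, hX]
  have eXX : ∀ b, X (X (e b)) = X (X b) + N (X (X b)) - L (X (X b)) - N (L (X (X b))) := fun b => by
    simp [he, eM, eN, map_add, map_sub, hX]
  have c1 : ∀ b, e (X (e b)) = 0 := fun b => by
    rw [eX]; exact (cross_zero L M N hL hM hN' h1 h2 hMN (X b)).1
  have c2 : ∀ b, e (X (X (e b))) = 0 := fun b => by
    rw [eXX]; exact (cross_zero L M N hL hM hN' h1 h2 hMN (X (X b))).2
  have hadd : ∀ b c, e (b + c) = e b + e c := fun b c => by
    simp only [he, map_add]; abel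
  have c0 : e (e a) = 0 := by
    have s : e (e a + X (e a) + X (X (e a))) = 0 := by
      rw [hN, he]; simp
    rwa [hadd, hadd, c1, c2, add_zero, add_zero] at s
  have sq : e (e a) = e a + e a + e a + e a := by
    simp only [he, map_add, map_sub, hL, hM, show ∀ b, M (L b) = L (M b) from fun b => (h1 b).symm]
    abel
  rw [c0, h3, zero_add] at sq
  exact sq.symm

/-- If an operator of order three with vanishing norm cycles three commuting involutive operators, they agree. -/
theorem conj_eq (X L : A →+ A) (h3 : ∀ a : A, a + a + a = 0) (hX : ∀ a, X (X (X a)) = a)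
    (hN : ∀ a, a + X a + X (X a) = 0) (hL : ∀ a, L (L a) = a)
    (h1 : ∀ a, L (X (L (X (X a)))) = X (L (X (X (L a)))))
    (h2 : ∀ a, L (X (X (L (X a)))) = X (X (L (X (L a)))))
    (h3' : ∀ a, X (L (X (L (X a)))) = X (X (L (X (X (L (X (X a)))))))) (a : A) :
    X (L (X (X a))) = L a := by
  have p := half_zero X L h3 hX hN hL h1 h2 h3' a
  have q := half_zero X (-L) h3 hX hN (by simp [hL]) (by simp [h1]) (by simp [h2]) (by simp [h3']) a
  simp only [AddMonoidHom.neg_apply, map_neg, neg_neg] at q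
  have e : L a - X (L (X (X a))) + (L a - X (L (X (X a)))) + (L a - X (L (X (X a)))) = 0 := h3 _
  have d : L a - X (L (X (X a))) + (L a - X (L (X (X a)))) = 0 := by
    calc L a - X (L (X (X a))) + (L a - X (L (X (X a))))
        = (a + L a - X (L (X (X a))) - L (X (L (X (X a))))) -
          (a + -L a - -X (L (X (X a))) - L (X (L (X (X a))))) := by abel
      _ = 0 := by rw [p, q, sub_zero]
  rw [d, zero_add] at e
  exact (sub_eq_zero.mp e).symm

end Module

variable {G : Type u} [Group G] [Finite G]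

/-- A group of order prime to one of two, three, five is solvable. -/
theorem Six.solvable_of_not_dvd (h : Six G) {p : ℕ} (hp : p = 2 ∨ p = 3 ∨ p = 5) (hd : ¬ p ∣ Nat.card G) :
    Group.IsSolvable G := by
  obtain ⟨q, r, hqr, hq, hr, hcov⟩ : ∃ q r : ℕ, q ≠ r ∧ q.Prime ∧ r.Prime ∧
      ∀ s : ℕ, (s = 2 ∨ s = 3 ∨ s = 5) → s ≠ p → s = q ∨ s = r := by
    rcases hp with e | e | e <;> subst e
    · exact ⟨3, 5, by norm_num, by norm_num, by norm_num, by omega⟩
    · exact ⟨2, 5, by norm_num, by norm_num, by norm_num, by omega⟩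
    · exact ⟨2, 3, by norm_num, by norm_num, by norm_num, by omega⟩
  have hf : Nat.card G = q ^ (Nat.card G).factorization q * r ^ (Nat.card G).factorization r := by
    have hsub : (Nat.card G).primeFactors ⊆ {q, r} := fun s hs => by
      have h1 := Nat.dvd_of_mem_primeFactors hs
      rcases hcov s (h.prime_cases (Nat.prime_of_mem_primeFactors hs) h1) (fun e => hd (e ▸ h1)) with e | e <;>
        simp [e]
    calc Nat.card G = (Nat.card G).factorization.prod fun p k => p ^ k :=
          (Nat.prod_factorization_pow_eq_self Nat.card_pos.ne').symm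
      _ = ∏ p ∈ ({q, r} : Finset ℕ), p ^ (Nat.card G).factorization p := by
          rw [Finsupp.prod_of_support_subset _ (by simpa using hsub) _ (fun i _ => pow_zero i)]
      _ = _ := by rw [Finset.prod_pair hqr]
  exact CfsgLib.CharTheory.isSolvable_of_card_two_primes hq hr hf

theorem Six.exists_five (h : Six G) (hns : ¬ Group.IsSolvable G) : ∃ u : G, orderOf u = 5 := by
  haveI : Fact (Nat.Prime 5) := ⟨by norm_num⟩
  exact exists_prime_orderOf_dvd_card' 5 (not_not.mp fun hd => hns (h.solvable_of_not_five hd))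

theorem not_solvable_quotient (C : Subgroup G) [C.Normal] (hC : Group.IsSolvable C) (hns : ¬ Group.IsSolvable G) :
    ¬ Group.IsSolvable (G ⧸ C) := fun hq => hns ((Group.isSolvable_iff_subgroup_quotient C).mpr ⟨hC, hq⟩)

theorem solvable_of_isPGroup {p : ℕ} [Fact p.Prime] {H : Subgroup G} (hH : IsPGroup p H) : Group.IsSolvable H := by
  haveI := hH.isNilpotent
  infer_instance

/-- An element of cube one lifts to one of cube one. -/
theorem Six.lift_three (h : Six G) {K : Type u} [Group K] (f : G →* K) {x : G} (hk : f x ^ 3 = 1) :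
    ∃ y : G, f y = f x ∧ y ^ 3 = 1 := by
  by_cases h1 : f x = 1
  · exact ⟨1, by rw [map_one, h1], one_pow 3⟩
  haveI : Fact (Nat.Prime 3) := ⟨Nat.prime_three⟩
  obtain ⟨c, hc⟩ := orderOf_eq_prime hk h1 ▸ orderOf_map_dvd f x
  have h6 := h x
  have := orderOf_pos x
  rcases c with _ | _ | _ | c
  · omega
  · exact ⟨x, rfl, orderOf_dvd_iff_pow_eq_one.mp (by rw [hc])⟩
  · refine ⟨x ^ 4, ?_, ?_⟩
    · rw [map_pow, pow_succ, hk, one_mul]
    · rw [← pow_mul]
      exact orderOf_dvd_iff_pow_eq_one.mp (by rw [hc]; norm_num)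
  · omega

/-- On an elementary three-group an element of cube one fixes an involution commuting with its conjugates. -/
theorem Six.cycle_fixed (h : Six G) (A : Subgroup G) [A.Normal] [IsMulCommutative A] (h3 : ∀ a ∈ A, a ^ 3 = 1)
    {k y : G ⧸ Subgroup.centralizer (A : Set G)} (hk : k * k = 1) (hy : y ^ 3 = 1)
    (h01 : Commute k (y * k * y⁻¹)) (h02 : Commute k (y * y * k * (y * y)⁻¹))
    (h12 : Commute (y * k * y⁻¹) (y * y * k * (y * y)⁻¹)) : y * k * y⁻¹ = k := by
  obtain ⟨l, rfl⟩ := QuotientGroup.mk_surjective k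
  obtain ⟨x0, rfl⟩ := QuotientGroup.mk_surjective y
  set C := Subgroup.centralizer (A : Set G) with hC
  obtain ⟨x, hx, hx3⟩ := h.lift_three (QuotientGroup.mk' C) (x := x0) hy
  simp only [QuotientGroup.mk'_apply] at hx
  rw [← hx] at hy h01 h02 h12 ⊢
  have hCA : ∀ n ∈ C, ∀ v ∈ A, n * v = v * n := fun n hn v hv => (Subgroup.mem_centralizer_iff.mp hn v hv).symm
  have cong : ∀ {g g' : G}, (g : G ⧸ C) = (g' : G ⧸ C) → ∀ a, actAdd A g a = actAdd A g' a :=
    fun {g g'} e a => actAdd_congr A hCA (QuotientGroup.eq.mp e.symm) a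
  have inv2 : ((x : G ⧸ C))⁻¹ = (x : G ⧸ C) * x :=
    inv_eq_of_mul_eq_one_right (by rw [← hy, pow_succ, pow_two, mul_assoc])
  have inv1 : ((x : G ⧸ C) * x)⁻¹ = x := by rw [← inv2, inv_inv]
  set X := actAdd A x
  set L := actAdd A l
  have key : ∀ a, X (L (X (X a))) = L a := by
    refine conj_eq X L (fun a => ?_) (fun a => ?_) (fun a => ?_) (fun a => ?_) (fun a => ?_) (fun a => ?_)
      (fun a => ?_)
    · refine Additive.toMul.injective (Subtype.ext ?_)
      have e := h3 _ a.toMul.2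
      rw [pow_succ, pow_two] at e
      exact e
    · simp only [X, ← actAdd_mul]
      rw [show x * (x * x) = 1 by rw [← hx3, pow_succ, pow_two, mul_assoc], actAdd_one]
    · refine Additive.toMul.injective (Subtype.ext ?_)
      simp only [toMul_add, toMul_zero, Subgroup.coe_mul, Subgroup.coe_one, X, actAdd_apply]
      set v := ((a.toMul : A) : G)
      have hv : v ∈ A := a.toMul.2
      have e : (v * x) ^ 3 = v * (x * v * x⁻¹) * (x * (x * v * x⁻¹) * x⁻¹) * x ^ 3 := by
        rw [pow_succ, pow_two, pow_succ, pow_two]; group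
      rw [hx3, mul_one] at e
      rw [← e]
      refine h.pow_eq_one (Or.inl rfl) (k := 2) ?_
      rw [show (3 : ℕ) ^ 2 = 3 * 3 by norm_num, pow_mul, e]
      exact h3 _ (mul_mem (mul_mem hv (Subgroup.Normal.conj_mem ‹_› v hv x))
        (Subgroup.Normal.conj_mem ‹_› _ (Subgroup.Normal.conj_mem ‹_› v hv x) x))
    · simp only [L, ← actAdd_mul]
      rw [cong (g := l * l) (g' := 1) (by rw [QuotientGroup.mk_mul, hk]; rfl), actAdd_one]
    · simp only [X, L, ← actAdd_mul]
      refine cong ?_ a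
      have e := h01.eq
      rw [inv2] at e
      simp only [QuotientGroup.mk_mul, mul_assoc] at e ⊢
      exact e
    · simp only [X, L, ← actAdd_mul]
      refine cong ?_ a
      have e := h02.eq
      rw [inv1] at e
      simp only [QuotientGroup.mk_mul, mul_assoc] at e ⊢
      exact e
    · simp only [X, L, ← actAdd_mul]
      refine cong ?_ a
      have e := h12.eq
      have x3 : ∀ z : G ⧸ C, (x : G ⧸ C) * (x * (x * z)) = z := fun z => by
        rw [← mul_assoc, ← mul_assoc, show (x : G ⧸ C) * x * x = 1 by rw [← hy, pow_succ, pow_two], one_mul]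
      rw [inv1, inv2] at e
      simp only [QuotientGroup.mk_mul, mul_assoc, x3] at e ⊢
      exact e
  rw [inv2]
  have hmem : l⁻¹ * (x * l * x * x) ∈ C := by
    refine Subgroup.mem_centralizer_iff.mpr fun v hv => ?_
    have e := congrArg (fun b : Additive A => ((b.toMul : A) : G)) (key (Additive.ofMul ⟨v, hv⟩))
    simp only [X, L, actAdd_apply, toMul_ofMul] at e
    calc v * (l⁻¹ * (x * l * x * x)) = l⁻¹ * (l * v * l⁻¹) * (x * l * x * x) := by group
      _ = l⁻¹ * (x * (l * (x * (x * v * x⁻¹) * x⁻¹) * l⁻¹) * x⁻¹) * (x * l * x * x) := by rw [e]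
      _ = l⁻¹ * (x * l * x * x) * v := by group
  have e := QuotientGroup.eq.mpr hmem
  simp only [QuotientGroup.mk_mul, mul_assoc] at e ⊢
  exact e.symm

/-- The hypothesis on the simple groups of order at most a bound. -/
def SimpleUpTo (M : ℕ) : Prop :=
  ∀ (T : Type u) [Group T] [Finite T], IsSimpleGroup T → Six T → ¬ Group.IsSolvable T → Nat.card T ≤ M →
    Nonempty (T ≃* alternatingGroup (Fin 5)) ∨ Nonempty (T ≃* alternatingGroup (Fin 6))

/-- Without solvable normal subgroups a minimal normal subgroup is `A5` or `A6`, with trivial centraliser. -/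
theorem Six.exists_alt (h : Six G) {M : ℕ} (hs : SimpleUpTo.{u} M) (hM : Nat.card G ≤ M)
    (hns : ¬ Group.IsSolvable G) (hrad : ∀ N : Subgroup G, N.Normal → Group.IsSolvable N → N = ⊥) :
    ∃ (T : Subgroup G) (_ : T.Normal) (n : ℕ), (n = 5 ∨ n = 6) ∧ Nonempty (T ≃* alternatingGroup (Fin n)) ∧
      Subgroup.centralizer (T : Set G) = ⊥ := by
  haveI : Nontrivial G := not_subsingleton_iff_nontrivial.mp fun hsub => hns
    (Group.isSolvable_of_comm fun a b => Subsingleton.elim _ _)
  obtain ⟨T, hTn, -, hT1, hmin⟩ := CfsgLib.exists_minimal_normal (N := (⊤ : Subgroup G)) top_ne_bot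
  haveI := hTn
  have hTns : ¬ Group.IsSolvable T := fun hsol => hT1 (hrad T hTn hsol)
  haveI : Fact (Nat.Prime 5) := ⟨by norm_num⟩
  haveI : Nontrivial T := T.nontrivial_iff_ne_bot.mpr hT1
  have hsimp : IsSimpleGroup T := by
    refine ⟨fun M hMn => or_iff_not_imp_left.mpr fun hM0 => ?_⟩
    obtain ⟨S, hSn, hSM, hS0, hSmin⟩ := CfsgLib.exists_minimal_normal (N := M) hM0
    haveI := hSn
    refine eq_top_iff.mpr (le_trans (top_le_iff.mpr ?_).ge hSM)
    have hSns : ¬ Group.IsSolvable S := fun hsol => by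
      obtain ⟨-, p, hp, hexp⟩ := CfsgLib.minimal_normal_elementary hS0 hsol hSmin
      haveI := Fact.mk hp
      have hle : S ≤ Cfsg.pCore p T := CfsgLib.le_pCore (fun s => ⟨1, Subtype.ext (by
        simpa using hexp s s.2)⟩)
      have hb := hrad ((Cfsg.pCore p T).map T.subtype) inferInstance
        (solvable_of_isPGroup ((CfsgLib.isPGroup_pCore (G := T) p).map _))
      rw [Subgroup.map_eq_bot_iff_of_injective _ T.subtype_injective] at hb
      exact hS0 (le_bot_iff.mp (hb ▸ hle))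
    have hinv : ∀ g : G, S.map (MulAut.conjNormal (H := T) g).toMonoidHom = S := fun g => by
      set S' := S.map (MulAut.conjNormal (H := T) g).toMonoidHom with hS'
      haveI : S'.Normal := hSn.map _ (MulAut.conjNormal (H := T) g).surjective
      by_contra hne
      rcases hSmin (S ⊓ S') inferInstance inf_le_left with e | e
      · have hS'ns : ¬ Group.IsSolvable S' := fun hsol => hSns (by
          haveI := hsol
          exact Group.isSolvable_of_isSolvable_injective (G' := S')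
            (f := (S.equivMapOfInjective _ (MulAut.conjNormal (H := T) g).injective).toMonoidHom)
            (MulEquiv.injective _))
        obtain ⟨w, hw⟩ := ((h.subgroup T).subgroup S').exists_five hS'ns
        refine hSns (solvable_of_isPGroup (p := 5) fun s => ⟨1, Subtype.ext ?_⟩)
        rw [pow_one, SubmonoidClass.coe_pow, OneMemClass.coe_one]
        exact (h.subgroup T).commute_five (u := (w : T)) (by rw [Subgroup.orderOf_coe, hw])
          (Subgroup.commute_of_normal_of_disjoint S S' hSn inferInstance (disjoint_iff.mpr e) _ _ s.2 w.2).symm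
      · refine hne (Subgroup.eq_of_le_of_card_ge (inf_eq_left.mp e) ?_).symm
        exact (Nat.card_congr (S.equivMapOfInjective _ (MulAut.conjNormal (H := T) g).injective).toEquiv).ge
    haveI hnorm : (S.map T.subtype).Normal := ⟨by
      rintro _ ⟨s, hs', rfl⟩ g
      exact ⟨MulAut.conjNormal (H := T) g s, (hinv g).le (Subgroup.mem_map_of_mem _ hs'),
        MulAut.conjNormal_apply g s⟩⟩
    rcases hmin _ hnorm (Subgroup.map_subtype_le S) with e | e
    · rw [Subgroup.map_eq_bot_iff_of_injective _ T.subtype_injective] at e; exact absurd e hS0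
    · exact Subgroup.map_injective T.subtype_injective (by rw [e, ← MonoidHom.range_eq_map, Subgroup.range_subtype])
  have hC : Subgroup.centralizer (T : Set G) = ⊥ := by
    obtain ⟨w, hw⟩ := (h.subgroup T).exists_five hTns
    refine hrad _ inferInstance (solvable_of_isPGroup (p := 5) fun c => ⟨1, Subtype.ext ?_⟩)
    rw [pow_one, SubmonoidClass.coe_pow, OneMemClass.coe_one]
    exact h.commute_five (u := (w : G)) (by rw [Subgroup.orderOf_coe, hw])
      (Subgroup.mem_centralizer_iff.mp c.2 w w.2)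
  rcases hs T hsimp (h.subgroup T) hTns (le_trans (Subgroup.card_le_card_group T) hM) with e | e
  · exact ⟨T, hTn, 5, Or.inl rfl, e, hC⟩
  · exact ⟨T, hTn, 6, Or.inr rfl, e, hC⟩

/-- A four-group with an element of order three cycling its involutions. -/
theorem exists_four {T : Subgroup G} {n : ℕ} (hn : n = 5 ∨ n = 6) (e : T ≃* alternatingGroup (Fin n)) :
    ∃ k y : G, y ^ 3 = 1 ∧ k * k = 1 ∧ Commute k (y * k * y⁻¹) ∧ Commute k (y * y * k * (y * y)⁻¹) ∧
      Commute (y * k * y⁻¹) (y * y * k * (y * y)⁻¹) ∧ y * k * y⁻¹ ≠ k := by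
  obtain ⟨l, x, hl, hx, hx3, hl2, hne, c1, c2, c3⟩ : ∃ l x : Equiv.Perm (Fin n), Equiv.Perm.sign l = 1 ∧
      Equiv.Perm.sign x = 1 ∧ x ^ 3 = 1 ∧ l * l = 1 ∧ x * l * x⁻¹ ≠ l ∧
      l * (x * l * x⁻¹) = (x * l * x⁻¹) * l ∧ l * (x * x * l * (x * x)⁻¹) = (x * x * l * (x * x)⁻¹) * l ∧
      (x * l * x⁻¹) * (x * x * l * (x * x)⁻¹) = (x * x * l * (x * x)⁻¹) * (x * l * x⁻¹) := by
    rcases hn with rfl | rfl
    · exact ⟨Perms.l5, Perms.y5, Perms.five_four⟩
    · exact ⟨Perms.z0, Perms.x0, Perms.six_four⟩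
  let F : alternatingGroup (Fin n) →* G := T.subtype.comp e.symm.toMonoidHom
  have hF : Function.Injective F := T.subtype_injective.comp e.symm.injective
  let L : alternatingGroup (Fin n) := ⟨l, Equiv.Perm.mem_alternatingGroup.mpr hl⟩
  let X : alternatingGroup (Fin n) := ⟨x, Equiv.Perm.mem_alternatingGroup.mpr hx⟩
  have cc : ∀ a b : alternatingGroup (Fin n), (a : Equiv.Perm (Fin n)) * b = b * a → Commute (F a) (F b) :=
    fun a b e1 => (show Commute a b from Subtype.ext e1).map F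
  refine ⟨F L, F X, ?_, ?_, ?_, ?_, ?_, ?_⟩
  · rw [← map_pow, show X ^ 3 = 1 from Subtype.ext hx3, map_one]
  · rw [← map_mul, show L * L = 1 from Subtype.ext hl2, map_one]
  all_goals simp only [← map_mul, ← map_inv]
  · exact cc _ _ c1
  · exact cc _ _ c2
  · exact cc _ _ c3
  · exact fun e1 => hne (congrArg Subtype.val (hF e1))

/-- The solvable normal subgroups of a nonsolvable group are two-groups. -/
theorem Six.radical_two {M : ℕ} (hs : SimpleUpTo.{u} M) : ∀ (m : ℕ) (G : Type u) [Group G] [Finite G],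
    Nat.card G = m → m ≤ M → Six G → ¬ Group.IsSolvable G →
      ∀ N : Subgroup G, N.Normal → Group.IsSolvable N → IsPGroup 2 N := by
  intro m
  induction m using Nat.strong_induction_on with
  | _ m ih =>
  intro G _ _ hcard hmM h hns N hNn hNs
  haveI : Fact (Nat.Prime 2) := ⟨Nat.prime_two⟩
  set Q := Cfsg.pCore 2 G with hQd
  have hQ : IsPGroup 2 Q := CfsgLib.isPGroup_pCore 2
  have smaller : ∀ C : Subgroup G, C.Normal → C ≠ ⊥ → Nat.card (G ⧸ C) < m := fun C _ hC1 => by
    haveI : Nontrivial C := C.nontrivial_iff_ne_bot.mpr hC1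
    have h1 := Subgroup.card_eq_card_quotient_mul_card_subgroup C
    have h2 := Finite.one_lt_card (α := C)
    have h3 : 0 < Nat.card (G ⧸ C) := Nat.card_pos
    rw [← hcard, h1]; nlinarith
  by_cases hQ1 : Q = ⊥
  swap
  · have hlt := smaller Q inferInstance hQ1
    have h1 := ih _ hlt (G ⧸ Q) rfl (by omega) (h.quotient Q)
      (not_solvable_quotient Q (solvable_of_isPGroup hQ) hns) (N.map (QuotientGroup.mk' Q))
      (hNn.map _ (QuotientGroup.mk'_surjective Q))
      (by
        haveI := hNs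
        exact Group.isSolvable_of_surjective (f := (QuotientGroup.mk' Q).subgroupMap N)
          ((QuotientGroup.mk' Q).subgroupMap_surjective N))
    intro g
    obtain ⟨i, hi⟩ := h1 ⟨_, Subgroup.mem_map_of_mem _ g.2⟩
    have hi' : (g : G) ^ 2 ^ i ∈ Q := by
      refine (QuotientGroup.eq_one_iff _).mp ?_
      simpa using congrArg Subtype.val hi
    obtain ⟨j, hj⟩ := hQ ⟨_, hi'⟩
    refine ⟨i + j, Subtype.ext ?_⟩
    have := congrArg Subtype.val hj
    simp only [SubmonoidClass.coe_pow, OneMemClass.coe_one] at this ⊢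
    rw [pow_add, pow_mul]; exact this
  by_cases hN1 : N = ⊥
  · rw [hN1]; exact IsPGroup.of_bot
  exfalso
  obtain ⟨A, hAn, hAN, hA1, hAmin⟩ := CfsgLib.exists_minimal_normal hN1
  haveI := hAn
  have hAs : Group.IsSolvable A := by
    haveI := hNs
    exact Group.isSolvable_of_isSolvable_injective (Subgroup.inclusion_injective hAN)
  obtain ⟨hAc, p, hp, hexp⟩ := CfsgLib.minimal_normal_elementary hA1 hAs hAmin
  haveI := hAc
  obtain ⟨a, ha, ha1⟩ := (Subgroup.ne_bot_iff_exists_ne_one.mp hA1 : ∃ a : A, a ≠ 1).elim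
    fun a h1 => (⟨a, a.2, fun e => h1 (Subtype.ext e)⟩ : ∃ a : G, a ∈ A ∧ a ≠ 1)
  haveI := Fact.mk hp
  have hoa : orderOf a = p := orderOf_eq_prime (hexp a ha) ha1
  have hpc := h.prime_cases hp (hoa ▸ orderOf_dvd_natCard a)
  set C := Subgroup.centralizer (A : Set G) with hC
  have hCA : A ≤ C := fun x hx => Subgroup.mem_centralizer_iff.mpr fun y hy =>
    congrArg Subtype.val (IsMulCommutative.is_comm.comm (⟨y, hy⟩ : A) ⟨x, hx⟩)
  haveI : C.Normal := by rw [hC]; infer_instance
  have hC1 : C ≠ ⊥ := fun e => hA1 (le_bot_iff.mp (e ▸ hCA))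
  have hca : ∀ c ∈ C, Commute a c := fun c hc => Subgroup.mem_centralizer_iff.mp hc a ha
  rcases hpc with e | e | e <;> subst e
  · exact hA1 (le_bot_iff.mp (hQ1 ▸ CfsgLib.le_pCore (fun x => ⟨1, Subtype.ext (by
      simpa using hexp x x.2)⟩)))
  · -- a three-group
    have hCs : Group.IsSolvable C := (h.subgroup C).solvable_of_not_five fun hd => by
      haveI : Fact (Nat.Prime 5) := ⟨by norm_num⟩
      obtain ⟨c, hc⟩ := exists_prime_orderOf_dvd_card' (G := C) 5 hd
      exact h.not_commute (hca c c.2) hoa (by rw [Subgroup.orderOf_coe, hc]) (by norm_num) (by norm_num)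
    have hK : Six (G ⧸ C) := h.quotient C
    have hKns := not_solvable_quotient C hCs hns
    have hlt := smaller C inferInstance hC1
    have hrad := ih _ hlt (G ⧸ C) rfl (by omega) hK hKns
    set W := Cfsg.pCore 2 (G ⧸ C) with hW
    by_cases hW1 : W = ⊥
    · have hr' : ∀ N : Subgroup (G ⧸ C), N.Normal → Group.IsSolvable N → N = ⊥ := fun N hn hsol => by
        haveI := hn
        exact le_bot_iff.mp (hW1 ▸ CfsgLib.le_pCore (hrad N hn hsol))
      obtain ⟨T, hTn, n, hn, ⟨e⟩, -⟩ := hK.exists_alt hs (by omega) hKns hr'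
      obtain ⟨k, y, hy, hk, h01, h02, h12, hne⟩ := exists_four hn e
      exact hne (h.cycle_fixed A hexp hk hy h01 h02 h12)
    · have hWp : IsPGroup 2 W := CfsgLib.isPGroup_pCore 2
      set L := centralInvol W with hL
      haveI : L.Normal := centralInvol_normal W
      have hLc : ∀ v ∈ L, ∀ w ∈ L, Commute v w := fun v hv w hw => hv.2.2 w hw.1
      obtain ⟨z, hz, hz1⟩ := (Subgroup.ne_bot_iff_exists_ne_one.mp (centralInvol_ne_bot hWp hW1) :
        ∃ z : L, z ≠ 1).elim fun z h1 => (⟨z, z.2, fun e => h1 (Subtype.ext e)⟩ : ∃ z, z ∈ L ∧ z ≠ 1)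
      set H := Subgroup.normalClosure {y : G ⧸ C | y ^ 3 = 1} with hH
      have hHL : H ≤ Subgroup.centralizer (L : Set (G ⧸ C)) := by
        refine Subgroup.normalClosure_le_normal fun y hy => Subgroup.mem_centralizer_iff.mpr fun v hv => ?_
        have c1 : y * v * y⁻¹ ∈ L := Subgroup.Normal.conj_mem ‹_› v hv y
        have c2 : y * y * v * (y * y)⁻¹ ∈ L := Subgroup.Normal.conj_mem ‹_› v hv (y * y)
        have e := h.cycle_fixed A hexp hv.2.1 hy (hLc v hv _ c1) (hLc v hv _ c2) (hLc _ c1 _ c2)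
        rw [mul_inv_eq_iff_eq_mul] at e
        exact e.symm
      have hHns : ¬ Group.IsSolvable H := fun hsol => hKns
        ((Group.isSolvable_iff_subgroup_quotient H).mpr ⟨hsol, (hK.quotient H).solvable_of_not_dvd
          (p := 3) (Or.inr (Or.inl rfl)) fun hd => by
            haveI : Fact (Nat.Prime 3) := ⟨Nat.prime_three⟩
            obtain ⟨w, hw⟩ := exists_prime_orderOf_dvd_card' (G := (G ⧸ C) ⧸ H) 3 hd
            obtain ⟨w, rfl⟩ := QuotientGroup.mk_surjective w
            obtain ⟨y, hy, hy3⟩ := hK.lift_three (QuotientGroup.mk' H) (x := w)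
              (orderOf_dvd_iff_pow_eq_one.mp hw.dvd)
            have h1 : ((y : G ⧸ C) : (G ⧸ C) ⧸ H) = 1 :=
              (QuotientGroup.eq_one_iff y).mpr (Subgroup.subset_normalClosure hy3)
            simp only [QuotientGroup.mk'_apply] at hy
            rw [← hy, h1, orderOf_one] at hw
            omega⟩)
      obtain ⟨w, hw⟩ := (hK.subgroup H).exists_five hHns
      rw [← Subgroup.orderOf_coe] at hw
      exact hK.not_commute (Subgroup.mem_centralizer_iff.mp (hHL w.2) z hz).symm hw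
        (orderOf_eq_prime (by rw [pow_two]; exact hz.2.1) hz1) (by norm_num) (by norm_num)
  · -- a five-group
    have hCp : IsPGroup 5 C := fun c => ⟨1, Subtype.ext (by
      simpa using h.commute_five hoa (hca c c.2))⟩
    have hK : Six (G ⧸ C) := h.quotient C
    have hKns := not_solvable_quotient C (solvable_of_isPGroup hCp) hns
    obtain ⟨k, hk⟩ := exists_prime_orderOf_dvd_card' (G := G ⧸ C) 2
      (not_not.mp fun hd => hKns (hK.solvable_of_not_dvd (Or.inl rfl) hd))
    obtain ⟨w, hw⟩ := hK.exists_five hKns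
    have inverts : ∀ g : G, orderOf (g : G ⧸ C) = 2 → ∀ v ∈ A, g * v * g⁻¹ = v⁻¹ := by
      intro g hg v hv
      set b := v * (g * v * g⁻¹) with hb
      have hgv : g * v * g⁻¹ ∈ A := Subgroup.Normal.conj_mem ‹_› v hv g
      have hg2 : g * g ∈ C := (QuotientGroup.eq_one_iff _).mp (by
        rw [QuotientGroup.mk_mul, ← pow_two, ← hg, pow_orderOf_eq_one])
      by_contra hne
      have hb1 : b ≠ 1 := fun e1 => hne (eq_inv_of_mul_eq_one_right e1)
      have hc : Commute b g := by
        have e1 : g * b * g⁻¹ = b := by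
          calc g * b * g⁻¹ = (g * v * g⁻¹) * (g * g * v * (g * g)⁻¹) := by rw [hb]; group
            _ = (g * v * g⁻¹) * v := by rw [← Subgroup.mem_centralizer_iff.mp hg2 v hv]; group
            _ = b := congrArg Subtype.val (IsMulCommutative.is_comm.comm (⟨_, hgv⟩ : A) ⟨v, hv⟩)
        exact (mul_inv_eq_iff_eq_mul.mp e1).symm
      have h5 := h.commute_five (orderOf_eq_prime (hexp b (mul_mem hv hgv)) hb1) hc
      have := hg ▸ orderOf_dvd_of_pow_eq_one (show (g : G ⧸ C) ^ 5 = 1 by rw [← QuotientGroup.mk_pow, h5]; rfl)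
      omega
    have huniq : ∀ y : G ⧸ C, orderOf y = 2 → y = k := fun y hy => by
      obtain ⟨g, rfl⟩ := QuotientGroup.mk_surjective y
      obtain ⟨g', rfl⟩ := QuotientGroup.mk_surjective k
      refine QuotientGroup.eq.mpr (Subgroup.mem_centralizer_iff.mpr fun v hv => ?_)
      calc v * (g⁻¹ * g') = g⁻¹ * (g * v * g⁻¹) * g' := by group
        _ = g⁻¹ * (g' * v * g'⁻¹) * g' := by rw [inverts g hy v hv, inverts g' hk v hv]
        _ = g⁻¹ * g' * v := by group
    have hcomm : Commute w k := by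
      have e1 := huniq (w * k * w⁻¹) (by rw [← hk]; exact (MulEquiv.orderOf_eq (MulAut.conj w) k))
      exact mul_inv_eq_iff_eq_mul.mp e1
    exact hK.not_commute hcomm hw hk (by norm_num) (by norm_num)

/-- Without solvable normal subgroups the group is `A5`, `S5`, `A6` or `S6`. -/
theorem Six.top_cases (h : Six G) {M : ℕ} (hs : SimpleUpTo.{u} M) (hM : Nat.card G ≤ M)
    (hns : ¬ Group.IsSolvable G) (hrad : ∀ N : Subgroup G, N.Normal → Group.IsSolvable N → N = ⊥) :
    ∃ n : ℕ, (n = 5 ∨ n = 6) ∧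
      (Nonempty (G ≃* alternatingGroup (Fin n)) ∨ Nonempty (G ≃* Equiv.Perm (Fin n))) := by
  obtain ⟨T, hTn, n, hn, ⟨e⟩, hC⟩ := h.exists_alt hs hM hns hrad
  exact ⟨n, hn, h.alt_sym hn e hC⟩

theorem orderOf_eq_four {H : Type*} [Group H] {g : H} (h4 : g ^ 4 = 1) (h2 : g ^ 2 ≠ 1) : orderOf g = 4 :=
  orderOf_eq_prime_pow (p := 2) (n := 1) (by rwa [pow_one]) h4

section Core

variable {H : Type} [Group H] (Q : Subgroup G) [Q.Normal] (i : G ⧸ Q ≃* H)

theorem exists_lift (x : H) : ∃ g : G, i (g : G ⧸ Q) = x := by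
  obtain ⟨g, hg⟩ := QuotientGroup.mk_surjective (i.symm x)
  exact ⟨g, by rw [hg, i.apply_symm_apply]⟩

theorem mem_of_image_eq_one {g : G} (e : i (g : G ⧸ Q) = 1) : g ∈ Q :=
  (QuotientGroup.eq_one_iff g).mp (i.injective (e.trans (map_one i).symm))

/-- The order of a preimage of an element of order four or five is the same. -/
theorem Six.orderOf_lift_big (h : Six G) {g : G} {x : H} (hg : i (g : G ⧸ Q) = x) {k : ℕ} (hk : 4 ≤ k)
    (hx : orderOf x = k) : orderOf g = k := by
  have hd := orderOf_map_dvd (i.toMonoidHom.comp (QuotientGroup.mk' Q)) g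
  simp only [MonoidHom.coe_comp, MulEquiv.coe_toMonoidHom, Function.comp_apply, QuotientGroup.mk'_apply, hg,
    hx] at hd
  obtain ⟨c, hc⟩ := hd
  have := h g
  have := orderOf_pos g
  rcases c with _ | _ | c
  · omega
  · omega
  · nlinarith

end Core

/-- The symmetric groups do not act on a two-core. -/
theorem Six.kill_sym (h : Six G) (Q : Subgroup G) [Q.Normal] (hQ : IsPGroup 2 Q) (hQ1 : Q ≠ ⊥) {m : ℕ}
    (i : G ⧸ Q ≃* Equiv.Perm (Fin m)) {u' g' : Equiv.Perm (Fin m)} (hu5 : u' ^ 5 = 1) (hu1 : u' ≠ 1)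
    (hg4 : g' ^ 4 = 1) (hg2 : g' ^ 2 ≠ 1) (hgu : g' * u' * g'⁻¹ = u' ^ 2) : False := by
  obtain ⟨u, hu⟩ := exists_lift Q i u'
  obtain ⟨g, hg⟩ := exists_lift Q i g'
  have hog : orderOf g = 4 := h.orderOf_lift_big Q i hg le_rfl (orderOf_eq_four hg4 hg2)
  refine h.top_five_mod Q hQ hQ1 (u := u) (g := g) (k := 2) (mem_of_image_eq_one Q i ?_) (fun hm => hu1 ?_)
    (orderOf_dvd_iff_pow_eq_one.mp hog.dvd) (mem_of_image_eq_one Q i ?_)
  · rw [QuotientGroup.mk_pow, map_pow, hu, hu5]
  · rw [← hu, (QuotientGroup.eq_one_iff u).mpr hm, map_one]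
  · simp only [QuotientGroup.mk_inv, QuotientGroup.mk_mul, QuotientGroup.mk_pow, map_mul, map_inv, map_pow, hu, hg]
    rw [inv_mul_eq_one, ← mul_inv_eq_iff_eq_mul.mp hgu]

/-- The alternating group of degree six does not act on a two-core. -/
theorem Six.kill_six (h : Six G) (Q : Subgroup G) [Q.Normal] (hQ : IsPGroup 2 Q)
    (hC : Subgroup.centralizer (Q : Set G) ≤ Q) (i : G ⧸ Q ≃* alternatingGroup (Fin 6)) : False := by
  obtain ⟨sc, sf, hx1, hcx, hfx, hf4, hf2, hinv⟩ := Perms.six_nine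
  have sx := Perms.basic.2.2.2.1
  let X : alternatingGroup (Fin 6) := ⟨Perms.x0, Equiv.Perm.mem_alternatingGroup.mpr sx⟩
  let Y : alternatingGroup (Fin 6) := ⟨Perms.c6, Equiv.Perm.mem_alternatingGroup.mpr sc⟩
  let F : alternatingGroup (Fin 6) := ⟨Perms.f6, Equiv.Perm.mem_alternatingGroup.mpr sf⟩
  set R := (Subgroup.centralizer ({X, Y} : Set (alternatingGroup (Fin 6)))).comap i.toMonoidHom with hR
  have hXY : X * Y = Y * X := Subtype.ext hcx.symm
  have hRp : IsPGroup 3 R := fun r => ⟨1, Subtype.ext (i.injective (by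
    have hr := Subgroup.mem_centralizer_iff.mp r.2
    have e3 := Perms.six_nine_three _ (congrArg Subtype.val (hr X (by simp))).symm
      (congrArg Subtype.val (hr Y (by simp))).symm (Equiv.Perm.mem_alternatingGroup.mp (Subtype.prop _))
    rw [pow_one, SubmonoidClass.coe_pow, map_pow, OneMemClass.coe_one, map_one]
    exact Subtype.ext e3))⟩
  obtain ⟨u, hu⟩ := exists_lift Q i X
  obtain ⟨g, hg⟩ := exists_lift Q i F
  have hF4 : F ^ 4 = 1 := Subtype.ext hf4
  have hF2 : F ^ 2 ≠ 1 := fun e => hf2 (congrArg Subtype.val e)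
  have hog : orderOf g = 4 := h.orderOf_lift_big Q i hg le_rfl (orderOf_eq_four hF4 hF2)
  have hg2 : g * g ∉ Q := fun hm => hF2 (by
    rw [← hg, ← map_pow, ← QuotientGroup.mk_pow, pow_two, (QuotientGroup.eq_one_iff _).mpr hm, map_one])
  refine h.top_three Q hQ hC hRp (u := u) (g := g) (k := 2) ?_ (fun hm => hx1 ?_) ?_
    (orderOf_dvd_iff_pow_eq_one.mp hog.dvd) hg2 (mem_of_image_eq_one Q i ?_)
  · show i (u : G ⧸ Q) ∈ Subgroup.centralizer {X, Y}
    rw [hu]
    refine Subgroup.mem_centralizer_iff.mpr ?_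
    rintro y (rfl | rfl)
    · rfl
    · exact hXY.symm
  · have := congrArg i ((QuotientGroup.eq_one_iff u).mpr hm)
    rw [hu, map_one] at this
    exact congrArg Subtype.val this
  · show i ((g * u * g⁻¹ : G) : G ⧸ Q) ∈ Subgroup.centralizer {X, Y}
    simp only [QuotientGroup.mk_mul, QuotientGroup.mk_inv, map_mul, map_inv, hu, hg]
    rw [show F * X * F⁻¹ = Y from Subtype.ext hfx]
    refine Subgroup.mem_centralizer_iff.mpr ?_
    rintro y (rfl | rfl)
    · exact hXY
    · rfl
  · simp only [QuotientGroup.mk_mul, QuotientGroup.mk_inv, map_mul, map_inv, hu, hg]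
    exact Subtype.ext hinv

/-- Below the alternating group of degree five the two-core is elementary. -/
theorem Six.five_elementary (h : Six G) (Q : Subgroup G) [Q.Normal] (hQ : IsPGroup 2 Q)
    (i : G ⧸ Q ≃* alternatingGroup (Fin 5)) : ∀ v ∈ Q, v * v = 1 := by
  obtain ⟨su, st, hu5, hu1, ht2, htu, -, -, -⟩ := Perms.five_facts
  let U : alternatingGroup (Fin 5) := ⟨Perms.u5, Equiv.Perm.mem_alternatingGroup.mpr su⟩
  let T : alternatingGroup (Fin 5) := ⟨Perms.t5, Equiv.Perm.mem_alternatingGroup.mpr st⟩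
  haveI : Fact (Nat.Prime 5) := ⟨by norm_num⟩
  have hU : orderOf U = 5 := orderOf_eq_prime (x := U) (Subtype.ext hu5) fun e => hu1 (congrArg Subtype.val e)
  have hTU : T * U * T⁻¹ * U = 1 := Subtype.ext (by
    show Perms.t5 * Perms.u5 * Perms.t5⁻¹ * Perms.u5 = 1
    rw [htu, inv_mul_cancel])
  obtain ⟨u, hu⟩ := exists_lift Q i U
  obtain ⟨t0, ht0⟩ := exists_lift Q i T
  have hou : orderOf u = 5 := h.orderOf_lift_big Q i hu (by norm_num) hU
  obtain ⟨q, hq, hqu⟩ : ∃ q ∈ Q, t0 * u * t0⁻¹ = q * u⁻¹ := by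
    refine ⟨t0 * u * t0⁻¹ * u, mem_of_image_eq_one Q i ?_, by group⟩
    simp only [QuotientGroup.mk_mul, QuotientGroup.mk_inv, map_mul, map_inv, hu, ht0]
    exact hTU
  let f : Q → Q := fun r => ⟨(r : G) * (u⁻¹ * (r : G)⁻¹ * u), mul_mem r.2 (by
    simpa using Subgroup.Normal.conj_mem (inferInstance : Q.Normal) _ (inv_mem r.2) u⁻¹)⟩
  have hf : Function.Injective f := fun r s e => by
    have e' : (r : G) * (u⁻¹ * (r : G)⁻¹ * u) = s * (u⁻¹ * (s : G)⁻¹ * u) := congrArg Subtype.val e
    have e2 : ((s : G)⁻¹ * r) * u⁻¹ = u⁻¹ * ((s : G)⁻¹ * r) := by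
      calc ((s : G)⁻¹ * r) * u⁻¹ = (s : G)⁻¹ * (r * (u⁻¹ * (r : G)⁻¹ * u)) * (u⁻¹ * r) := by group
        _ = u⁻¹ * ((s : G)⁻¹ * r) := by rw [e']; group
    have hc : Commute u ((s : G)⁻¹ * r) := Commute.inv_left_iff.mp (e2.symm : Commute u⁻¹ _)
    obtain ⟨j, hj⟩ := hQ ⟨_, mul_mem (inv_mem s.2) r.2⟩
    exact Subtype.ext (inv_mul_eq_one.mp
      (h.five_fixes hou hc (p := 2) (by norm_num) (congrArg Subtype.val hj))).symm
  obtain ⟨r, hr⟩ := (Finite.injective_iff_surjective.mp hf) ⟨q, hq⟩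
  have hr' : (r : G) * (u⁻¹ * (r : G)⁻¹ * u) = q := congrArg Subtype.val hr
  set t1 := (r : G)⁻¹ * t0 with ht1
  have h1 : t1 * u * t1⁻¹ = u⁻¹ := by
    calc t1 * u * t1⁻¹ = (r : G)⁻¹ * (t0 * u * t0⁻¹) * r := by rw [ht1]; group
      _ = u⁻¹ := by rw [hqu, ← hr']; group
  have hc2 : Commute u (t1 * t1) := by
    show u * (t1 * t1) = t1 * t1 * u
    calc u * (t1 * t1) = (t1 * u * t1⁻¹)⁻¹ * (t1 * t1) := by rw [h1, inv_inv]
      _ = t1 * u⁻¹ * t1 := by group
      _ = t1 * (t1 * u * t1⁻¹) * t1 := by rw [h1]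
      _ = t1 * t1 * u := by group
  have h10 : (t1 * t1) ^ 5 = 1 := h.commute_five hou hc2
  refine (h.dten Q hQ hou (t := t1 ^ 5) (k := 1) ?_ ?_).2.1
  · rw [pow_one, ← pow_mul, show 5 * 2 = 2 * 5 from rfl, pow_mul, pow_two, h10]
  · have hc4 : Commute u (t1 ^ 4) := by
      rw [show 4 = 2 * 2 from rfl, pow_mul, pow_two t1]; exact hc2.pow_right 2
    calc t1 ^ 5 * u * (t1 ^ 5)⁻¹ = t1 * (t1 ^ 4 * u * (t1 ^ 4)⁻¹) * t1⁻¹ := by
          rw [pow_succ' t1 4, mul_inv_rev]; group
      _ = u⁻¹ := by rw [← hc4.eq, mul_inv_cancel_right, h1]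

/-- The top over a nontrivial two-core is `A5`, and the core is elementary. -/
theorem Six.core_case (h : Six G) {M : ℕ} (hs : SimpleUpTo.{u} M) (hM : Nat.card G ≤ M)
    (hns : ¬ Group.IsSolvable G) (hQ1 : Cfsg.pCore 2 G ≠ ⊥) :
    Nonempty (G ⧸ Cfsg.pCore 2 G ≃* alternatingGroup (Fin 5)) ∧ ∀ v ∈ Cfsg.pCore 2 G, v * v = 1 := by
  haveI : Fact (Nat.Prime 2) := ⟨Nat.prime_two⟩
  have hrad2 := Six.radical_two hs _ G rfl hM h hns
  set Q := Cfsg.pCore 2 G with hQd
  have hQ : IsPGroup 2 Q := CfsgLib.isPGroup_pCore 2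
  have hrad : ∀ N : Subgroup (G ⧸ Q), N.Normal → Group.IsSolvable N → N = ⊥ := fun N hn hsol => by
    haveI := hn
    set N' := N.comap (QuotientGroup.mk' Q) with hN'
    haveI := solvable_of_isPGroup hQ
    have hs' : Group.IsSolvable N' := by
      haveI := hsol
      refine Group.isSolvable_of_ker_le_range (Subgroup.inclusion (H := Q) (K := N') ?_)
        ((QuotientGroup.mk' Q).subgroupComap N) ?_
      · intro q hq
        show (q : G ⧸ Q) ∈ N
        rw [(QuotientGroup.eq_one_iff q).mpr hq]; exact one_mem N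
      · intro x hx
        exact ⟨⟨x, (QuotientGroup.eq_one_iff _).mp (congrArg Subtype.val (MonoidHom.mem_ker.mp hx))⟩, Subtype.ext rfl⟩
    have hle : N' ≤ Q := CfsgLib.le_pCore (hrad2 N' inferInstance hs')
    refine (Subgroup.eq_bot_iff_forall _).mpr fun x hx => ?_
    obtain ⟨g, rfl⟩ := QuotientGroup.mk_surjective x
    exact (QuotientGroup.eq_one_iff g).mpr (hle hx)
  have hCQ : Subgroup.centralizer (Q : Set G) ≤ Q := by
    haveI : Nontrivial Q := Q.nontrivial_iff_ne_bot.mpr hQ1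
    obtain ⟨j, hj, hjc⟩ := hQ.nontrivial_iff_card.mp inferInstance
    obtain ⟨z, hz⟩ := exists_prime_orderOf_dvd_card' (G := Q) 2 (hjc ▸ dvd_pow_self 2 hj.ne')
    have hz' : orderOf (z : G) = 2 := by rw [Subgroup.orderOf_coe, hz]
    haveI := h.solvable_centralizer hz'
    refine CfsgLib.le_pCore (hrad2 _ inferInstance ?_)
    have hle : Subgroup.centralizer (Q : Set G) ≤ Subgroup.centralizer {(z : G)} :=
      Subgroup.centralizer_le (by simp)
    exact Group.isSolvable_of_isSolvable_injective (Subgroup.inclusion_injective hle)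
  have hKns := not_solvable_quotient Q (solvable_of_isPGroup hQ) hns
  obtain ⟨n, hn, hK⟩ := (h.quotient Q).top_cases hs
    (le_trans (Nat.card_le_card_of_surjective _ (QuotientGroup.mk'_surjective Q)) hM) hKns hrad
  rcases hn with rfl | rfl
  · rcases hK with hi | ⟨⟨i⟩⟩
    · exact ⟨hi, hi.elim fun i => h.five_elementary Q hQ i⟩
    · obtain ⟨-, -, a, b, -, -, c, d, e⟩ := Perms.five_facts
      exact (h.kill_sym Q hQ hQ1 i a b c d e).elim
  · rcases hK with ⟨⟨i⟩⟩ | ⟨⟨i⟩⟩
    · exact (h.kill_six Q hQ hCQ i).elim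
    · obtain ⟨a, b, c, d, e⟩ := Perms.six_facts
      exact (h.kill_sym Q hQ hQ1 i a b c d e).elim

/-- Facts about nonsolvable groups with element orders at most six. -/
theorem Six.nonsolvable_top (h : Six G)
    (hsimple : ∀ (T : Type u) [Group T] [Finite T], IsSimpleGroup T → Six T → ¬ Group.IsSolvable T →
      Nat.card T ≤ Nat.card G →
      Nonempty (T ≃* alternatingGroup (Fin 5)) ∨ Nonempty (T ≃* alternatingGroup (Fin 6)))
    (hns : ¬ Group.IsSolvable G) :
    (∀ N : Subgroup G, N.Normal → Group.IsSolvable N → IsPGroup 2 N) ∧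
      (Cfsg.pCore 2 G ≠ ⊥ → Nonempty (G ⧸ Cfsg.pCore 2 G ≃* alternatingGroup (Fin 5)) ∧
        ∀ v ∈ Cfsg.pCore 2 G, v * v = 1) :=
  ⟨Six.radical_two hsimple _ G rfl le_rfl h hns, h.core_case hsimple le_rfl hns⟩

/-- The nonsolvable groups with element orders exactly one to six. -/
theorem nonsolvable_case
    (hsimple : ∀ (T : Type u) [Group T] [Finite T], IsSimpleGroup T → Six T → ¬ Group.IsSolvable T →
      Nat.card T ≤ Nat.card G →
      Nonempty (T ≃* alternatingGroup (Fin 5)) ∨ Nonempty (T ≃* alternatingGroup (Fin 6)))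
    (h : Set.range (orderOf : G → ℕ) = {k : ℕ | 1 ≤ k ∧ k ≤ 6}) (hns : ¬ Group.IsSolvable G) :
    (∃ (N : Subgroup G) (_ : N.Normal), Cfsg.IsElementaryAbelian 2 N ∧
        Nonempty (G ⧸ N ≃* ↥(alternatingGroup (Fin 5)))) ∨
      Nonempty (G ≃* Equiv.Perm (Fin 5)) ∨ Nonempty (G ≃* Equiv.Perm (Fin 6)) := by
  have h6 : Six G := fun g => ((h ▸ Set.mem_range_self g : orderOf g ∈ {k : ℕ | 1 ≤ k ∧ k ≤ 6})).2
  obtain ⟨hr, hcore⟩ := h6.nonsolvable_top hsimple hns
  by_cases hQ1 : Cfsg.pCore 2 G = ⊥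
  swap
  · obtain ⟨hA, hsq⟩ := hcore hQ1
    exact Or.inl ⟨_, inferInstance, ⟨isMulCommutative_of_sq hsq, fun a ha => by rw [pow_two]; exact hsq a ha⟩, hA⟩
  obtain ⟨n, hn, hG⟩ := h6.top_cases hsimple le_rfl hns fun N hN hs => by
    haveI := hN
    exact le_bot_iff.mp (hQ1 ▸ CfsgLib.le_pCore (hr N hN hs))
  have ex : ∀ k, 1 ≤ k → k ≤ 6 → ∃ g : G, orderOf g = k := fun k h1 h2 => by
    have : k ∈ Set.range (orderOf : G → ℕ) := h ▸ (⟨h1, h2⟩ : k ∈ {k : ℕ | 1 ≤ k ∧ k ≤ 6})
    exact this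
  rcases hG with ⟨⟨e⟩⟩ | ⟨⟨e⟩⟩
  · exfalso
    rcases hn with rfl | rfl
    · obtain ⟨g, hg⟩ := ex 4 (by norm_num) (by norm_num)
      have h4 : (e g) ^ 4 = 1 := by rw [← map_pow, orderOf_dvd_iff_pow_eq_one.mp hg.dvd, map_one]
      have h2 := Perms.four_five _ (congrArg Subtype.val h4) (Equiv.Perm.mem_alternatingGroup.mp (e g).2)
      have h2' : g ^ 2 = 1 := e.injective (by rw [map_pow, map_one]; exact Subtype.ext h2)
      have := Nat.le_of_dvd (by norm_num) (hg ▸ orderOf_dvd_of_pow_eq_one h2')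
      omega
    · obtain ⟨g, hg⟩ := ex 6 (by norm_num) (by norm_num)
      have h4 : (e g) ^ 6 = 1 := by rw [← map_pow, orderOf_dvd_iff_pow_eq_one.mp hg.dvd, map_one]
      rcases Perms.six_six _ (congrArg Subtype.val h4) (Equiv.Perm.mem_alternatingGroup.mp (e g).2) with h2 | h2
      all_goals
        first
        | (have h2' : g ^ 3 = 1 := e.injective (by rw [map_pow, map_one]; exact Subtype.ext h2)
           have := Nat.le_of_dvd (by norm_num) (hg ▸ orderOf_dvd_of_pow_eq_one h2')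
           omega)
        | (have h2' : g ^ 2 = 1 := e.injective (by rw [map_pow, map_one]; exact Subtype.ext h2)
           have := Nat.le_of_dvd (by norm_num) (hg ▸ orderOf_dvd_of_pow_eq_one h2')
           omega)
  · rcases hn with rfl | rfl
    · exact Or.inr (Or.inl ⟨e⟩)
    · exact Or.inr (Or.inr ⟨e⟩)

end CfsgLib.SpecSix
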