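import Cfsg.Agent.Lib.SpecSix.CoreSThree
import Cfsg.Agent.Lib.SpecSix.Five2
import Cfsg.Agent.Lib.SpecSix.Nonsolvable

/-!
Element orders at most six, the simple case: the three types of parabolics.
-/

set_option autoImplicit false
set_option linter.unusedSectionVars false
set_option linter.style.haveILetI false

namespace CfsgLib.SpecSix

open Cfsg

universe u

local notation "A5" => alternatingGroup (Fin 5)

variable {G : Type u} [Group G] [Finite G]

theorem Hyp.not_two_group (H : Hyp G) : ¬ IsPGroup 2 (⊤ : Subgroup G) := fun h => by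
  haveI : Fact (Nat.Prime 2) := ⟨Nat.prime_two⟩
  haveI := solvable_of_isPGroup h
  exact H.nonsolvable (Group.isSolvable_of_isSolvable_injective (G' := (⊤ : Subgroup G))
    (f := (Subgroup.topEquiv (G := G)).symm.toMonoidHom) (MulEquiv.injective _))

theorem Hyp.nontrivial (H : Hyp G) : Nontrivial G :=
  not_subsingleton_iff_nontrivial.mp fun _ => H.nonsolvable
    (Group.isSolvable_of_comm fun _ _ => Subsingleton.elim _ _)

/-- The normalizer of a nontrivial 2-subgroup is proper. -/
theorem Hyp.normalizer_ne_top (H : Hyp G) {R : Subgroup G} (hR : IsPGroup 2 R) (hR1 : R ≠ ⊥) :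
    Subgroup.normalizer (R : Set G) ≠ ⊤ := fun e => by
  haveI : R.Normal := Subgroup.normalizer_eq_top_iff.mp e
  haveI := H.simple
  rcases IsSimpleGroup.eq_bot_or_eq_top_of_normal R inferInstance with h | h
  · exact hR1 h
  · exact H.not_two_group (h ▸ hR)

theorem Hyp.frame_ne_top (H : Hyp G) {T P : Subgroup G} (hF : Frame T P) : P ≠ ⊤ := fun e => by
  haveI := H.nontrivial
  refine H.normalizer_ne_top (core_isPGroup P) hF.core_ne_bot (top_le_iff.mp ?_)
  exact e.ge.trans (le_normalizer_core P)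

/-- The simple groups below a proper subgroup. -/
theorem Hyp.small_sub (H : Hyp G) {P : Subgroup G} (hP : P ≠ ⊤) :
    ∀ (T : Type u) [Group T] [Finite T], IsSimpleGroup T → Six T → ¬ Group.IsSolvable T →
      Nat.card T ≤ Nat.card P →
      Nonempty (T ≃* alternatingGroup (Fin 5)) ∨ Nonempty (T ≃* alternatingGroup (Fin 6)) :=
  fun T _ _ hs h6 hns hle => H.small T hs h6 hns (lt_of_le_of_lt hle (lt_of_le_of_ne
    (Subgroup.card_le_card_group P) fun e => hP (Subgroup.eq_top_of_card_eq P e)))

/-- A nonsolvable frame has top `A₅`. -/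
theorem Hyp.exists_five (H : Hyp G) {T P : Subgroup G} (hF : Frame T P) (hns : ¬ Group.IsSolvable P) :
    ∃ φ : P →* A5, Five T P φ := by
  haveI := H.nontrivial
  have hne : pCore 2 P ≠ ⊥ := fun e => hF.core_ne_bot (by rw [pCoreOf, e, Subgroup.map_bot])
  exact SpecSix.exists_five hF
    (((H.six.subgroup P).nonsolvable_top (H.small_sub (H.frame_ne_top hF)) hns).2 hne).1

/-- The three kinds of parabolics. -/
theorem Hyp.parab_cases (H : Hyp G) {T P : Subgroup G} (hP : Parab T P) :
    (pCoreOf 2 P).relIndex P = 6 ∨ (pCoreOf 2 P).relIndex P = 10 ∨ ∃ φ : P →* A5, Five T P φ := by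
  by_cases hs : Group.IsSolvable P
  · rcases hP.index_solvable H.six with h | h
    · exact Or.inl h
    · exact Or.inr (Or.inl h)
  · exact Or.inr (Or.inr (H.exists_five hP.toFrame hs))

/-- An element of order five fixed point free on a group of order at most four: the group is trivial. -/
theorem Six.five_small (h : Six G) {Q : Subgroup G} (hQ : IsPGroup 2 Q) {u : G} (hu : orderOf u = 5)
    (hn : u ∈ Subgroup.normalizer (Q : Set G)) (h4 : Nat.card Q ≤ 4) : Q = ⊥ := by
  refine (Subgroup.eq_bot_iff_forall _).mpr fun q hq => ?_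
  let f : Fin 5 → Q := fun i =>
    ⟨u ^ (i : ℕ) * q * (u ^ (i : ℕ))⁻¹,
      (Subgroup.mem_normalizer_iff.mp (Subgroup.pow_mem _ hn _) q).mp hq⟩
  obtain ⟨i, j, hne, hij⟩ : ∃ i j : Fin 5, i ≠ j ∧ f i = f j := by
    by_contra hno
    push Not at hno
    have := Nat.card_le_card_of_injective f fun i j e => by_contra fun hne => hno i j hne e
    rw [Nat.card_fin] at this
    omega
  wlog hlt : (i : ℕ) < (j : ℕ) generalizing i j
  · exact this j i hne.symm hij.symm (lt_of_le_of_ne (not_lt.mp hlt) fun e => hne (Fin.ext e).symm)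
  have e' : u ^ (i : ℕ) * q * (u ^ (i : ℕ))⁻¹ = u ^ (j : ℕ) * q * (u ^ (j : ℕ))⁻¹ := congrArg Subtype.val hij
  set d := (j : ℕ) - i with hd
  have hji : (j : ℕ) = i + d := by omega
  rw [hji, pow_add] at e'
  have hc : Commute (u ^ d) q := by
    refine mul_inv_eq_iff_eq_mul.mp ?_
    calc u ^ d * q * (u ^ d)⁻¹ = (u ^ (i : ℕ))⁻¹ * (u ^ (i : ℕ) * u ^ d * q * (u ^ (i : ℕ) * u ^ d)⁻¹) *
          u ^ (i : ℕ) := by group
      _ = q := by rw [← e']; group
  obtain ⟨m, hm⟩ := exists_pow_eq_self_of_coprime (x := u) (n := d)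
    (by
      rw [hu]
      exact (((Nat.prime_five).coprime_iff_not_dvd).mpr fun hdvd => by
        have := Nat.le_of_dvd (by omega) hdvd
        omega).symm)
  obtain ⟨k, hk⟩ := hQ ⟨q, hq⟩
  exact h.five_fixes hu (hm ▸ hc.pow_left m) (p := 2) (by norm_num) (congrArg Subtype.val hk)

end CfsgLib.SpecSix
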