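import Cfsg.Agent.Lib.SpecSix.FratAct
import Cfsg.Agent.Lib.SpecSix.Basic

/-!
Element orders at most six: two elements of the 3-core of the top, told apart by an involution centralising one and
inverting the other, commute.
-/

set_option autoImplicit false
set_option linter.unusedSectionVars false
set_option linter.style.haveILetI false

namespace CfsgLib.SpecSix

open Cfsg
open scoped IsMulCommutative

universe u

variable {G : Type u} [Group G] [Finite G]

/-- An element of order six of the top fixes what its square fixes on the Frattini quotient. -/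
theorem Six.frat_six (h : Six G) {Q : Subgroup G} [Q.Normal] (hQ : IsPGroup 2 Q) {k : G ⧸ Q}
    (hk : orderOf k = 6) {v : Additive (fratV Q)} (hv : fratAct Q (k * k) v = v) : fratAct Q k v = v := by
  obtain ⟨x, rfl⟩ := QuotientGroup.mk_surjective k
  set π := QuotientGroup.mk' (frat Q) with hπ
  let f : G ⧸ frat Q →* G ⧸ Q :=
    QuotientGroup.lift (frat Q) (QuotientGroup.mk' Q) (fun y hy => by
      rw [MonoidHom.mem_ker, QuotientGroup.mk'_apply, QuotientGroup.eq_one_iff]
      exact Subgroup.map_subtype_le _ hy)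
  have h1 : Six (G ⧸ frat Q) := h.quotient _
  have hf : orderOf (π x) = 6 := h1.orderOf_lift f (g := π x) hk
  set w := ((v.toMul : fratV Q) : G ⧸ frat Q) with hw
  have hwm : w ∈ fratV Q := v.toMul.2
  have hcw : Commute (π x * π x) w := by
    rw [← QuotientGroup.mk_mul, fratAct_mk hQ] at hv
    have e := congrArg (fun b : Additive (fratV Q) => ((b.toMul : fratV Q) : G ⧸ frat Q)) hv
    simp only [actAdd_apply, QuotientGroup.mk'_apply, QuotientGroup.mk_mul] at e
    exact mul_inv_eq_iff_eq_mul.mp e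
  have hcc : Commute w ((π x)⁻¹ * w * π x) :=
    fratV_comm hQ w hwm _ (Subgroup.Normal.conj_mem' (inferInstance : (fratV Q).Normal) w hwm _)
  have hc := h1.fix_six hf (fratV_sq hQ w hwm) hcw hcc
  rw [fratAct_mk hQ]
  refine Additive.toMul.injective (Subtype.ext ?_)
  rw [actAdd_apply]
  exact mul_inv_eq_iff_eq_mul.mpr hc

/-- **Two elements of order three of the top, one centralised and one inverted by an involution, commute.** -/
theorem Six.commute_top (h : Six G) {Q : Subgroup G} [Q.Normal] (hQ : IsPGroup 2 Q)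
    (hC : Subgroup.centralizer (Q : Set G) ≤ Q) {R : Subgroup (G ⧸ Q)} (hR : ∀ r ∈ R, r ^ 3 = 1)
    {x x' e : G ⧸ Q} (hx : x ∈ R) (hx' : x' ∈ R) (he : e * e = 1) (hex : Commute e x)
    (hex' : e * x' * e⁻¹ = x'⁻¹) : Commute x x' := by
  haveI : Fact (Nat.Prime 2) := ⟨Nat.prime_two⟩
  haveI : Fact (Nat.Prime 3) := ⟨Nat.prime_three⟩
  by_cases hx1 : x = 1
  · rw [hx1]; exact Commute.one_left _
  by_cases he1 : e = 1
  · rw [he1, one_mul, inv_one, mul_one] at hex'
    have h2 : x' * x' = 1 := by nth_rewrite 1 [hex']; exact inv_mul_cancel _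
    have e3 := hR x' hx'
    rw [pow_succ, pow_two, h2, one_mul] at e3
    rw [e3]; exact Commute.one_right _
  have ho : orderOf (x * e) = 6 := by
    rw [hex.symm.orderOf_mul_eq_mul_orderOf_of_coprime] <;>
      simp only [orderOf_eq_prime (hR x hx) hx1, orderOf_eq_prime (show e ^ 2 = 1 by rw [pow_two]; exact he) he1]
    norm_num
  set ρ := fratAct Q with hρ
  have hm : ∀ a b v, ρ (a * b) v = ρ a (ρ b v) := fun a b v => fratAct_mul hQ a b v
  have h1' : ∀ v, ρ 1 v = v := fun v => fratAct_one hQ v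
  have hsqxe : (x * e) * (x * e) = x * x := by
    rw [mul_assoc x e, ← mul_assoc e x e, hex.eq, mul_assoc x e e, he, mul_one]
  -- the involution is trivial where `x` is
  have hE : ∀ v, ρ x v = v → ρ e v = v := by
    intro v hv
    have h2 : ρ (x * e) v = v := h.frat_six hQ ho (by rw [hsqxe]; show ρ (x * x) v = v; rw [hm, hv, hv])
    calc ρ e v = ρ e (ρ x v) := by rw [hv]
      _ = ρ (x * e) v := by rw [← hm, hex.eq]
      _ = v := h2
  set c := x * x' * x⁻¹ * x'⁻¹ with hc
  have hcR : c ∈ R := mul_mem (mul_mem (mul_mem hx hx') (inv_mem hx)) (inv_mem hx')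
  have hexp : ∀ a b : G ⧸ Q, a ∈ R → b ∈ R → Commute a (b * a * b⁻¹) := fun a b ha hb =>
    commute_conj_of_exp_three hR ha hb
  have hcx : Commute c x := by
    have h2 : Commute x (x' * x⁻¹ * x'⁻¹) := by
      have := (hexp x x' hx hx').inv_right
      simpa [mul_assoc] using this
    have : c = x * (x' * x⁻¹ * x'⁻¹) := by rw [hc]; group
    rw [this]; exact (Commute.refl x).mul_left h2.symm
  have hcx' : Commute c x' := by
    have h2 : Commute x' (x * x' * x⁻¹) := hexp x' x hx' hx
    rw [hc]; exact h2.symm.mul_left (Commute.refl x').inv_left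
  have hec : e * c * e⁻¹ = c⁻¹ := by
    calc e * c * e⁻¹ = (e * x * e⁻¹) * (e * x' * e⁻¹) * (e * x * e⁻¹)⁻¹ * (e * x' * e⁻¹)⁻¹ := by rw [hc]; group
      _ = x * x'⁻¹ * x⁻¹ * x' := by rw [hex.eq, mul_inv_cancel_right, hex', inv_inv]
      _ = x'⁻¹ * c⁻¹ * x' := by rw [hc]; group
      _ = c⁻¹ := by rw [mul_assoc, hcx'.inv_left.eq, inv_mul_cancel_left]
  have hc3 : c ^ 3 = 1 := hR c hcR
  have hc3' : c * c * c = 1 := by rw [← hc3, pow_succ, pow_two]
  -- so is the commutator
  have hX : ∀ v, ρ x v = v → ρ c v = v := by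
    intro v hv
    have hv' : ρ x (ρ c⁻¹ v) = ρ c⁻¹ v := by rw [← hm, ← hcx.inv_left.eq, hm, hv]
    have e2 : c * e * c⁻¹ * e = c * c := by
      have hei : e⁻¹ = e := inv_eq_of_mul_eq_one_left he
      calc c * e * c⁻¹ * e = c * (e * c⁻¹ * e⁻¹) := by rw [hei]; simp only [mul_assoc]
        _ = c * (e * c * e⁻¹)⁻¹ := by group
        _ = c * c := by rw [hec, inv_inv]
    have h2 : ρ (c * c) v = v := by
      rw [← e2, hm, hE v hv, hm, hm, hE _ hv', ← hm, mul_inv_cancel, h1']
    calc ρ c v = ρ c (ρ (c * c) v) := by rw [h2]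
      _ = v := by rw [← hm, ← mul_assoc, hc3', h1']
  -- and where the conjugates of `x` are
  have hconj : ∀ a, (∀ v, ρ a v = v → ρ c v = v) → ∀ v, ρ (x' * a * x'⁻¹) v = v → ρ c v = v := by
    intro a ha v hv
    have h2 := ha (ρ x'⁻¹ v) (by
      calc ρ a (ρ x'⁻¹ v) = ρ (x'⁻¹ * (x' * a * x'⁻¹)) v := by rw [← hm]; congr 2; group
        _ = ρ x'⁻¹ v := by rw [hm, hv])
    calc ρ c v = ρ (x' * (c * x'⁻¹)) v := by rw [← mul_assoc, ← hcx'.eq, mul_inv_cancel_right]
      _ = v := by rw [hm, hm, h2, ← hm, mul_inv_cancel, h1']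
  set a1 := x' * x * x'⁻¹ with ha1
  set a2 := x' * a1 * x'⁻¹ with ha2
  have hA1 := hconj x hX
  have hA2 := hconj a1 hA1
  have e1 : a1 = c⁻¹ * x := by rw [ha1, hc]; group
  have e2 : a2 = c⁻¹ * (c⁻¹ * x) := by
    rw [ha2, e1]
    calc x' * (c⁻¹ * x) * x'⁻¹ = (x' * c⁻¹ * x'⁻¹) * (x' * x * x'⁻¹) := by group
      _ = c⁻¹ * (c⁻¹ * x) := by
        rw [← hcx'.inv_left.eq, mul_inv_cancel_right, ← ha1, e1]
  have hci : c⁻¹ = c * c := inv_eq_of_mul_eq_one_left hc3'
  have hx3 : x * x * x = 1 := by rw [← hR x hx, pow_succ, pow_two]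
  -- every element is a sum of fixed ones
  haveI := isMulCommutative_of_sq (fratV_sq hQ)
  have htriv : ∀ v, ρ c v = v := by
    intro v
    have n3 : ∀ a : G ⧸ Q, a * a * a = 1 → ∀ w, ρ a (w + ρ a w + ρ (a * a) w) = w + ρ a w + ρ (a * a) w := by
      intro a ha w
      rw [map_add, map_add, ← hm, ← hm, ← mul_assoc, ha, h1']; abel
    set w := ρ x v + ρ (x * x) v with hw
    have h2 := fratV_two hQ
    have hdec : v = (v + ρ x v + ρ (x * x) v) + (v + ρ (c * x) v + ρ (c * x * (c * x)) v) +
        (v + ρ (c * c * x) v + ρ (c * c * x * (c * c * x)) v) + (w + ρ c w + ρ (c * c) w) := by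
      have q1 : c * x * (c * x) = c * c * (x * x) := by
        rw [mul_assoc c x, ← mul_assoc x c x, ← hcx.eq]; simp only [mul_assoc]
      have q2 : c * c * x * (c * c * x) = c * (x * x) := by
        calc c * c * x * (c * c * x) = c * c * (x * (c * c)) * x := by group
          _ = c * c * ((c * c) * x) * x := by rw [((hcx.mul_left hcx).symm).eq]
          _ = (c * c * c) * c * (x * x) := by group
          _ = c * (x * x) := by rw [hc3', one_mul]
      rw [q1, q2, hw]
      simp only [map_add, ← hm]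
      set A := ρ x v
      set B := ρ (x * x) v
      set C := ρ (c * x) v
      set D := ρ (c * (x * x)) v
      set E := ρ (c * c * x) v
      set F := ρ (c * c * (x * x)) v
      calc v = v + (v + v) + (A + A) + (B + B) + (C + C) + (D + D) + (E + E) + (F + F) := by simp [h2]
        _ = _ := by abel
    rw [hdec]
    simp only [map_add]
    have f0 := hX _ (n3 x hx3 v)
    have hcx3 : ∀ a : G ⧸ Q, Commute a x → a * a * a = 1 → a * x * (a * x) * (a * x) = 1 := by
      intro a hax ha3
      have hp := hax.mul_pow 3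
      simp only [pow_succ, pow_zero, one_mul] at hp
      rw [hp, ha3, hx3, one_mul]
    have f1 := hA2 (v + ρ (c * x) v + ρ (c * x * (c * x)) v) (by
      rw [← ha2, e2, hci, show c * c * (c * c * x) = c * x by
        calc c * c * (c * c * x) = (c * c * c) * (c * x) := by group
          _ = c * x := by rw [hc3', one_mul]]
      exact n3 _ (hcx3 c hcx hc3') v)
    have f2 := hA1 (v + ρ (c * c * x) v + ρ (c * c * x * (c * c * x)) v) (by
      rw [← ha1, e1, hci]
      exact n3 _ (hcx3 _ (hcx.mul_left hcx) (by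
        calc c * c * (c * c) * (c * c) = (c * c * c) * (c * c * c) := by group
          _ = 1 := by rw [hc3', one_mul])) v)
    have f3 := n3 c hc3' w
    simp only [map_add] at f0 f1 f2 f3
    rw [f0, f1, f2, f3]
  have hc1 : c = 1 := fratAct_faithful hQ hC (by
    have hd : orderOf c ∣ 3 := orderOf_dvd_of_pow_eq_one hc3
    rcases (Nat.dvd_prime Nat.prime_three).mp hd with e | e <;> rw [e] <;> decide) htriv
  show x * x' = x' * x
  calc x * x' = c * (x' * x) := by rw [hc]; group
    _ = x' * x := by rw [hc1, one_mul]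

end CfsgLib.SpecSix
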