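import Cfsg.Agent.Lib.SpecSix.Parabolic
import Cfsg.Agent.Lib.CIT.Failure
import Cfsg.Agent.S2808

/-!
Element orders at most six: a parabolic with top `S₃` has a characteristic subgroup of its Sylow 2-subgroup normal
in it, or an elementary abelian core.
-/

set_option autoImplicit false
set_option linter.unusedSectionVars false
set_option linter.style.haveILetI false

namespace CfsgLib.SpecSix

open Cfsg

universe u

/-- A noncommutative group of order six is `PSL₂(2)`. -/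
theorem psl_two_of_card_six {K : Type u} [Group K] [Finite K] (hK : Nat.card K = 6) {a t : K} (ha : orderOf a = 3)
    (ht : t * t = 1) (ht1 : t ≠ 1) (hinv : t * a * t⁻¹ = a⁻¹) :
    Nonempty (K ≃* Matrix.ProjectiveSpecialLinearGroup (Fin 2) (ZMod 2)) := by
  classical
  haveI : Fact (Nat.Prime 2) := ⟨Nat.prime_two⟩
  set H := Subgroup.zpowers t with hH
  have hto : orderOf t = 2 := orderOf_eq_prime (by rw [pow_two]; exact ht) ht1
  have hidx : Nat.card (K ⧸ H) = 3 := by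
    have := Subgroup.card_eq_card_quotient_mul_card_subgroup H
    rw [hK, show Nat.card H = 2 from (Nat.card_zpowers t).trans hto] at this
    omega
  have hcore : H.normalCore = ⊥ := by
    refine (Subgroup.eq_bot_iff_forall _).mpr fun b hb => ?_
    obtain ⟨i, hi⟩ := Subgroup.mem_zpowers_iff.mp (H.normalCore_le hb)
    by_contra hb1
    have hbt : b = t := by
      rw [← hi, ← zpow_mod_orderOf, hto] at hb1 ⊢
      rcases Int.emod_two_eq i with e | e <;> simp_all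
    subst hbt
    obtain ⟨j, hj⟩ := Subgroup.mem_zpowers_iff.mp (H.normalCore_le ((H.normalCore_normal).conj_mem b hb a))
    have hne : a * b * a⁻¹ ≠ 1 := fun e => ht1 (conj_eq_one_iff.mp e)
    have hab : a * b * a⁻¹ = b := by
      rw [← hj, ← zpow_mod_orderOf, hto] at hne ⊢
      rcases Int.emod_two_eq j with e | e <;> simp_all
    have hc : a * b = b * a := mul_inv_eq_iff_eq_mul.mp hab
    rw [← hc, mul_inv_cancel_right] at hinv
    have := Nat.le_of_dvd (by norm_num) (orderOf_dvd_of_pow_eq_one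
      (show a ^ 2 = 1 by rw [pow_two]; exact mul_eq_one_iff_eq_inv.mpr hinv))
    omega
  haveI : Fintype (K ⧸ H) := Fintype.ofFinite _
  let φ : K →* Equiv.Perm (K ⧸ H) := MulAction.toPermHom K (K ⧸ H)
  have hφ : Function.Injective φ := by
    rw [← MonoidHom.ker_eq_bot_iff, ← hcore, Subgroup.normalCore_eq_ker]
  have hbij : Function.Bijective φ := (Nat.bijective_iff_injective_and_card φ).mpr ⟨hφ, by
    rw [hK, Nat.card_perm, hidx]; rfl⟩
  have e3 : Fintype.card (K ⧸ H) = 3 := by rw [← Nat.card_eq_fintype_card]; exact hidx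
  let σ : Matrix.SpecialLinearGroup (Fin 2) (ZMod 2) →* AddMonoid.End (Fin 2 → ZMod 2) :=
    { toFun := fun g => (Matrix.mulVecLin g.1).toAddMonoidHom
      map_one' := AddMonoidHom.ext fun v => by show (1 : Matrix.SpecialLinearGroup (Fin 2) (ZMod 2)).1.mulVec v = v; simp
      map_mul' := fun g h => AddMonoidHom.ext fun v => by
        show (g * h).1.mulVec v = g.1.mulVec (h.1.mulVec v)
        rw [Matrix.SpecialLinearGroup.coe_mul, Matrix.mulVec_mulVec] }
  have hσ : Function.Injective σ := fun g h e' => Subtype.ext (Matrix.ext_of_mulVec_single fun j => by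
    exact DFunLike.congr_fun e' (Pi.single j 1))
  obtain ⟨e'⟩ := CfsgLib.CIT.equiv_perm_three σ hσ (by simp)
    (by rw [CfsgLib.SLCard.card_SL_two, ZMod.card]; norm_num)
  haveI : CharP (ZMod 2) 2 := ZMod.charP 2
  exact ⟨((MulEquiv.ofBijective φ hbij).trans (Fintype.equivFinOfCardEq e3).permCongrHom).trans
    (e'.symm.trans CfsgLib.PrimeGraphExt.pslEquiv.symm)⟩

variable {G : Type u} [Group G] [Finite G] {T P : Subgroup G}

/-- The elementary core of a parabolic with top `S₃` whose Sylow subgroup has central elementary Frattini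
subgroup. -/
theorem Parab.core_sq (hP : Parab T P) (h : Six G) (hi : (pCoreOf 2 P).relIndex P = 6)
    (hcen : ∀ a b : T, a * b * a⁻¹ * b⁻¹ ∈ frattini T) (hz : ∀ f ∈ frattini T, ∀ a : T, f * a = a * f)
    (hf2 : ∀ f ∈ frattini T, f * f = 1) : ∀ v ∈ pCoreOf 2 P, v * v = 1 := by
  obtain ⟨-, x, hxP, t, ht, hxo, -, -, -, hinv, -, -⟩ := hP.di h (p := 3) (Or.inl rfl) hi
  set Q := pCoreOf 2 P with hQ
  have hQT := hP.core_le_T
  have hn : ∀ g ∈ P, ∀ q ∈ Q, g * q * g⁻¹ ∈ Q := fun g hg q hq =>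
    (Subgroup.mem_normalizer_iff.mp (le_normalizer_core P hg) q).mp hq
  set Z := centralInvol Q with hZ
  have hconjZ : ∀ g ∈ P, ∀ v ∈ Z, g * v * g⁻¹ ∈ Z := by
    rintro g hg v ⟨hv, hv2, hvc⟩
    refine ⟨hn g hg v hv, ?_, fun q hq => ?_⟩
    · calc g * v * g⁻¹ * (g * v * g⁻¹) = g * (v * v) * g⁻¹ := by group
        _ = 1 := by rw [hv2]; group
    · have hq' : g⁻¹ * q * g ∈ Q := by
        have := hn g⁻¹ (inv_mem hg) q hq
        rwa [inv_inv] at this
      calc g * v * g⁻¹ * q = g * (v * (g⁻¹ * q * g)) * g⁻¹ := by group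
        _ = g * ((g⁻¹ * q * g) * v) * g⁻¹ := by rw [hvc _ hq']
        _ = q * (g * v * g⁻¹) := by group
  -- elements acting trivially on `Q` modulo `Z`
  have hcommZ : ∀ s ∈ T, ∀ q ∈ Q, s * q * s⁻¹ * q⁻¹ ∈ Z := by
    intro s hs q hq
    have hF := hcen ⟨s, hs⟩ ⟨q, hQT hq⟩
    refine ⟨mul_mem (hn s (hP.le hs) q hq) (inv_mem hq), congrArg Subtype.val (hf2 _ hF), fun w hw => ?_⟩
    exact congrArg Subtype.val (hz _ hF ⟨w, hQT hw⟩)
  have triv_mul : ∀ g₁ g₂ : G, g₁ ∈ P → (∀ q ∈ Q, g₁ * q * g₁⁻¹ * q⁻¹ ∈ Z) → g₂ ∈ P →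
      (∀ q ∈ Q, g₂ * q * g₂⁻¹ * q⁻¹ ∈ Z) → ∀ q ∈ Q, g₁ * g₂ * q * (g₁ * g₂)⁻¹ * q⁻¹ ∈ Z := by
    intro g₁ g₂ _ h1 hg2 h2 q hq
    have e : g₁ * g₂ * q * (g₁ * g₂)⁻¹ * q⁻¹ =
        (g₁ * (g₂ * q * g₂⁻¹) * g₁⁻¹ * (g₂ * q * g₂⁻¹)⁻¹) * (g₂ * q * g₂⁻¹ * q⁻¹) := by group
    rw [e]; exact mul_mem (h1 _ (hn g₂ hg2 q hq)) (h2 q hq)
  have ht' : ∀ q ∈ Q, (x * t⁻¹ * x⁻¹) * q * (x * t⁻¹ * x⁻¹)⁻¹ * q⁻¹ ∈ Z := by
    intro q hq
    have e : (x * t⁻¹ * x⁻¹) * q * (x * t⁻¹ * x⁻¹)⁻¹ * q⁻¹ =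
        x * (t⁻¹ * (x⁻¹ * q * x) * t⁻¹⁻¹ * (x⁻¹ * q * x)⁻¹) * x⁻¹ := by group
    rw [e]
    refine hconjZ x hxP _ (hcommZ _ (inv_mem ht) _ ?_)
    have := hn x⁻¹ (inv_mem hxP) q hq
    rwa [inv_inv] at this
  have hx3 : x ^ 3 = 1 := hxo ▸ pow_orderOf_eq_one x
  have hxtriv : ∀ q ∈ Q, x * q * x⁻¹ * q⁻¹ ∈ Z := by
    have e : x = (t * x * t⁻¹ * x)⁻¹ * t * (x * t⁻¹ * x⁻¹) := by
      calc x = x⁻¹ * x⁻¹ * x ^ 3 := by simp only [pow_succ, pow_zero, one_mul]; group
        _ = x⁻¹ * x⁻¹ := by rw [hx3, mul_one]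
        _ = _ := by group
    intro q hq
    have hq0 : (t * x * t⁻¹ * x)⁻¹ ∈ Q := inv_mem hinv
    have hP' : x * t⁻¹ * x⁻¹ ∈ P := mul_mem (mul_mem hxP (inv_mem (hP.le ht))) (inv_mem hxP)
    rw [e]
    exact triv_mul _ _ (mul_mem (core_le P hq0) (hP.le ht))
      (triv_mul _ _ (core_le P hq0) (hcommZ _ (hQT hq0)) (hP.le ht) (hcommZ t ht)) hP' ht' q hq
  intro q hq
  set f : G → G := fun v => x * v * x⁻¹ with hf
  set c := q⁻¹ * (x * q * x⁻¹) with hc
  have hcZ : c ∈ Z := by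
    have h0 := hxtriv q hq
    have e : c = q⁻¹ * (x * q * x⁻¹ * q⁻¹) * q := by rw [hc]; group
    rw [e, mul_assoc, h0.2.2 q hq, ← mul_assoc, inv_mul_cancel, one_mul]
    exact h0
  have hfc : f c ∈ Z := hconjZ x hxP c hcZ
  have hprod : c * (x * c * x⁻¹) * (x * (x * c * x⁻¹) * x⁻¹) = 1 := by
    rw [hc]
    calc q⁻¹ * (x * q * x⁻¹) * (x * (q⁻¹ * (x * q * x⁻¹)) * x⁻¹) *
          (x * (x * (q⁻¹ * (x * q * x⁻¹)) * x⁻¹) * x⁻¹) = q⁻¹ * (x ^ 3) * q * (x ^ 3)⁻¹ := by
            simp only [pow_succ, pow_zero, one_mul]; group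
      _ = 1 := by rw [hx3]; group
  have hfix : Commute x (q * f c) := by
    have e3 : x * (x * c * x⁻¹) * x⁻¹ = (c * (x * c * x⁻¹))⁻¹ := eq_inv_of_mul_eq_one_right hprod
    show x * (q * f c) = q * f c * x
    have hcs : c⁻¹ = c := inv_eq_of_mul_eq_one_left hcZ.2.1
    have hfs : (f c)⁻¹ = f c := inv_eq_of_mul_eq_one_left hfc.2.1
    calc x * (q * f c) = (x * q * x⁻¹) * (x * (x * c * x⁻¹) * x⁻¹) * x := by simp only [hf]; group
      _ = (q * c) * ((f c)⁻¹ * c⁻¹) * x := by rw [e3, mul_inv_rev]; simp only [hf, hc]; group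
      _ = q * (c * (f c * c)) * x := by rw [hcs, hfs]; simp only [mul_assoc]
      _ = q * f c * x := by
        rw [hfc.2.2 c hcZ.1, ← mul_assoc c, hcZ.2.1, one_mul]
  obtain ⟨j, hj⟩ := core_isPGroup P ⟨q * f c, mul_mem hq hfc.1⟩
  have h2 := h.commute_three hxo hfix (congrArg Subtype.val hj)
  calc q * q = (q * q) * (f c * f c) := by rw [hfc.2.1, mul_one]
    _ = q * (q * f c) * f c := by group
    _ = q * (f c * q) * f c := by rw [hfc.2.2 q hq]
    _ = (q * f c) * (q * f c) := by group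
    _ = 1 := h2

/-- A characteristic subgroup of the Sylow subgroup is normal in the parabolic, or the core is elementary. -/
theorem Parab.char_or_elementary (hP : Parab T P) (h : Six G) (hi : (pCoreOf 2 P).relIndex P = 6) :
    (∃ C : Subgroup G, C ≠ ⊥ ∧ C ≤ T ∧ P ≤ Subgroup.normalizer (C : Set G) ∧
      Subgroup.normalizer (T : Set G) ≤ Subgroup.normalizer (C : Set G)) ∨
    ∀ v ∈ pCoreOf 2 P, v * v = 1 := by
  haveI : Fact (Nat.Prime 2) := ⟨Nat.prime_two⟩
  set S0 := ⁅frattini T, (⊤ : Subgroup T)⁆ ⊔ (frattini ↥(frattini T)).map (frattini T).subtype with hS0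
  by_cases hne : S0 = ⊥
  · right
    rw [hS0, sup_eq_bot_iff, Subgroup.map_eq_bot_iff_of_injective _ (frattini T).subtype_injective] at hne
    refine hP.core_sq h hi (fun a b => ?_) (fun f hf a => ?_) (fun f hf => ?_)
    · exact CfsgLib.commutator_le_frattini_pGroup hP.two
        (Subgroup.commutator_mem_commutator (Subgroup.mem_top a) (Subgroup.mem_top b))
    · have := Subgroup.commutator_mem_commutator hf (Subgroup.mem_top a)
      rw [hne.1, Subgroup.mem_bot, commutatorElement_eq_one_iff_mul_comm] at this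
      exact this
    · have := CfsgLib.pow_mem_frattini_pGroup (p := 2) (hP.two.to_subgroup (frattini T)) ⟨f, hf⟩
      rw [hne.2, Subgroup.mem_bot, pow_two] at this
      exact congrArg Subtype.val this
  left
  obtain ⟨S₁, S₂, h₁, h₂, c₁, c₂, -, -, -, hall⟩ :=
    Cfsg.Agent.S2808.result hP.two S0 (by rw [if_pos rfl]) (Or.inr hne)
  set τ : T →* P := Subgroup.inclusion hP.le with hτ
  have hτr : τ.range = T.subgroupOf P := Subgroup.inclusion_range hP.le
  have hodd0 : ¬ 2 ∣ (T.subgroupOf P).index := fun hd =>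
    Nat.not_even_iff_odd.mpr hP.odd (even_iff_two_dvd.mpr hd)
  obtain ⟨M, hMP, hMu⟩ := hP.unique
  have hTM : T ≤ M := hMu T le_rfl (lt_of_le_of_ne hP.le fun e => hP.not_normal (e ▸ Subgroup.le_normalizer))
  have key : ∀ H : Subgroup P, T.subgroupOf P ≤ H → H ≠ ⊤ → H ≤ M.subgroupOf P := by
    intro H hH hne' y hy
    have h1 : T ≤ H.map P.subtype := by
      rw [← Subgroup.map_subgroupOf_eq_of_le hP.le]; exact Subgroup.map_mono hH
    have h2 : H.map P.subtype < P := lt_of_le_of_ne (Subgroup.map_subtype_le _) fun e => hne' (by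
      rw [← Subgroup.comap_map_eq_self_of_injective P.subtype_injective H, e]
      exact Subgroup.subgroupOf_self P)
    exact hMu _ h1 h2 ⟨y, hy, rfl⟩
  have hMne : M.subgroupOf P ≠ ⊤ := fun e => hMP.not_ge (Subgroup.subgroupOf_eq_top.mp e)
  have hMco : IsCoatom (M.subgroupOf P) := ⟨hMne, fun H hH => by
    by_contra hne'
    exact hH.not_ge (key H ((Subgroup.comap_mono hTM).trans hH.le) hne')⟩
  have huniq : ∃! M' : Subgroup P, IsCoatom M' ∧ τ.range ≤ M' := by
    refine ⟨M.subgroupOf P, ⟨hMco, hτr ▸ Subgroup.comap_mono hTM⟩, fun H hH => ?_⟩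
    exact ((hH.1.le_iff_eq hMne).mp (key H (hτr ▸ hH.2) hH.1.1)).symm
  obtain ⟨h2, x, hxP, t, ht, hxo, hxT, htQ, ht2, hinv, -, -⟩ := hP.di h (p := 3) (Or.inl rfl) hi
  set K := (pCoreOf 2 P).subgroupOf P with hK
  haveI hKn : K.Normal := by rw [hK, core_subgroupOf]; infer_instance
  have hpsl : Nonempty (P ⧸ K ≃* Matrix.ProjectiveSpecialLinearGroup (Fin 2) (ZMod 2)) := by
    refine psl_two_of_card_six (a := ((⟨x, hxP⟩ : P) : P ⧸ K)) (t := ((⟨t, hP.le ht⟩ : P) : P ⧸ K))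
      (by rw [← Subgroup.index_eq_card]; exact hi) ?_ ?_ ?_ ?_
    · haveI : Fact (Nat.Prime 3) := ⟨Nat.prime_three⟩
      refine orderOf_eq_prime ?_ ?_
      · rw [← QuotientGroup.mk_pow, QuotientGroup.eq_one_iff]
        exact (Subtype.ext (hxo ▸ pow_orderOf_eq_one x) : (⟨x, hxP⟩ : P) ^ 3 = 1) ▸ one_mem _
      · intro e; exact hxT (hP.core_le_T ((QuotientGroup.eq_one_iff (⟨x, hxP⟩ : P)).mp e))
    · rw [← QuotientGroup.mk_mul, QuotientGroup.eq_one_iff]; exact ht2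
    · intro e; exact htQ ((QuotientGroup.eq_one_iff (⟨t, hP.le ht⟩ : P)).mp e)
    · refine eq_inv_of_mul_eq_one_left ?_
      rw [← QuotientGroup.mk_inv, ← QuotientGroup.mk_mul, ← QuotientGroup.mk_mul, ← QuotientGroup.mk_mul,
        QuotientGroup.eq_one_iff]
      exact hinv
  have hS : ∀ (S : Subgroup T), S.Characteristic → Subgroup.normalizer (T : Set G) ≤
      Subgroup.normalizer ((S.map T.subtype : Subgroup G) : Set G) :=
    fun S hS => (@CfsgLib.le_normalizer_map_characteristic G _ _ T le_rfl S hS).1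
  have fin : ∀ (S : Subgroup T), S ≠ ⊥ → S.Characteristic → (S.map τ).Normal →
      ∃ C : Subgroup G, C ≠ ⊥ ∧ C ≤ T ∧ P ≤ Subgroup.normalizer (C : Set G) ∧
        Subgroup.normalizer (T : Set G) ≤ Subgroup.normalizer (C : Set G) := by
    intro S hS1 hSc hSn
    refine ⟨S.map T.subtype, fun e => hS1 ((Subgroup.map_eq_bot_iff_of_injective _ T.subtype_injective).mp e),
      Subgroup.map_subtype_le _, ?_, hS S hSc⟩
    have e : (S.map T.subtype).subgroupOf P = S.map τ := by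
      have : S.map T.subtype = (S.map τ).map P.subtype := by rw [Subgroup.map_map]; rfl
      rw [this]; exact Subgroup.comap_map_eq_self_of_injective P.subtype_injective _
    exact (Subgroup.normal_subgroupOf_iff_le_normalizer ((Subgroup.map_subtype_le _).trans hP.le)).mp (e ▸ hSn)
  haveI : Fact (Nat.Prime 2) := ⟨Nat.prime_two⟩
  rcases hall P τ (Subgroup.inclusion_injective hP.le)
    ⟨(hP.two.comap_of_injective P.subtype P.subtype_injective : IsPGroup 2 (T.subgroupOf P)).toSylow hodd0,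
      hτr.symm⟩ hP.cent_group huniq
    ⟨K, hKn, ZMod 2, inferInstance, inferInstance, 1, le_rfl, by simp, hpsl⟩ with hn | hn
  · exact fin S₁ h₁ c₁ hn
  · exact fin S₂ h₂ c₂ hn

end CfsgLib.SpecSix
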