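import Cfsg.Agent.Lib.SpecSix.Basic
import Cfsg.Agent.S0482
import Cfsg.Agent.S0222
import Cfsg.Agent.S0348
import Cfsg.Agent.Lib.SmallSimple.Order360
import Cfsg.Agent.S0280
import Cfsg.Agent.S0494
import Cfsg.Agent.Lib.PSL2Spectrum
import Cfsg.Agent.Lib.MaxSub.SLThree.Tools

/-!
The lists of simple groups, cut down to element orders at most six.
-/

set_option autoImplicit false
set_option linter.unusedSectionVars false
set_option linter.style.haveILetI false

namespace CfsgLib.SpecSix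

universe u

/-- A number above three, prime to two and five and not divisible by nine, has a prime factor above five. -/
theorem exists_big_prime {n : ℕ} (h1 : 3 < n) (h2 : ¬ 2 ∣ n) (h5 : ¬ 5 ∣ n) (h9 : ¬ 9 ∣ n) :
    ∃ r : ℕ, r.Prime ∧ 7 ≤ r ∧ r ∣ n := by
  by_contra hno
  push Not at hno
  have hp : ∀ r : ℕ, r.Prime → r ∣ n → r = 3 := fun r hr hd => by
    by_contra h3
    have := hr.two_le
    have hlt : r < 7 := by
      by_contra hge
      exact hno r hr (by omega) hd
    interval_cases r <;> first | contradiction | exact h3 rfl | exact h2 hd | exact h5 hd | norm_num at hr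
  have hpow := Nat.eq_prime_pow_of_unique_prime_dvd (by omega : n ≠ 0) (fun {r} hr hd => hp r hr hd)
  generalize n.primeFactorsList.length = k at hpow
  rcases k with _ | _ | k
  · omega
  · omega
  · exact h9 ⟨3 ^ k, by rw [hpow, pow_succ, pow_succ]; ring⟩

theorem mod_nine_plus : ∀ r : Fin 9, ((r : ℕ) ^ 2 + r + 1) % 9 ≠ 0 := by decide

theorem mod_nine_minus : ∀ r : Fin 9, ((r : ℕ) ^ 2 + 8 * r + 1) % 9 ≠ 0 := by decide

theorem mod_five_plus : ∀ r : Fin 5, ((r : ℕ) ^ 2 + r + 1) % 5 ≠ 0 := by decide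

theorem mod_five_minus : ∀ r : Fin 5, ((r : ℕ) ^ 2 + 4 * r + 1) % 5 ≠ 0 := by decide

theorem big_prime_plus {q : ℕ} (hq : 2 ≤ q) : ∃ r : ℕ, r.Prime ∧ 7 ≤ r ∧ r ∣ q ^ 2 + q + 1 := by
  refine exists_big_prime (by nlinarith) ?_ ?_ ?_ <;> intro hd <;> rw [Nat.dvd_iff_mod_eq_zero] at hd
  · rw [Nat.add_mod, Nat.add_mod (q ^ 2), Nat.pow_mod] at hd
    rcases Nat.mod_two_eq_zero_or_one q with e | e <;> rw [e] at hd <;> simp at hd
  · refine mod_five_plus ⟨q % 5, Nat.mod_lt _ (by norm_num)⟩ ?_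
    refine Eq.trans ?_ hd
    simp [Nat.add_mod, Nat.pow_mod]
  · refine mod_nine_plus ⟨q % 9, Nat.mod_lt _ (by norm_num)⟩ ?_
    refine Eq.trans ?_ hd
    simp [Nat.add_mod, Nat.pow_mod]

theorem big_prime_minus {q : ℕ} (hq : 3 ≤ q) : ∃ r : ℕ, r.Prime ∧ 7 ≤ r ∧ r ∣ q ^ 2 - q + 1 := by
  have hle : q ≤ q ^ 2 := by nlinarith
  have e : (q : ℕ) ^ 2 - q + 1 + q = q ^ 2 + 1 := by omega
  refine exists_big_prime ?_ ?_ ?_ ?_
  · have h3 : 3 * q ≤ q ^ 2 := by nlinarith
    omega
  all_goals intro hd; rw [Nat.dvd_iff_mod_eq_zero] at hd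
  · have h2 : (q ^ 2 + 1) % 2 = q % 2 := by omega
    rw [Nat.add_mod, Nat.pow_mod] at h2
    rcases Nat.mod_two_eq_zero_or_one q with r | r <;> rw [r] at h2 <;> simp at h2
  · refine mod_five_minus ⟨q % 5, Nat.mod_lt _ (by norm_num)⟩ ?_
    have h : (q ^ 2 + 4 * q + 1) % 5 = 0 := by omega
    refine Eq.trans ?_ h
    simp [Nat.add_mod, Nat.pow_mod, Nat.mul_mod]
  · refine mod_nine_minus ⟨q % 9, Nat.mod_lt _ (by norm_num)⟩ ?_
    have h : (q ^ 2 + 8 * q + 1) % 9 = 0 := by omega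
    refine Eq.trans ?_ h
    simp [Nat.add_mod, Nat.pow_mod, Nat.mul_mod]

variable {G : Type u} [Group G] [Finite G]

theorem Six.no_big_prime (h : Six G) {r : ℕ} (hr : r.Prime) (h7 : 7 ≤ r) : ¬ r ∣ Nat.card G := fun hd => by
  rcases h.prime_cases hr hd with e | e | e <;> omega

theorem Six.big_coprime_dvd (h : Six G) {r m d : ℕ} (hr : r.Prime) (h7 : 7 ≤ r) (hd : d * Nat.card G = m)
    (hrm : r ∣ m) (hd3 : 0 < d ∧ d ≤ 3) : False := by
  rcases (Nat.Prime.dvd_mul hr).mp (hd ▸ hrm) with hh | hh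
  · have := Nat.le_of_dvd hd3.1 hh
    omega
  · exact h.no_big_prime hr h7 hh

/-- `PSL₃` has a prime above five. -/
theorem Six.not_psl_three (h : Six G) {F : Type} [Field F] [Fintype F]
    (e : G ≃* Matrix.ProjectiveSpecialLinearGroup (Fin 3) F) : False := by
  have hq := Fintype.one_lt_card (α := F)
  set q := Fintype.card F with hqd
  obtain ⟨r, hr, h7, hd⟩ := big_prime_plus (q := q) (by omega)
  have hc := SLCard.gcd_mul_card_PSL (F := F) (n := 3) (by norm_num)
  rw [MaxSub.SLThree.card_SL_three, ← hqd, ← Nat.card_congr e.toEquiv] at hc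
  refine h.big_coprime_dvd hr h7 hc (Dvd.dvd.mul_left (hd.trans ⟨q - 1, ?_⟩) _)
    ⟨Nat.gcd_pos_of_pos_left _ (by norm_num), Nat.le_of_dvd (by norm_num) (Nat.gcd_dvd_left _ _)⟩
  have h1 : 1 ≤ q ^ 3 := Nat.one_le_pow _ _ (by omega)
  zify [h1, (by omega : 1 ≤ q)]
  ring

/-- `PSU₃(q)`, `q ≥ 3`, has a prime above five. -/
theorem Six.not_psu_three (h : Six G) {F : Type} [Field F] [Fintype F] {q : ℕ} (hF : Fintype.card F = q ^ 2)
    (hq : 3 ≤ q) (e : G ≃* Cfsg.PSU 3 F q) : False := by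
  obtain ⟨r, hr, h7, hd⟩ := big_prime_minus hq
  have hc := Cfsg.Agent.S0280.result hF 3 (by norm_num)
  rw [Finset.prod_range_succ, Finset.prod_range_succ, Finset.prod_range_succ, Finset.prod_range_zero] at hc
  rw [if_pos (by decide), if_neg (by decide), if_pos (by decide), ← Nat.card_congr e.toEquiv] at hc
  have hc' : Nat.gcd 3 (q + 1) * Nat.card G = q ^ 3 * (q ^ 2 - 1) * (q ^ 3 + 1) := by
    refine Nat.eq_of_mul_eq_mul_left (by omega : 0 < q + 1) ?_
    simp only [Nat.reduceAdd, Nat.reduceMul, Nat.reduceSub, Nat.reduceDiv, zero_add, pow_one, one_mul] at hc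
    calc (q + 1) * (Nat.gcd 3 (q + 1) * Nat.card G) = Nat.gcd 3 (q + 1) * ((q + 1) * Nat.card G) := by ring
      _ = _ := by rw [hc]; ring
  refine h.big_coprime_dvd hr h7 hc' (Dvd.dvd.mul_left (hd.trans ⟨q + 1, ?_⟩) _)
    ⟨Nat.gcd_pos_of_pos_left _ (by norm_num), Nat.le_of_dvd (by norm_num) (Nat.gcd_dvd_left _ _)⟩
  have hle : q ≤ q ^ 2 := by nlinarith
  zify [hle]
  ring

/-- The element orders of `PSL₂` exclude six. -/
theorem Six.psl_two_no_six (h : Six G) {F : Type} [Field F] [Fintype F] (hq4 : 4 ≤ Fintype.card F)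
    (e : G ≃* Matrix.ProjectiveSpecialLinearGroup (Fin 2) F) : ∀ g : G, orderOf g ≠ 6 := by
  obtain ⟨p, hp⟩ := CharP.exists F
  obtain ⟨f, hpp, hq⟩ := FiniteField.card F p
  haveI := Fact.mk hpp
  have hord := fun k => PSL2Spectrum.psl_orders (F := F) p k
  set q := Fintype.card F with hqd
  have hb : ∀ k, (k ∣ (q - 1) / Nat.gcd 2 (q - 1) ∨ k ∣ (q + 1) / Nat.gcd 2 (q - 1) ∨ k = p) → k ≤ 6 := fun k hk => by
    obtain ⟨x, hx⟩ := (hord k).mpr hk
    rw [← hx, ← MulEquiv.orderOf_eq e.symm]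
    exact h _
  intro g hg
  have h6 := (hord 6).mp ⟨e g, by rw [MulEquiv.orderOf_eq, hg]⟩
  have hp6 : p ≠ 6 := fun e' => by rw [e'] at hpp; norm_num at hpp
  have hm := hb _ (Or.inl dvd_rfl)
  have hP := hb _ (Or.inr (Or.inl dvd_rfl))
  have hg2 : Nat.gcd 2 (q - 1) = 1 ∨ Nat.gcd 2 (q - 1) = 2 :=
    (Nat.dvd_prime Nat.prime_two).mp (Nat.gcd_dvd_left _ _)
  have hp7 := hb p (Or.inr (Or.inr rfl))
  have hle : q ≤ 12 := by
    rcases hg2 with e' | e' <;> rw [e'] at hP <;> omega
  rcases h6 with h6 | h6 | h6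
  · obtain ⟨c, hc⟩ := h6
    rcases hg2 with e' | e' <;> rw [e'] at hc hP hm <;> rcases c with _ | _ | c <;> omega
  · obtain ⟨c, hc⟩ := h6
    rcases hg2 with e' | e' <;> rw [e'] at hc hP hm
    · rcases c with _ | _ | c
      · omega
      · -- five elements, in odd characteristic
        have hq5 : q = 5 := by omega
        have h2 := Nat.dvd_gcd (dvd_refl 2) (show 2 ∣ q - 1 by rw [hq5]; norm_num)
        rw [e'] at h2
        norm_num at h2
      · omega
    · rcases c with _ | _ | c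
      · omega
      · have hq11 : q = 11 ∨ q = 12 := by omega
        rcases hq11 with e11 | e12
        · have hd : p ∣ q := hq ▸ dvd_pow_self p f.pos.ne'
          rw [e11] at hd
          rcases (Nat.dvd_prime (by norm_num : Nat.Prime 11)).mp hd with e1 | e1
          · exact hpp.one_lt.ne' e1
          · omega
        · have h2 := Nat.gcd_dvd_right 2 (q - 1)
          rw [e', e12] at h2
          norm_num at h2
      · omega
  · exact hp6 h6.symm

theorem Six.not_order_seven (h : Six G) (h7 : 7 ∣ Nat.card G) : False :=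
  h.no_big_prime (by norm_num) le_rfl h7

theorem four_pow_mod_five : ∀ m : ℕ, 4 ^ m % 5 = 1 ∨ 4 ^ m % 5 = 4
  | 0 => Or.inl rfl
  | m + 1 => by
    rw [pow_succ, Nat.mul_mod]
    rcases four_pow_mod_five m with r | r <;> rw [r] <;> simp

/-- A group of Suzuki order has a prime above five. -/
theorem Six.not_suzuki (h : Six G) (hS : Cfsg.IsSuzuki G) : False := by
  obtain ⟨-, m, hm, hc⟩ := hS
  set q := 2 ^ (2 * m + 1) with hq
  have e2 : q = 2 * 4 ^ m := by rw [hq, pow_succ, pow_mul, mul_comm]; norm_num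
  have h4 : 4 ≤ 4 ^ m := Nat.le_self_pow (by omega) 4
  have h5 := four_pow_mod_five m
  have h3 : 4 ^ m % 3 = 1 := by rw [Nat.pow_mod]; norm_num
  obtain ⟨r, hr, h7, hd⟩ := exists_big_prime (n := q - 1) (by omega) (by omega) (fun hd => by omega)
    (fun hd => by omega)
  exact h.no_big_prime hr h7 (hc ▸ Dvd.dvd.mul_left hd _)

/-- No element of order six when the 2-rank is at most two. -/
theorem Six.rank_two_no_six (h : Six G) [IsSimpleGroup G] (hG : ¬ IsMulCommutative G)
    (hr : Cfsg.PRankLE 2 2 G) : ∀ g : G, orderOf g ≠ 6 := by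
  rcases Cfsg.Agent.S0482.result hG hr with ⟨F, _, _, -, h5, ⟨e⟩⟩ | ⟨F, _, _, -, ⟨e⟩⟩ |
    ⟨F, _, _, q, hq, ho, ⟨e⟩⟩ | ⟨F, _, _, hq, ⟨e⟩⟩ | ⟨⟨e⟩⟩ | hM
  · exact h.psl_two_no_six (by omega) e
  · exact (h.not_psl_three e).elim
  · refine (h.not_psu_three hq ?_ e).elim
    have := Fintype.one_lt_card (α := F)
    obtain ⟨k, hk⟩ := ho
    rcases k with _ | k
    · rw [hk] at hq; norm_num at hq; omega
    · omega
  · exact (h.not_psu_three (q := 4) (by rw [hq]; rfl) (by norm_num) e).elim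
  · refine (h.not_order_seven ?_).elim
    rw [Nat.card_congr e.toEquiv, nat_card_alternatingGroup, Nat.card_fin]
    decide
  · exact (h.no_big_prime (r := 11) (by norm_num) (by norm_num) (hM.2 ▸ by norm_num)).elim

/-- No element of order six with a strongly embedded subgroup. -/
theorem Six.strongly_embedded_no_six (h : Six G) [IsSimpleGroup G] (hG : ¬ IsMulCommutative G) {H : Subgroup G}
    (hH : Cfsg.IsStronglyEmbedded H) : ∀ g : G, orderOf g ≠ 6 := by
  have hna : ∃ a b : G, a * b ≠ b * a := by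
    by_contra hc
    push Not at hc
    exact hG ⟨⟨hc⟩⟩
  rcases Cfsg.Agent.S0222.result hna H hH with ⟨F, _, _, -, h4, ⟨e⟩⟩ | hS | ⟨F, _, _, q, hq, -, h4, ⟨e⟩⟩
  · exact h.psl_two_no_six h4 e
  · exact (h.not_suzuki hS).elim
  · exact (h.not_psu_three hq (by omega) e).elim

/-- Without an element of order six the group is `A5` or `A6`. -/
theorem Six.small_of_no_six (h : Six G) [IsSimpleGroup G] (hG : ¬ IsMulCommutative G)
    (h6 : ∀ g : G, orderOf g ≠ 6) :
    Nonempty (G ≃* alternatingGroup (Fin 5)) ∨ Nonempty (G ≃* alternatingGroup (Fin 6)) := by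
  haveI : Fact (Nat.Prime 2) := ⟨Nat.prime_two⟩
  have hna : ∃ a b : G, a * b ≠ b * a := by
    by_contra hc
    push Not at hc
    exact hG ⟨⟨hc⟩⟩
  have hns : ¬ Group.IsSolvable G := fun hs => hG ⟨⟨IsSimpleGroup.comm_iff_isSolvable.mpr hs⟩⟩
  -- the centraliser of an involution is a two-group
  have hCIT : ∀ t : G, orderOf t = 2 → IsPGroup 2 (Subgroup.centralizer ({t} : Set G)) := by
    intro t ht x
    have hc : Commute (x : G) t := Subgroup.mem_centralizer_singleton_iff.mp x.2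
    have h1 := h (x : G)
    have := orderOf_pos (x : G)
    have bad : ∀ y : G, Commute y t → (orderOf y = 3 ∨ orderOf y = 5) → False := fun y hy ho => by
      rcases ho with e | e
      · exact h6 (y * t) (by rw [hy.orderOf_mul_eq_mul_orderOf_of_coprime (by rw [e, ht]; norm_num), e, ht])
      · exact h.not_commute hy e ht (by norm_num) (by norm_num)
    interval_cases hk : orderOf (x : G)
    · exact ⟨0, by rw [pow_zero, pow_one]; exact Subtype.ext (orderOf_eq_one_iff.mp hk)⟩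
    · exact ⟨1, Subtype.ext (by rw [SubmonoidClass.coe_pow]; exact orderOf_dvd_iff_pow_eq_one.mp hk.dvd)⟩
    · exact (bad _ hc (Or.inl hk)).elim
    · exact ⟨2, Subtype.ext (by rw [SubmonoidClass.coe_pow]; exact orderOf_dvd_iff_pow_eq_one.mp hk.dvd)⟩
    · exact (bad _ hc (Or.inr hk)).elim
    · exact absurd hk (h6 x)
  rcases Cfsg.Agent.S0348.result hna hCIT with ⟨F, _, _, hF, ⟨e⟩⟩ | ⟨F, _, _, -, ⟨e⟩⟩ | hS
  · have hc := SLCard.gcd_mul_card_PSL (F := F) (n := 2) (by norm_num)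
    rw [SLCard.card_SL_two, ← Nat.card_congr e.toEquiv] at hc
    obtain ⟨p, hp⟩ := CharP.exists F
    obtain ⟨f, hpp, hq⟩ := FiniteField.card F p
    haveI := Fact.mk hpp
    have hord := fun k => PSL2Spectrum.psl_orders (F := F) p k
    set q := Fintype.card F with hqd
    have hb : ∀ k, (k ∣ (q - 1) / Nat.gcd 2 (q - 1) ∨ k ∣ (q + 1) / Nat.gcd 2 (q - 1) ∨ k = p) → k ≤ 6 :=
      fun k hk => by
        obtain ⟨x, hx⟩ := (hord k).mpr hk
        rw [← hx, ← MulEquiv.orderOf_eq e.symm]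
        exact h _
    have hP := hb _ (Or.inr (Or.inl dvd_rfl))
    have hp7 := hb p (Or.inr (Or.inr rfl))
    have small : ∀ a b : ℕ, Nat.card G ≠ 2 ^ a * 3 ^ b := fun a b hab =>
      hns (CfsgLib.CharTheory.isSolvable_of_card_two_primes Nat.prime_two Nat.prime_three hab)
    rcases hF with hF | ⟨n, hF⟩ | ⟨hF, -⟩
    · exact Or.inr (Order360.iso_A6 (by rw [hF] at hc; norm_num at hc; omega))
    · left
      rcases n with _ | n
      · exact absurd hF (by have := Fintype.one_lt_card (α := F); omega)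
      have hg : Nat.gcd 2 (q - 1) = 1 := by
        refine (Nat.prime_two.coprime_iff_not_dvd.mpr ?_ : Nat.Coprime 2 _)
        have : 0 < 2 ^ n := Nat.two_pow_pos n
        rw [hF, pow_succ]; omega
      rw [hg, Nat.div_one, hF] at hP
      rw [hg, one_mul, hF] at hc
      rcases n with _ | _ | n
      · exact absurd hc (small 1 1)
      · norm_num at hc; exact Cfsg.Agent.S0494.result hc
      · have : 2 ^ 3 ≤ 2 ^ (n + 1 + 1 + 1) := Nat.pow_le_pow_right (by norm_num) (by omega)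
        omega
    · left
      have hqp : q = p := by
        have hd : p ∣ q := hq ▸ dvd_pow_self p f.pos.ne'
        exact (((Nat.dvd_prime hF).mp hd).resolve_left hpp.one_lt.ne').symm
      have h2 := hpp.two_le
      interval_cases p
      · rw [hqp] at hc; norm_num at hc; exact absurd hc (small 1 1)
      · rw [hqp] at hc; norm_num at hc; exact absurd (by omega : Nat.card G = 2 ^ 2 * 3 ^ 1) (small 2 1)
      · norm_num at hpp
      · rw [hqp] at hc; norm_num at hc; exact Cfsg.Agent.S0494.result (by omega)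
      · norm_num at hpp
  · exact (h.not_psl_three e).elim
  · exact (h.not_suzuki hS).elim

end CfsgLib.SpecSix
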