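import Cfsg.Agent.Lib.SpecSix.Straddle
import Cfsg.Agent.Lib.SpecSix.Lists

/-!
Element orders at most six, the simple case: no proper subgroup contains the Sylow normalizer and every parabolic.
-/

set_option autoImplicit false
set_option linter.unusedSectionVars false
set_option linter.style.haveILetI false

namespace CfsgLib.SpecSix

open Cfsg

universe u

variable {G : Type u} [Group G] [Finite G]

theorem Hyp.not_commutative (H : Hyp G) : ¬ IsMulCommutative G := fun hc =>
  H.nonsolvable (Group.isSolvable_of_comm fun a b => hc.is_comm.comm a b)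

/-- A Sylow 2-subgroup has odd index in its overgroups. -/
theorem sylow_odd (S : Sylow 2 G) {L : Subgroup G} (hL : (S : Subgroup G) ≤ L) :
    Odd ((S : Subgroup G).relIndex L) := by
  haveI : Fact (Nat.Prime 2) := ⟨Nat.prime_two⟩
  rw [← Nat.not_even_iff_odd]
  exact fun hev => S.not_dvd_index ((even_iff_two_dvd.mp hev).trans
    (Dvd.intro _ (Subgroup.relIndex_mul_index hL)))

/-- An overgroup of a Sylow 2-subgroup inside a 2-local has a frame. -/
theorem Hyp.frame_over (H : Hyp G) (S : Sylow 2 G) {R P : Subgroup G} (hR : IsPGroup 2 R) (hR1 : R ≠ ⊥)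
    (hSP : (S : Subgroup G) ≤ P) (hP : P ≤ Subgroup.normalizer (R : Set G)) :
    Frame (S : Subgroup G) P :=
  Frame.of_char2 H.char2 hR hR1 hP hSP S.isPGroup' (sylow_odd S (hSP.trans hP))

theorem Hyp.sylow_ne_bot (H : Hyp G) (S : Sylow 2 G) : (S : Subgroup G) ≠ ⊥ := fun e => by
  haveI : Fact (Nat.Prime 2) := ⟨Nat.prime_two⟩
  obtain ⟨g, hg⟩ := H.order_six
  have h2G : 2 ∣ Nat.card G := (show 2 ∣ orderOf g by rw [hg]; norm_num).trans (orderOf_dvd_natCard g)
  have := S.not_dvd_index
  rw [e, Subgroup.index_bot] at this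
  exact this h2G

theorem Hyp.sylow_frame (H : Hyp G) (S : Sylow 2 G) :
    Frame (S : Subgroup G) (Subgroup.normalizer ((S : Subgroup G) : Set G)) :=
  H.frame_over S S.isPGroup' (H.sylow_ne_bot S) Subgroup.le_normalizer le_rfl

/-- **No proper subgroup contains the Sylow normalizer and all parabolics.** -/
theorem Hyp.no_cover (H : Hyp G) (S : Sylow 2 G) {M : Subgroup G} (hM : M ≠ ⊤)
    (hN : Subgroup.normalizer ((S : Subgroup G) : Set G) ≤ M)
    (hP : ∀ P : Subgroup G, Parab (S : Subgroup G) P → P ≤ M) : False := by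
  have hU : ∀ L : Subgroup G, IsTwoLocal L → (S : Subgroup G) ≤ L → L ≤ M := by
    rintro L ⟨R, hR, hR1, rfl⟩ hSL
    exact le_of_parab hSL (fun K hK hKL => H.frame_over S hR hR1 hK hKL) (inf_le_right.trans hN)
      (fun P _ hp => hP P hp)
  haveI := H.simple
  obtain ⟨g, hg⟩ := H.order_six
  exact H.six.strongly_embedded_no_six H.not_commutative (H.strongly_embedded S M hM hU) g hg

/-- A conjugate of a parabolic is a parabolic. -/
theorem Parab.conj {T P : Subgroup G} (h : Parab T P) (g : G) :
    Parab (T.map (MulAut.conj g).toMonoidHom) (P.map (MulAut.conj g).toMonoidHom) := by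
  have hi : Function.Injective (MulAut.conj g).toMonoidHom := (MulAut.conj g).injective
  refine ⟨h.toFrame.conj g, fun hle => h.not_normal fun a ha => ?_, ?_⟩
  · refine CfsgLib.JComp.mem_normalizer_of_conj_mem fun t ht => ?_
    have h1 : (MulAut.conj g) a ∈ Subgroup.normalizer (T.map (MulAut.conj g).toMonoidHom : Set G) :=
      hle ⟨a, ha, rfl⟩
    obtain ⟨t', ht', e⟩ := (Subgroup.mem_normalizer_iff.mp h1 _).mp ⟨t, ht, rfl⟩
    have e' : (MulAut.conj g) t' = (MulAut.conj g) (a * t * a⁻¹) := by
      rw [map_mul, map_mul, map_inv]; exact e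
    exact (MulAut.conj g).injective e' ▸ ht'
  · obtain ⟨M, hMP, hMu⟩ := h.unique
    refine ⟨M.map (MulAut.conj g).toMonoidHom, ?_, fun K hTK hKP => ?_⟩
    · exact lt_of_le_of_ne (Subgroup.map_mono hMP.le) fun e => hMP.ne (Subgroup.map_injective hi e)
    · have hK : K = (K.comap (MulAut.conj g).toMonoidHom).map (MulAut.conj g).toMonoidHom :=
        (Subgroup.map_comap_eq_self_of_surjective (MulAut.conj g).surjective K).symm
      rw [hK]
      refine Subgroup.map_mono (hMu _ (Subgroup.map_le_iff_le_comap.mp hTK) ?_)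
      refine lt_of_le_of_ne ?_ fun e => hKP.ne (by rw [hK, e])
      rw [← Subgroup.comap_map_eq_self_of_injective hi P]
      exact Subgroup.comap_mono hKP.le

/-- The Sylow normalizer permutes the parabolics. -/
theorem Parab.conj_sylow {S : Sylow 2 G} {P : Subgroup G} (h : Parab (S : Subgroup G) P) {n : G}
    (hn : n ∈ Subgroup.normalizer ((S : Subgroup G) : Set G)) :
    Parab (S : Subgroup G) (P.map (MulAut.conj n).toMonoidHom) := by
  have := h.conj n
  rwa [CfsgLib.Local.map_conj_eq_of_mem_normalizer hn] at this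

end CfsgLib.SpecSix
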