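import Mathlib
import Cfsg.Prelude.Def_Amalgam
import Cfsg.Prelude.Def_JComponents
import Cfsg.Prelude.Def_CaseTheorems
import Cfsg.Agent.Lib.SpecSix.Basic

/-!
Element orders at most six: the vocabulary of the simple case.
-/

set_option autoImplicit false

namespace CfsgLib.SpecSix

universe u

variable {G : Type u} [Group G]

/-- `T` is a Sylow 2-subgroup of `P`, and the 2-core of `P` contains its centraliser in the whole group. -/
structure Frame (T P : Subgroup G) : Prop where
  le : T ≤ P
  two : IsPGroup 2 T
  odd : Odd (T.relIndex P)
  cent : Subgroup.centralizer (Cfsg.pCoreOf 2 P : Set G) ≤ Cfsg.pCoreOf 2 P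

/-- A minimal parabolic: `T` is not normal and lies in a unique maximal subgroup of `P`. -/
structure Parab (T P : Subgroup G) : Prop extends Frame T P where
  not_normal : ¬ P ≤ Subgroup.normalizer (T : Set G)
  unique : ∃ M : Subgroup G, M < P ∧ ∀ H : Subgroup G, T ≤ H → H < P → H ≤ M

/-- The simple case: a nonsolvable simple group with all element orders at most six, one of them six, of
characteristic 2 type, all smaller simple ones being `A₅` or `A₆`. -/
structure Hyp (G : Type u) [Group G] [Finite G] : Prop where
  six : Six G
  simple : IsSimpleGroup G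
  nonsolvable : ¬ Group.IsSolvable G
  order_six : ∃ g : G, orderOf g = 6
  char2 : Cfsg.IsCharacteristicTwoType G
  small : ∀ (T : Type u) [Group T] [Finite T], IsSimpleGroup T → Six T → ¬ Group.IsSolvable T →
    Nat.card T < Nat.card G →
    Nonempty (T ≃* alternatingGroup (Fin 5)) ∨ Nonempty (T ≃* alternatingGroup (Fin 6))

end CfsgLib.SpecSix
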