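import Mathlib
import Cfsg.Agent.Lib.PGroup.RankTwoNormal

/-!
A two-group of exponent four with an elementary subgroup of order eight has a normal one.
-/

set_option autoImplicit false
set_option linter.unusedSectionVars false

namespace CfsgLib.SpecSix.Eight

universe u

variable {P : Type u} [Group P] [Finite P]

/-- The goal: a normal elementary subgroup of order at least eight. -/
def Goal (P : Type u) [Group P] : Prop :=
  ∃ F : Subgroup P, F.Normal ∧ (∀ v ∈ F, v * v = 1) ∧ 8 ≤ Nat.card F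

theorem two_mul_card_le {A B : Subgroup P} (h : A < B) : 2 * Nat.card A ≤ Nat.card B := by
  obtain ⟨c, hc⟩ := Subgroup.card_dvd_of_le h.le
  have hpos : 0 < Nat.card B := Nat.card_pos
  rcases c with _ | _ | c
  · omega
  · exact absurd (Subgroup.eq_of_le_of_card_ge h.le (by omega)) h.ne
  · rw [hc]; nlinarith

theorem invol_comm {a b : P} (ha : a * a = 1) (hb : b * b = 1) (hab : (a * b) * (a * b) = 1) :
    Commute a b :=
  calc a * b = (a * b)⁻¹ := eq_inv_of_mul_eq_one_left hab
    _ = b * a := by rw [mul_inv_rev, inv_eq_of_mul_eq_one_left ha, inv_eq_of_mul_eq_one_left hb]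

theorem elem_comm {D : Subgroup P} (hD : ∀ v ∈ D, v * v = 1) {a b : P} (ha : a ∈ D) (hb : b ∈ D) :
    Commute a b :=
  invol_comm (hD a ha) (hD b hb) (hD _ (mul_mem ha hb))

/-- A closure of commuting involutions is elementary. -/
theorem closure_sq {S : Set P} (h2 : ∀ x ∈ S, x * x = 1) (hc : ∀ x ∈ S, ∀ y ∈ S, Commute x y) :
    ∀ x ∈ Subgroup.closure S, x * x = 1 := by
  have hcen : Subgroup.closure S ≤ Subgroup.centralizer (Subgroup.closure S : Set P) := by
    have h1 : Subgroup.closure S ≤ Subgroup.centralizer S :=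
      (Subgroup.closure_le _).mpr (fun x hx => Subgroup.mem_centralizer_iff.mpr fun y hy => hc y hy x hx)
    refine (Subgroup.closure_le _).mpr (fun x hx => Subgroup.mem_centralizer_iff.mpr fun y hy => ?_)
    exact (Subgroup.mem_centralizer_iff.mp (h1 hy) x hx).symm
  intro x hx
  induction hx using Subgroup.closure_induction with
  | mem x hx => exact h2 x hx
  | one => exact mul_one 1
  | mul x y hx hy ihx ihy =>
    have e : Commute x y := Subgroup.mem_centralizer_iff.mp (hcen hy) x hx
    calc x * y * (x * y) = x * (y * x) * y := by group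
      _ = x * (x * y) * y := by rw [e.eq]
      _ = (x * x) * (y * y) := by group
      _ = 1 := by rw [ihx, ihy, mul_one]
  | inv x hx ih => rw [← mul_inv_rev, ih, inv_one]

/-- A conjugation-invariant set generates a normal subgroup. -/
theorem closure_normal {S : Set P} (h : ∀ p : P, ∀ x ∈ S, p * x * p⁻¹ ∈ S) :
    (Subgroup.closure S).Normal := by
  refine ⟨fun x hx p => ?_⟩
  induction hx using Subgroup.closure_induction with
  | mem x hx => exact Subgroup.subset_closure (h p x hx)
  | one => simp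
  | mul x y hx hy ihx ihy =>
    rw [show p * (x * y) * p⁻¹ = (p * x * p⁻¹) * (p * y * p⁻¹) by group]
    exact mul_mem ihx ihy
  | inv x hx ih =>
    rw [show p * x⁻¹ * p⁻¹ = (p * x * p⁻¹)⁻¹ by group]
    exact inv_mem ih

/-- A subgroup of order four and an involution centralising it. -/
theorem goal_of_mem {D : Subgroup P} [D.Normal] (hD : ∀ v ∈ D, v * v = 1) (h4 : 4 ≤ Nat.card D) {v : P}
    (hv : v * v = 1) (hvD : v ∉ D) (hc : ∀ d ∈ D, Commute v d) (hn : ∀ p : P, v⁻¹ * (p * v * p⁻¹) ∈ D) :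
    Goal P := by
  set S : Set P := {x | x ∈ D ∨ ∃ d ∈ D, x = v * d} with hS
  refine ⟨Subgroup.closure S, closure_normal ?_, closure_sq ?_ ?_, ?_⟩
  · rintro p x (hx | ⟨d, hd, rfl⟩)
    · exact Or.inl (Subgroup.Normal.conj_mem inferInstance x hx p)
    · refine Or.inr ⟨v⁻¹ * (p * v * p⁻¹) * (p * d * p⁻¹),
        mul_mem (hn p) (Subgroup.Normal.conj_mem inferInstance d hd p), ?_⟩
      group
  · rintro x (hx | ⟨d, hd, rfl⟩)
    · exact hD x hx
    · calc v * d * (v * d) = v * (d * v) * d := by group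
        _ = v * (v * d) * d := by rw [(hc d hd).eq]
        _ = (v * v) * (d * d) := by group
        _ = 1 := by rw [hv, hD d hd, mul_one]
  · rintro x (hx | ⟨d, hd, rfl⟩) y (hy | ⟨e, he, rfl⟩)
    · exact elem_comm hD hx hy
    · exact (hc x hx).symm.mul_right (elem_comm hD hx he)
    · exact (hc y hy).mul_left (elem_comm hD hd hy)
    · exact ((Commute.refl v).mul_right (hc e he)).mul_left ((hc d hd).symm.mul_right (elem_comm hD hd he))
  · have hlt : D < Subgroup.closure S :=
      SetLike.lt_iff_le_and_exists.mpr ⟨fun x hx => Subgroup.subset_closure (Or.inl hx),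
        v, Subgroup.subset_closure (Or.inr ⟨1, one_mem _, (mul_one v).symm⟩), hvD⟩
    have := two_mul_card_le hlt
    omega

/-- The commutator of two elements that translate an element by fixed elements fixes it. -/
theorem comm_fix {u v a x y : P} (hu : u * a * u⁻¹ = a * x) (hv : v * a * v⁻¹ = a * y) (huy : u * y * u⁻¹ = y)
    (hvx : v * x * v⁻¹ = x) (hxy : Commute x y) : Commute (u⁻¹ * v⁻¹ * u * v) a := by
  have h1 : u * v * a * (u * v)⁻¹ = a * x * y := by
    calc u * v * a * (u * v)⁻¹ = u * (v * a * v⁻¹) * u⁻¹ := by group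
      _ = u * a * u⁻¹ * (u * y * u⁻¹) := by rw [hv]; group
      _ = a * x * y := by rw [hu, huy]
  have h2 : v * u * a * (v * u)⁻¹ = a * y * x := by
    calc v * u * a * (v * u)⁻¹ = v * (u * a * u⁻¹) * v⁻¹ := by group
      _ = v * a * v⁻¹ * (v * x * v⁻¹) := by rw [hu]; group
      _ = a * y * x := by rw [hv, hvx]
  have h3 : u * v * a * (u * v)⁻¹ = v * u * a * (v * u)⁻¹ := by
    rw [h1, h2, mul_assoc, hxy.eq, ← mul_assoc]
  show u⁻¹ * v⁻¹ * u * v * a = a * (u⁻¹ * v⁻¹ * u * v)
  calc u⁻¹ * v⁻¹ * u * v * a = (v * u)⁻¹ * (u * v * a * (u * v)⁻¹) * (u * v) := by group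
    _ = (v * u)⁻¹ * (v * u * a * (v * u)⁻¹) * (u * v) := by rw [h3]
    _ = a * (u⁻¹ * v⁻¹ * u * v) := by group

/-- Two elementary subgroups exchanged by an element outside a normal subgroup of index two. -/
structure Swap (E F H : Subgroup P) (g : P) : Prop where
  idx : H.index = 2
  out : g ∉ H
  EH : E ≤ H
  FH : F ≤ H
  En : ∀ h ∈ H, ∀ e ∈ E, h * e * h⁻¹ ∈ E
  Fn : ∀ h ∈ H, ∀ f ∈ F, h * f * h⁻¹ ∈ F
  gE : ∀ x, x ∈ E → g * x * g⁻¹ ∈ F
  gF : ∀ x, x ∈ F → g * x * g⁻¹ ∈ E
  E2 : ∀ x ∈ E, x * x = 1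
  F2 : ∀ x ∈ F, x * x = 1
  E8 : Nat.card E = 8
  F8 : Nat.card F = 8

namespace Swap

variable {E F H : Subgroup P} {g : P} (s : Swap E F H g)
include s

theorem decomp (p : P) : p ∈ H ∨ ∃ h ∈ H, p = h * g := by
  by_cases hp : p ∈ H
  · exact Or.inl hp
  · refine Or.inr ⟨p * g⁻¹, ?_, (inv_mul_cancel_right p g).symm⟩
    rw [Subgroup.mul_mem_iff_of_index_two s.idx]
    exact ⟨fun h => absurd h hp, fun h => absurd ((Subgroup.inv_mem_iff _).mp h) s.out⟩

theorem mem_outside {p : P} (hp : p ∉ H) {x : P} (hx : x ∈ E) : p * x * p⁻¹ ∈ F := by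
  rcases s.decomp p with h | ⟨h, hh, rfl⟩
  · exact absurd h hp
  · rw [show h * g * x * (h * g)⁻¹ = h * (g * x * g⁻¹) * h⁻¹ by group]
    exact s.Fn h hh _ (s.gE x hx)

theorem mem_outside' {p : P} (hp : p ∉ H) {x : P} (hx : x ∈ F) : p * x * p⁻¹ ∈ E := by
  rcases s.decomp p with h | ⟨h, hh, rfl⟩
  · exact absurd h hp
  · rw [show h * g * x * (h * g)⁻¹ = h * (g * x * g⁻¹) * h⁻¹ by group]
    exact s.En h hh _ (s.gF x hx)

theorem inf_normal : (E ⊓ F).Normal := by
  refine ⟨fun x hx p => ?_⟩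
  by_cases hp : p ∈ H
  · exact ⟨s.En p hp x hx.1, s.Fn p hp x hx.2⟩
  · exact ⟨s.mem_outside' hp hx.2, s.mem_outside hp hx.1⟩

theorem comm_mem {e f : P} (he : e ∈ E) (hf : f ∈ F) : e * f * e⁻¹ * f⁻¹ ∈ E ⊓ F := by
  refine Subgroup.mem_inf.mpr ⟨?_, ?_⟩
  · rw [show e * f * e⁻¹ * f⁻¹ = e * (f * e⁻¹ * f⁻¹) by group]
    exact mul_mem he (s.En f (s.FH hf) _ (inv_mem he))
  · exact mul_mem (s.Fn e (s.EH he) f hf) (inv_mem hf)

/-- If the two commute they generate a normal elementary subgroup. -/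
theorem goal_of_commute (hc : ∀ e ∈ E, ∀ f ∈ F, Commute e f) : Goal P := by
  refine ⟨Subgroup.closure {x | x ∈ E ∨ x ∈ F}, closure_normal ?_, closure_sq ?_ ?_, ?_⟩
  · intro p x hx
    by_cases hp : p ∈ H
    · rcases hx with hx | hx
      · exact Or.inl (s.En p hp x hx)
      · exact Or.inr (s.Fn p hp x hx)
    · rcases hx with hx | hx
      · exact Or.inr (s.mem_outside hp hx)
      · exact Or.inl (s.mem_outside' hp hx)
  · rintro x (hx | hx)
    · exact s.E2 x hx
    · exact s.F2 x hx
  · rintro x (hx | hx) y (hy | hy)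
    · exact elem_comm s.E2 hx hy
    · exact hc x hx y hy
    · exact (hc y hy x hx).symm
    · exact elem_comm s.F2 hx hy
  · have : E ≤ Subgroup.closure {x | x ∈ E ∨ x ∈ F} := fun x hx => Subgroup.subset_closure (Or.inl hx)
    have := Subgroup.card_le_of_le this
    have := s.E8
    omega

/-- Intersection of order two: a radical, or the third subgroup of the family. -/
theorem goal_two (h2 : Nat.card ↥(E ⊓ F) = 2) : Goal P := by
  classical
  haveI := s.inf_normal
  obtain ⟨z, hzD, hz1, hzall⟩ : ∃ z : P, z ∈ E ⊓ F ∧ z ≠ 1 ∧ ∀ x ∈ E ⊓ F, x = 1 ∨ x = z := by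
    obtain ⟨a, b, hab, hu⟩ := Nat.card_eq_two_iff.mp h2
    have h1 : (1 : ↥(E ⊓ F)) = a ∨ (1 : ↥(E ⊓ F)) = b := by
      have : (1 : ↥(E ⊓ F)) ∈ ({a, b} : Set ↥(E ⊓ F)) := by rw [hu]; trivial
      simpa using this
    have hall : ∀ x : ↥(E ⊓ F), x = a ∨ x = b := fun x => by
      have : x ∈ ({a, b} : Set ↥(E ⊓ F)) := by rw [hu]; trivial
      simpa using this
    rcases h1 with h1 | h1
    · refine ⟨b, b.2, fun e => hab (by rw [← h1]; exact (Subtype.ext e).symm), fun x hx => ?_⟩
      rcases hall ⟨x, hx⟩ with h | h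
      · exact Or.inl (by rw [← h1] at h; exact congrArg Subtype.val h)
      · exact Or.inr (congrArg Subtype.val h)
    · refine ⟨a, a.2, fun e => hab (by rw [← h1]; exact Subtype.ext e), fun x hx => ?_⟩
      rcases hall ⟨x, hx⟩ with h | h
      · exact Or.inr (congrArg Subtype.val h)
      · exact Or.inl (by rw [← h1] at h; exact congrArg Subtype.val h)
  have hDc : ∀ d ∈ E ⊓ F, ∀ p : P, Commute d p := fun d hd p => by
    have hm := Subgroup.Normal.conj_mem s.inf_normal d hd p
    have e : p * d * p⁻¹ = d := by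
      rcases hzall d hd with rfl | hdz
      · simp
      · rcases hzall _ hm with h | h
        · exact absurd (show d = 1 by
            calc d = p⁻¹ * (p * d * p⁻¹) * p := by group
              _ = 1 := by rw [h]; group) (hdz ▸ hz1)
        · rw [h, hdz]
    show d * p = p * d
    calc d * p = p * d * p⁻¹ * p := by rw [e]
      _ = p * d := by group
  have hcen : ∀ e ∈ E, ∀ f ∈ F, ¬ Commute e f → e * f * e⁻¹ * f⁻¹ = z := fun e he f hf h =>
    (hzall _ (s.comm_mem he hf)).resolve_left fun h1 => h (show e * f = f * e by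
      calc e * f = e * f * e⁻¹ * f⁻¹ * (f * e) := by group
        _ = f * e := by rw [h1, one_mul])
  by_cases hrad : ∃ e ∈ E, e ∉ F ∧ ∀ f ∈ F, Commute e f
  · obtain ⟨e0, he0, he0F, hce0⟩ := hrad
    set S : Set P := {x | (x ∈ E ∧ ∀ f ∈ F, Commute x f) ∨ (x ∈ F ∧ ∀ e ∈ E, Commute e x)} with hS
    refine ⟨Subgroup.closure S, closure_normal ?_, closure_sq ?_ ?_, ?_⟩
    · have key : ∀ p x y : P, Commute x (p⁻¹ * y * p) → Commute (p * x * p⁻¹) y := fun p x y h => by
        show p * x * p⁻¹ * y = y * (p * x * p⁻¹)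
        calc p * x * p⁻¹ * y = p * (x * (p⁻¹ * y * p)) * p⁻¹ := by group
          _ = p * ((p⁻¹ * y * p) * x) * p⁻¹ := by rw [h.eq]
          _ = y * (p * x * p⁻¹) := by group
      intro p x hx
      have ci : ∀ y : P, p⁻¹ * y * p = p⁻¹ * y * p⁻¹⁻¹ := fun y => by rw [inv_inv]
      by_cases hp : p ∈ H
      · rcases hx with ⟨hx, hc⟩ | ⟨hx, hc⟩
        · exact Or.inl ⟨s.En p hp x hx, fun f hf => key p x f (hc _ (ci f ▸ s.Fn _ (inv_mem hp) f hf))⟩
        · exact Or.inr ⟨s.Fn p hp x hx,
            fun e he => (key p x e (hc _ (ci e ▸ s.En _ (inv_mem hp) e he)).symm).symm⟩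
      · have hp' : p⁻¹ ∉ H := fun h => hp ((Subgroup.inv_mem_iff _).mp h)
        rcases hx with ⟨hx, hc⟩ | ⟨hx, hc⟩
        · exact Or.inr ⟨s.mem_outside hp hx,
            fun e he => (key p x e (hc _ (ci e ▸ s.mem_outside hp' he))).symm⟩
        · exact Or.inl ⟨s.mem_outside' hp hx,
            fun f hf => key p x f (hc _ (ci f ▸ s.mem_outside' hp' hf)).symm⟩
    · rintro x (⟨hx, -⟩ | ⟨hx, -⟩)
      · exact s.E2 x hx
      · exact s.F2 x hx
    · rintro x (⟨hx, hc⟩ | ⟨hx, hc⟩) y (⟨hy, hd⟩ | ⟨hy, hd⟩)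
      · exact elem_comm s.E2 hx hy
      · exact hc y hy
      · exact (hd x hx).symm
      · exact elem_comm s.F2 hx hy
    · have hDle : E ⊓ F ≤ Subgroup.closure S ⊓ E := fun x hx =>
        ⟨Subgroup.subset_closure (Or.inl ⟨hx.1, fun f _ => hDc x hx f⟩), hx.1⟩
      have l1 : E ⊓ F < Subgroup.closure S ⊓ E := SetLike.lt_iff_le_and_exists.mpr
        ⟨hDle, e0, Subgroup.mem_inf.mpr ⟨Subgroup.subset_closure (Or.inl ⟨he0, hce0⟩), he0⟩,
          fun h => he0F (Subgroup.mem_inf.mp h).2⟩
      have hf0E : g * e0 * g⁻¹ ∉ E := fun h => he0F (by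
        have hg' : g⁻¹ ∉ H := fun hh => s.out ((Subgroup.inv_mem_iff _).mp hh)
        have := s.mem_outside hg' h
        rwa [show g⁻¹ * (g * e0 * g⁻¹) * g⁻¹⁻¹ = e0 by group] at this)
      have hf0S : g * e0 * g⁻¹ ∈ S := by
        refine Or.inr ⟨s.gE _ he0, fun e he => ?_⟩
        have hg' : g⁻¹ ∉ H := fun hh => s.out ((Subgroup.inv_mem_iff _).mp hh)
        have hc := hce0 _ (s.mem_outside hg' he)
        show e * (g * e0 * g⁻¹) = g * e0 * g⁻¹ * e
        calc e * (g * e0 * g⁻¹) = g * ((g⁻¹ * e * g⁻¹⁻¹) * e0) * g⁻¹ := by group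
          _ = g * (e0 * (g⁻¹ * e * g⁻¹⁻¹)) * g⁻¹ := by rw [hc.eq]
          _ = g * e0 * g⁻¹ * e := by group
      have l2 : Subgroup.closure S ⊓ E < Subgroup.closure S := SetLike.lt_iff_le_and_exists.mpr
        ⟨inf_le_left, g * e0 * g⁻¹, Subgroup.subset_closure hf0S, fun h => hf0E h.2⟩
      have := two_mul_card_le l1
      have := two_mul_card_le l2
      omega
  · push Not at hrad
    have hrad' : ∀ f ∈ F, f ∉ E → ∃ e ∈ E, ¬ Commute e f := fun f hf hfE => by
      have hg' : g⁻¹ ∉ H := fun hh => s.out ((Subgroup.inv_mem_iff _).mp hh)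
      obtain ⟨f', hf', hn⟩ := hrad (g * f * g⁻¹) (s.gF f hf) (fun h => hfE (by
        have := s.mem_outside' hg' h
        rwa [show g⁻¹ * (g * f * g⁻¹) * g⁻¹⁻¹ = f by group] at this))
      refine ⟨g⁻¹ * f' * g⁻¹⁻¹, s.mem_outside' hg' hf', fun hc => hn ?_⟩
      show g * f * g⁻¹ * f' = f' * (g * f * g⁻¹)
      calc g * f * g⁻¹ * f' = g * (f * (g⁻¹ * f' * g⁻¹⁻¹)) * g⁻¹ := by group
        _ = g * ((g⁻¹ * f' * g⁻¹⁻¹) * f) * g⁻¹ := by rw [hc.eq]
        _ = f' * (g * f * g⁻¹) := by group
    have cE : Nat.card E = 8 := s.E8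
    have cF : Nat.card F = 8 := s.F8
    -- the centraliser of one element in the other subgroup
    have hK : ∀ e ∈ E, e ∉ F →
        ∃ f1 ∈ F, f1 ∉ E ∧ Commute e f1 ∧ ∀ f2 ∈ F, f2 ∉ E → Commute e f2 → f1⁻¹ * f2 ∈ E ⊓ F := by
      intro e he heF
      set K := F ⊓ Subgroup.centralizer ({e} : Set P) with hKdef
      have hKc : ∀ x ∈ K, Commute e x := fun x hx => (Subgroup.mem_centralizer_singleton_iff.mp hx.2).symm
      have hcK : ∀ x ∈ F, Commute e x → x ∈ K := fun x hx h =>
        ⟨hx, Subgroup.mem_centralizer_singleton_iff.mpr h.eq.symm⟩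
      have hKF : K < F := by
        obtain ⟨f, hf, hn⟩ := hrad e he heF
        exact SetLike.lt_iff_le_and_exists.mpr ⟨inf_le_left, f, hf, fun h => hn (hKc f h)⟩
      have hDK : E ⊓ F ≤ K := fun x hx => hcK x hx.2 (hDc x hx e).symm
      obtain ⟨f0, hf0, hn0⟩ := hrad e he heF
      have hcov : ∀ f ∈ F, Commute e f ∨ Commute e (f0 * f) := fun f hf => by
        by_cases h : Commute e f
        · exact Or.inl h
        · refine Or.inr (show e * (f0 * f) = f0 * f * e from ?_)
          have h1 := hcen e he f hf h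
          have h0 := hcen e he f0 hf0 hn0
          have z2 : z * z = 1 := s.E2 z (by rw [← h1]; exact (s.comm_mem he hf).1)
          have hzf : Commute z f0 := hDc z (by rw [← h1]; exact s.comm_mem he hf) f0
          calc e * (f0 * f) = (e * f0 * e⁻¹ * f0⁻¹) * f0 * (e * f * e⁻¹ * f⁻¹) * f * e := by group
            _ = z * f0 * z * f * e := by rw [h0, h1]
            _ = (z * z) * f0 * f * e := by rw [mul_assoc z f0 z, ← hzf.eq]; group
            _ = f0 * f * e := by rw [z2, one_mul]
      have hK4 : 4 ≤ Nat.card K := by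
        have hsub : Nat.card F ≤ Nat.card (↥K × Bool) := by
          refine Nat.card_le_card_of_injective
            (fun f => if h : Commute e (f : P) then (⟨f, hcK f f.2 h⟩, true)
              else (⟨f0 * f, hcK _ (mul_mem hf0 f.2) ((hcov f f.2).resolve_left h)⟩, false)) ?_
          intro a b hab
          simp only at hab
          split at hab <;> split at hab <;> simp at hab
          · exact hab
          · exact hab
        rw [Nat.card_prod, cF, Nat.card_eq_fintype_card (α := Bool), Fintype.card_bool] at hsub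
        omega
      obtain ⟨f1, hf1K, hf1⟩ := SetLike.exists_of_lt
        (lt_of_le_of_ne hDK (fun h => by rw [← h, h2] at hK4; omega))
      have hf1E : f1 ∉ E := fun h => hf1 ⟨h, hf1K.1⟩
      refine ⟨f1, hf1K.1, hf1E, hKc f1 hf1K, fun f2 hf2 hf2E hc2 => ?_⟩
      by_contra hno
      set L := Subgroup.closure ((↑(E ⊓ F) : Set P) ∪ {f1}) with hL
      have hLK : L ≤ K := (Subgroup.closure_le _).mpr (fun x hx => by
        rcases hx with hx | hx
        · exact hDK hx
        · rw [Set.mem_singleton_iff] at hx; subst hx; exact hf1K)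
      have hLmem : ∀ x ∈ L, x ∈ E ⊓ F ∨ f1⁻¹ * x ∈ E ⊓ F := by
        intro x hx
        have sq1 : f1⁻¹ = f1 := inv_eq_of_mul_eq_one_left (s.F2 f1 hf1K.1)
        induction hx using Subgroup.closure_induction with
        | mem x hx =>
          rcases hx with hx | hx
          · exact Or.inl hx
          · rw [Set.mem_singleton_iff] at hx; subst hx; exact Or.inr (by simp)
        | one => exact Or.inl (one_mem _)
        | mul x y _ _ ihx ihy =>
          rcases ihx with ihx | ihx <;> rcases ihy with ihy | ihy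
          · exact Or.inl (mul_mem ihx ihy)
          · refine Or.inr ?_
            rw [show f1⁻¹ * (x * y) = (f1⁻¹ * x * f1) * (f1⁻¹ * y) by group, mul_assoc _ x f1, (hDc x ihx f1).eq]
            simp only [inv_mul_cancel_left]
            exact mul_mem ihx ihy
          · exact Or.inr (by rw [← mul_assoc]; exact mul_mem ihx ihy)
          · refine Or.inl ?_
            have : x * y = f1 * (f1⁻¹ * x) * f1 * (f1⁻¹ * y) := by group
            rw [this, ← (hDc _ ihx f1).eq, mul_assoc _ f1 f1, s.F2 f1 hf1K.1, mul_one]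
            exact mul_mem ihx ihy
        | inv x _ ih =>
          rcases ih with ih | ih
          · exact Or.inl (inv_mem ih)
          · refine Or.inr ?_
            have : f1⁻¹ * x⁻¹ = f1⁻¹ * ((f1⁻¹ * x)⁻¹ * f1⁻¹) := by group
            rw [this, (hDc _ (inv_mem ih) f1⁻¹).eq, ← mul_assoc, sq1, s.F2 f1 hf1K.1, one_mul]
            rw [sq1] at ih
            exact inv_mem ih
      have l1 : E ⊓ F < L := SetLike.lt_iff_le_and_exists.mpr
        ⟨fun x hx => Subgroup.subset_closure (Or.inl hx), f1, Subgroup.subset_closure (Or.inr rfl), hf1⟩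
      have l2 : L < K := SetLike.lt_iff_le_and_exists.mpr ⟨hLK, f2, hcK f2 hf2 hc2, fun h =>
        (hLmem f2 h).elim (fun h => hf2E h.1) hno⟩
      have := two_mul_card_le l1
      have := two_mul_card_le l2
      have := two_mul_card_le hKF
      omega
    have hflip : ∀ e ∈ E, e ∉ F → ∀ f ∈ F, f ∉ E → Commute e f → ∀ e' ∈ E, e' ∉ F → ∀ f' ∈ F, f' ∉ E →
        Commute e' f' → Commute e f' → Commute e' f := by
      intro e he heF f hf hfE hc e' he' he'F f' hf' hf'E hc' hx
      obtain ⟨f1, hf1, hf1E, -, hu⟩ := hK e he heF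
      have h1 := hu f hf hfE hc
      have h2 := hu f' hf' hf'E hx
      have hd : f'⁻¹ * f ∈ E ⊓ F := by
        rw [show f'⁻¹ * f = (f1⁻¹ * f')⁻¹ * (f1⁻¹ * f) by group]
        exact mul_mem (inv_mem h2) h1
      have := hc'.mul_right (hDc _ hd e').symm
      rwa [mul_inv_cancel_left] at this
    set S : Set P := {x | x ∈ E ⊓ F ∨ ∃ e ∈ E, ∃ f ∈ F, e ∉ F ∧ f ∉ E ∧ Commute e f ∧ x = e * f} with hS
    refine ⟨Subgroup.closure S, closure_normal ?_, closure_sq ?_ ?_, ?_⟩
    · rintro p x (hx | ⟨e, he, f, hf, heF, hfE, hc, rfl⟩)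
      · exact Or.inl (Subgroup.Normal.conj_mem s.inf_normal x hx p)
      · refine Or.inr ?_
        have hc' : Commute (p * e * p⁻¹) (p * f * p⁻¹) := by
          show p * e * p⁻¹ * (p * f * p⁻¹) = p * f * p⁻¹ * (p * e * p⁻¹)
          calc p * e * p⁻¹ * (p * f * p⁻¹) = p * (e * f) * p⁻¹ := by group
            _ = p * (f * e) * p⁻¹ := by rw [hc.eq]
            _ = _ := by group
        by_cases hp : p ∈ H
        · refine ⟨p * e * p⁻¹, s.En p hp e he, p * f * p⁻¹, s.Fn p hp f hf, fun h => heF ?_,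
            fun h => hfE ?_, hc', by group⟩
          · have := s.Fn p⁻¹ (inv_mem hp) _ h
            rwa [show p⁻¹ * (p * e * p⁻¹) * p⁻¹⁻¹ = e by group] at this
          · have := s.En p⁻¹ (inv_mem hp) _ h
            rwa [show p⁻¹ * (p * f * p⁻¹) * p⁻¹⁻¹ = f by group] at this
        · have hp' : p⁻¹ ∉ H := fun h => hp ((Subgroup.inv_mem_iff _).mp h)
          refine ⟨p * f * p⁻¹, s.mem_outside' hp hf, p * e * p⁻¹, s.mem_outside hp he, fun h => hfE ?_,
            fun h => heF ?_, hc'.symm, ?_⟩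
          · have := s.mem_outside' hp' h
            rwa [show p⁻¹ * (p * f * p⁻¹) * p⁻¹⁻¹ = f by group] at this
          · have := s.mem_outside hp' h
            rwa [show p⁻¹ * (p * e * p⁻¹) * p⁻¹⁻¹ = e by group] at this
          · rw [hc.eq]; group
    · rintro x (hx | ⟨e, he, f, hf, -, -, hc, rfl⟩)
      · exact s.E2 x hx.1
      · calc e * f * (e * f) = e * (f * e) * f := by group
          _ = e * (e * f) * f := by rw [hc.eq]
          _ = (e * e) * (f * f) := by group
          _ = 1 := by rw [s.E2 e he, s.F2 f hf, mul_one]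
    · rintro x (hx | ⟨e, he, f, hf, heF, hfE, hc, rfl⟩) y (hy | ⟨e', he', f', hf', heF', hfE', hc', rfl⟩)
      · exact hDc x hx y
      · exact hDc x hx _
      · exact (hDc y hy _).symm
      · have c1 : Commute e e' := elem_comm s.E2 he he'
        have c2 : Commute f f' := elem_comm s.F2 hf hf'
        by_cases hx : Commute e f'
        · have hy : Commute e' f := hflip e he heF f hf hfE hc e' he' heF' f' hf' hfE' hc' hx
          exact (c1.mul_right hx).mul_left (hy.symm.mul_right c2)
        · have hy : ¬ Commute e' f := fun hy =>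
            hx (hflip e' he' heF' f' hf' hfE' hc' e he heF f hf hfE hc hy)
          have a1 := hcen e he f' hf' hx
          have a2 := hcen e' he' f hf hy
          have hzD : z ∈ E ⊓ F := a1 ▸ s.comm_mem he hf'
          have z2 : z⁻¹ = z := inv_eq_of_mul_eq_one_left (s.E2 z hzD.1)
          have b1 : e * f' = z * f' * e := by
            calc e * f' = e * f' * e⁻¹ * f'⁻¹ * (f' * e) := by group
              _ = _ := by rw [a1]; group
          have b2 : f * e' = z * e' * f := by
            calc f * e' = (e' * f * e'⁻¹ * f⁻¹)⁻¹ * (e' * f) := by group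
              _ = _ := by rw [a2, z2]; group
          have zc := hDc z hzD
          show e * f * (e' * f') = e' * f' * (e * f)
          calc e * f * (e' * f') = e * (f * e') * f' := by group
            _ = z * (e * e') * (f * f') := by rw [b2, ← mul_assoc e, ← mul_assoc e, ← (zc e).eq]; group
            _ = z * (e' * e) * (f' * f) := by rw [c1.eq, c2.eq]
            _ = e' * (z * e) * (f' * f) := by rw [← mul_assoc z e' e, (zc e').eq]; group
            _ = e' * z * (e * f') * f := by group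
            _ = e' * (z * z) * f' * e * f := by rw [b1]; group
            _ = e' * f' * (e * f) := by rw [s.E2 z hzD.1]; group
    · obtain ⟨e1, he1, he1F⟩ : ∃ e ∈ E, e ∉ F := by
        by_contra h
        push Not at h
        have : Nat.card E ≤ Nat.card ↥(E ⊓ F) := Subgroup.card_le_of_le fun x hx => ⟨hx, h x hx⟩
        omega
      obtain ⟨f1, hf1, hf1E, hc1, -⟩ := hK e1 he1 he1F
      set L := Subgroup.closure ((↑(E ⊓ F) : Set P) ∪ {e1}) with hL
      obtain ⟨e2, he2, he2L⟩ : ∃ e ∈ E, e ∉ L := by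
        by_contra h
        push Not at h
        have hle : Nat.card E ≤ Nat.card L := Subgroup.card_le_of_le h
        have hLle : Nat.card L ≤ Nat.card (↥(E ⊓ F) × Bool) := by
          have hmem : ∀ x ∈ L, x ∈ E ⊓ F ∨ e1 * x ∈ E ⊓ F := by
            intro x hx
            induction hx using Subgroup.closure_induction with
            | mem x hx =>
              rcases hx with hx | hx
              · exact Or.inl hx
              · rw [Set.mem_singleton_iff] at hx; subst hx; exact Or.inr (by rw [s.E2 _ he1]; exact one_mem _)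
            | one => exact Or.inl (one_mem _)
            | mul x y _ _ ihx ihy =>
              rcases ihx with ihx | ihx <;> rcases ihy with ihy | ihy
              · exact Or.inl (mul_mem ihx ihy)
              · exact Or.inr (by rw [← mul_assoc, ← (hDc x ihx e1).eq, mul_assoc]; exact mul_mem ihx ihy)
              · exact Or.inr (by rw [← mul_assoc]; exact mul_mem ihx ihy)
              · refine Or.inl ?_
                have : x * y = (e1 * e1)⁻¹ * (e1 * (e1 * x) * e1⁻¹) * (e1 * y) := by group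
                rw [this, s.E2 _ he1, ← (hDc _ ihx e1).eq, mul_inv_cancel_right, inv_one, one_mul]
                exact mul_mem ihx ihy
            | inv x _ ih =>
              rcases ih with ih | ih
              · exact Or.inl (inv_mem ih)
              · refine Or.inr ?_
                have : e1 * x⁻¹ = e1 * (e1 * x)⁻¹ * e1 := by group
                rw [this, ← (hDc _ (inv_mem ih) e1).eq, mul_assoc, s.E2 _ he1, mul_one]
                exact inv_mem ih
          refine Nat.card_le_card_of_injective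
            (fun x => if h : (x : P) ∈ E ⊓ F then (⟨x, h⟩, true)
              else (⟨e1 * x, (hmem x x.2).resolve_left h⟩, false)) ?_
          intro a b hab
          simp only at hab
          split at hab <;> split at hab <;> simp at hab
          · exact hab
          · exact hab
        rw [Nat.card_prod, h2, Nat.card_eq_fintype_card (α := Bool), Fintype.card_bool] at hLle
        omega
      have he2F : e2 ∉ F := fun h => he2L (Subgroup.subset_closure (Or.inl ⟨he2, h⟩))
      obtain ⟨f2, hf2, hf2E, hc2, -⟩ := hK e2 he2 he2F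
      set M := Subgroup.closure ((↑(E ⊓ F) : Set P) ∪ {e1 * f1}) with hM
      have hMle : ∀ x ∈ M, ∃ a ∈ L, ∃ b ∈ F, x = a * b := by
        intro x hx
        have hML : M ≤ Subgroup.closure ((↑L : Set P) ∪ ↑F) := (Subgroup.closure_le _).mpr (fun y hy => by
          rcases hy with hy | hy
          · exact Subgroup.subset_closure (Or.inl (Subgroup.subset_closure (Or.inl hy)))
          · rw [Set.mem_singleton_iff] at hy; subst hy
            exact mul_mem (Subgroup.subset_closure (Or.inl (Subgroup.subset_closure (Or.inr rfl))))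
              (Subgroup.subset_closure (Or.inr hf1)))
        have hLE : L ≤ E := (Subgroup.closure_le _).mpr (fun y hy => by
          rcases hy with hy | hy
          · exact hy.1
          · rw [Set.mem_singleton_iff] at hy; subst hy; exact he1)
        have hn : L ≤ Subgroup.normalizer (F : Set P) := fun y hy => by
          rw [Subgroup.mem_normalizer_iff]
          intro n
          refine ⟨fun hn => s.Fn y (s.EH (hLE hy)) n hn, fun hn => ?_⟩
          have := s.Fn y⁻¹ (inv_mem (s.EH (hLE hy))) _ hn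
          rwa [show y⁻¹ * (y * n * y⁻¹) * y⁻¹⁻¹ = n by group] at this
        have hx' := hML hx
        rw [Subgroup.closure_union, Subgroup.closure_eq, Subgroup.closure_eq] at hx'
        have hx'' : x ∈ (↑(L ⊔ F) : Set P) := hx'
        rw [Subgroup.coe_mul_of_left_le_normalizer_right L F hn] at hx''
        obtain ⟨a, ha, b, hb, hab⟩ := hx''
        exact ⟨a, ha, b, hb, hab.symm⟩
      have l1 : E ⊓ F < M := SetLike.lt_iff_le_and_exists.mpr ⟨fun x hx => Subgroup.subset_closure (Or.inl hx),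
        e1 * f1, Subgroup.subset_closure (Or.inr rfl), fun h => hf1E (by
          have := mul_mem (inv_mem he1) h.1
          rwa [inv_mul_cancel_left] at this)⟩
      have l2 : M < Subgroup.closure S := by
        refine SetLike.lt_iff_le_and_exists.mpr ⟨(Subgroup.closure_le _).mpr (fun y hy => ?_), e2 * f2,
          Subgroup.subset_closure (Or.inr ⟨e2, he2, f2, hf2, he2F, hf2E, hc2, rfl⟩), fun h => ?_⟩
        · rcases hy with hy | hy
          · exact Subgroup.subset_closure (Or.inl hy)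
          · rw [Set.mem_singleton_iff] at hy; subst hy
            exact Subgroup.subset_closure (Or.inr ⟨e1, he1, f1, hf1, he1F, hf1E, hc1, rfl⟩)
        · obtain ⟨a, ha, b, hb, hab⟩ := hMle _ h
          have haE : a ∈ E := ((Subgroup.closure_le E).mpr (fun y hy => by
            rcases hy with hy | hy
            · exact hy.1
            · rw [Set.mem_singleton_iff] at hy; subst hy; exact he1)) ha
          have e' : a⁻¹ * e2 = b * f2⁻¹ := by
            calc a⁻¹ * e2 = a⁻¹ * (e2 * f2) * f2⁻¹ := by group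
              _ = b * f2⁻¹ := by rw [hab]; group
          have hd : a⁻¹ * e2 ∈ E ⊓ F :=
            Subgroup.mem_inf.mpr ⟨mul_mem (inv_mem haE) he2, e' ▸ mul_mem hb (inv_mem hf2)⟩
          have := mul_mem ha (Subgroup.subset_closure (Or.inl hd) : a⁻¹ * e2 ∈ L)
          rw [mul_inv_cancel_left] at this
          exact he2L this
      have := two_mul_card_le l1
      have := two_mul_card_le l2
      omega

/-- The element and the translation: an element outside `H` moves the intersection. -/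
theorem frame (h4e : ∀ x : P, x ^ 4 = 1) (h4 : Nat.card ↥(E ⊓ F) = 4)
    (hnc : ¬ ∀ e ∈ E, ∀ f ∈ F, Commute e f) :
    ∃ a ∈ E, a ∉ F ∧ g * a * g⁻¹ ∉ E ∧ (∀ x ∈ E, x ∉ F → a⁻¹ * x ∈ E ⊓ F) ∧
      (∀ y ∈ F, y ∉ E → (g * a * g⁻¹)⁻¹ * y ∈ E ⊓ F) ∧ ¬ Commute a (g * a * g⁻¹) ∧
      ∃ d0 ∈ E ⊓ F, g * g * a * (g * g)⁻¹ = a * d0 ∧ g * d0 * g⁻¹ ≠ d0 := by
  haveI := s.inf_normal
  have hD2 : ∀ v ∈ E ⊓ F, v * v = 1 := fun v hv => s.E2 v hv.1
  have cE := s.E8
  -- the coset
  obtain ⟨a, haE, haF⟩ : ∃ a ∈ E, a ∉ F := by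
    by_contra h
    push Not at h
    have : Nat.card E ≤ Nat.card ↥(E ⊓ F) := Subgroup.card_le_of_le fun x hx => ⟨hx, h x hx⟩
    omega
  have hcos : ∀ x ∈ E, x ∉ F → a⁻¹ * x ∈ E ⊓ F := by
    intro x hx hxF
    by_contra hno
    have hsub : Nat.card (↥(E ⊓ F) ⊕ ↥(E ⊓ F) ⊕ Unit) ≤ Nat.card E := by
      refine Nat.card_le_card_of_injective (Sum.elim (fun d => ⟨d, d.2.1⟩)
        (Sum.elim (fun d => ⟨a * d, mul_mem haE d.2.1⟩) (fun _ => ⟨x, hx⟩))) ?_
      rintro (d | d | ⟨⟩) (d' | d' | ⟨⟩) h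
      · have := congrArg Subtype.val h
        simp only [Sum.elim_inl] at this
        rw [Subtype.ext this]
      · exact absurd (by
          have := congrArg Subtype.val h
          simp only [Sum.elim_inl, Sum.elim_inr] at this
          have e : a = (d : P) * (d' : P)⁻¹ := by rw [this, mul_inv_cancel_right]
          exact e ▸ mul_mem d.2.2 (inv_mem d'.2.2)) haF
      · exact absurd (by
          have := congrArg Subtype.val h
          simp only [Sum.elim_inl, Sum.elim_inr] at this
          exact this ▸ d.2.2) hxF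
      · exact absurd (by
          have := congrArg Subtype.val h
          simp only [Sum.elim_inl, Sum.elim_inr] at this
          have e : a = (d' : P) * (d : P)⁻¹ := by rw [← this, mul_inv_cancel_right]
          exact e ▸ mul_mem d'.2.2 (inv_mem d.2.2)) haF
      · have := congrArg Subtype.val h
        simp only [Sum.elim_inl, Sum.elim_inr] at this
        rw [Subtype.ext (mul_left_cancel this)]
      · exact absurd (by
          have := congrArg Subtype.val h
          simp only [Sum.elim_inl, Sum.elim_inr] at this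
          rw [← this, inv_mul_cancel_left]; exact d.2) hno
      · exact absurd (by
          have := congrArg Subtype.val h
          simp only [Sum.elim_inl, Sum.elim_inr] at this
          exact this.symm ▸ d'.2.2) hxF
      · exact absurd (by
          have := congrArg Subtype.val h
          simp only [Sum.elim_inl, Sum.elim_inr] at this
          rw [this, inv_mul_cancel_left]; exact d'.2) hno
      · rfl
    rw [Nat.card_sum, Nat.card_sum, h4, Nat.card_unique] at hsub
    omega
  have hg' : g⁻¹ ∉ H := fun hh => s.out ((Subgroup.inv_mem_iff _).mp hh)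
  set b := g * a * g⁻¹ with hb
  have hbF : b ∈ F := s.gE a haE
  have hbE : b ∉ E := fun h => haF (by
    have := s.mem_outside hg' h
    rwa [show g⁻¹ * (g * a * g⁻¹) * g⁻¹⁻¹ = a by group] at this)
  have hcosF : ∀ y ∈ F, y ∉ E → b⁻¹ * y ∈ E ⊓ F := by
    intro y hy hyE
    have h1 := hcos _ (s.mem_outside' hg' hy) (fun h => hyE (by
      have := s.mem_outside' s.out h
      rwa [show g * (g⁻¹ * y * g⁻¹⁻¹) * g⁻¹ = y by group] at this))
    have := Subgroup.Normal.conj_mem s.inf_normal _ h1 g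
    rwa [show g * (a⁻¹ * (g⁻¹ * y * g⁻¹⁻¹)) * g⁻¹ = b⁻¹ * y by rw [hb]; group] at this
  have hab : ¬ Commute a b := fun hc => hnc fun e he f hf => by
    by_cases heF : e ∈ F
    · exact elem_comm s.F2 heF hf
    by_cases hfE : f ∈ E
    · exact elem_comm s.E2 he hfE
    have h1 := hcos e he heF
    have h2 := hcosF f hf hfE
    have c : Commute (a * (a⁻¹ * e)) (b * (b⁻¹ * f)) :=
      (hc.mul_right (elem_comm s.E2 haE h2.1)).mul_left
        ((elem_comm s.F2 h1.2 hbF).mul_right (elem_comm hD2 h1 h2))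
    rwa [mul_inv_cancel_left, mul_inv_cancel_left] at c
  set z := a * b * a⁻¹ * b⁻¹ with hz
  have hzD : z ∈ E ⊓ F := s.comm_mem haE hbF
  have hz1 : z ≠ 1 := fun h => hab (show a * b = b * a by
    calc a * b = a * b * a⁻¹ * b⁻¹ * (b * a) := by group
      _ = b * a := by rw [← hz, h, one_mul])
  have dA : ∀ d ∈ E ⊓ F, Commute d a := fun d hd => elem_comm s.E2 hd.1 haE
  have dB : ∀ d ∈ E ⊓ F, Commute d b := fun d hd => elem_comm s.F2 hd.2 hbF
  have dd : ∀ d ∈ E ⊓ F, ∀ e ∈ E ⊓ F, Commute d e := fun d hd e he => elem_comm hD2 hd he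
  have ai : a⁻¹ = a := inv_eq_of_mul_eq_one_left (s.E2 a haE)
  have bi : b⁻¹ = b := inv_eq_of_mul_eq_one_left (s.F2 b hbF)
  have zi : z⁻¹ = z := inv_eq_of_mul_eq_one_left (hD2 z hzD)
  have habz : a * b = z * (b * a) := by rw [hz]; group
  have hbaz : b * a = z * (a * b) := by rw [habz, ← mul_assoc, hD2 z hzD, one_mul]
  -- the translation by the square
  set w := g * g with hw
  have hwH : w ∈ H := by rw [hw, Subgroup.mul_mem_iff_of_index_two s.idx]
  obtain ⟨d0, hd0, hwa⟩ : ∃ d0 ∈ E ⊓ F, w * a * w⁻¹ = a * d0 := by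
    refine ⟨a⁻¹ * (w * a * w⁻¹), hcos _ (s.En w hwH a haE) (fun h => haF ?_), by group⟩
    have := s.Fn w⁻¹ (inv_mem hwH) _ h
    rwa [show w⁻¹ * (w * a * w⁻¹) * w⁻¹⁻¹ = a by group] at this
  set d1 := g * d0 * g⁻¹ with hd1'
  set d2 := g * d1 * g⁻¹ with hd2'
  have hd1 : d1 ∈ E ⊓ F := Subgroup.Normal.conj_mem s.inf_normal _ hd0 g
  have hd2 : d2 ∈ E ⊓ F := Subgroup.Normal.conj_mem s.inf_normal _ hd1 g
  have hgb : g * b * g⁻¹ = a * d0 := by rw [← hwa, hw, hb]; group
  have hgz : g * z * g⁻¹ = z := by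
    calc g * z * g⁻¹ = (g * a * g⁻¹) * (g * b * g⁻¹) * (g * a * g⁻¹)⁻¹ * (g * b * g⁻¹)⁻¹ := by rw [hz]; group
      _ = b * (a * d0) * b⁻¹ * (a * d0)⁻¹ := by rw [← hb, hgb]
      _ = b * a * (d0 * b⁻¹) * d0⁻¹ * a⁻¹ := by group
      _ = b * a * b⁻¹ * a⁻¹ := by rw [((dB _ hd0).inv_right).eq]; group
      _ = z⁻¹ := by rw [hz]; group
      _ = z := zi
  have hwb : w * b * w⁻¹ = b * d1 := by
    calc w * b * w⁻¹ = g * (g * b * g⁻¹) * g⁻¹ := by rw [hw]; group
      _ = g * a * g⁻¹ * (g * d0 * g⁻¹) := by rw [hgb]; group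
      _ = b * d1 := by rw [hb, hd1']
  have hwd : w * d0 * w⁻¹ = d2 := by rw [hw, hd2', hd1']; group
  have hw2 : w * w = 1 := by rw [hw, ← h4e g, pow_succ, pow_succ, pow_succ, pow_one]; group
  have key : d2 = z * d1 := by
    have e : (g * a) * (g * a) = b * (a * d0) * w := by
      calc (g * a) * (g * a) = (g * a * g⁻¹) * (g * g * a * (g * g)⁻¹) * (g * g) := by group
        _ = b * (a * d0) * w := by rw [← hw, hwa, hb]
    have e4 : (b * (a * d0) * w) * (b * (a * d0) * w) = 1 := by
      rw [← e, ← h4e (g * a), pow_succ, pow_succ, pow_succ, pow_one]; group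
    have e5 : (b * (a * d0) * w) * (b * (a * d0) * w)
        = b * (a * d0) * ((w * b * w⁻¹) * (w * a * w⁻¹) * (w * d0 * w⁻¹)) * (w * w) := by group
    rw [e5, hwa, hwb, hwd, hw2, mul_one] at e4
    have e6 : b * (a * d0) * (b * d1 * (a * d0) * d2) = z * d1 * d2 := by
      calc b * (a * d0) * (b * d1 * (a * d0) * d2) = b * a * (d0 * b) * (d1 * a) * d0 * d2 := by group
        _ = (b * a) * b * d0 * a * d1 * d0 * d2 := by rw [(dB _ hd0).eq, (dA _ hd1).eq]; group
        _ = (b * a) * b * (d0 * a) * (d1 * d0) * d2 := by group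
        _ = (b * a) * (b * a) * (d0 * d0) * d1 * d2 := by
            rw [(dA _ hd0).eq, (dd _ hd1 _ hd0).eq]; group
        _ = z * (a * b) * (b * a) * (d0 * d0) * d1 * d2 := by rw [← hbaz]
        _ = z * a * (b * b) * a * (d0 * d0) * d1 * d2 := by group
        _ = z * d1 * d2 := by rw [s.F2 b hbF, hD2 _ hd0, mul_one, mul_one, mul_assoc z a a, s.E2 a haE, mul_one]
    rw [e6] at e4
    calc d2 = (z * d1)⁻¹ * (z * d1 * d2) := by group
      _ = d1⁻¹ * z⁻¹ := by rw [e4, mul_one, mul_inv_rev]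
      _ = z * d1 := by
          rw [zi, inv_eq_of_mul_eq_one_left (hD2 _ hd1), (dd _ hd1 _ hzD).eq]
  have hd01 : d1 ≠ d0 := fun h => hz1 (by
    have h21 : d2 = d1 := by rw [hd2', h, ← hd1', h]
    rw [h21] at key
    exact mul_eq_right.mp key.symm)
  exact ⟨a, haE, haF, hbE, hcos, hcosF, hab, d0, hd0, hwa, hd01⟩

/-- Intersection of order four. -/
theorem goal_four (h4e : ∀ x : P, x ^ 4 = 1) (h4 : Nat.card ↥(E ⊓ F) = 4) (hP : IsPGroup 2 P)
    (hnc : ¬ ∀ e ∈ E, ∀ f ∈ F, Commute e f) : Goal P := by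
  haveI := s.inf_normal
  have hD2 : ∀ v ∈ E ⊓ F, v * v = 1 := fun v hv => s.E2 v hv.1
  have cE := s.E8
  obtain ⟨a, haE, haF, hbE, hcos, hcosF, hab, d0, hd0, hwa, hd01⟩ := s.frame h4e h4 hnc
  set b := g * a * g⁻¹ with hb
  have hbF : b ∈ F := s.gE a haE
  set z := a * b * a⁻¹ * b⁻¹ with hz
  have hzD : z ∈ E ⊓ F := s.comm_mem haE hbF
  have hz1 : z ≠ 1 := fun h => hab (show a * b = b * a by
    calc a * b = a * b * a⁻¹ * b⁻¹ * (b * a) := by group
      _ = b * a := by rw [← hz, h, one_mul])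
  have dA : ∀ d ∈ E ⊓ F, Commute d a := fun d hd => elem_comm s.E2 hd.1 haE
  have dB : ∀ d ∈ E ⊓ F, Commute d b := fun d hd => elem_comm s.F2 hd.2 hbF
  have dd : ∀ d ∈ E ⊓ F, ∀ e ∈ E ⊓ F, Commute d e := fun d hd e he => elem_comm hD2 hd he
  have ai : a⁻¹ = a := inv_eq_of_mul_eq_one_left (s.E2 a haE)
  have bi : b⁻¹ = b := inv_eq_of_mul_eq_one_left (s.F2 b hbF)
  have zi : z⁻¹ = z := inv_eq_of_mul_eq_one_left (hD2 z hzD)
  have habz : a * b = z * (b * a) := by rw [hz]; group
  have hbaz : b * a = z * (a * b) := by rw [habz, ← mul_assoc, hD2 z hzD, one_mul]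
  set w := g * g with hw
  have hwH : w ∈ H := by rw [hw, Subgroup.mul_mem_iff_of_index_two s.idx]
  set d1 := g * d0 * g⁻¹ with hd1'
  have hd1 : d1 ∈ E ⊓ F := Subgroup.Normal.conj_mem s.inf_normal _ hd0 g
  have hgb : g * b * g⁻¹ = a * d0 := by rw [← hwa, hw, hb]; group
  have hgz : g * z * g⁻¹ = z := by
    calc g * z * g⁻¹ = (g * a * g⁻¹) * (g * b * g⁻¹) * (g * a * g⁻¹)⁻¹ * (g * b * g⁻¹)⁻¹ := by rw [hz]; group
      _ = b * (a * d0) * b⁻¹ * (a * d0)⁻¹ := by rw [← hb, hgb]
      _ = b * a * (d0 * b⁻¹) * d0⁻¹ * a⁻¹ := by group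
      _ = b * a * b⁻¹ * a⁻¹ := by rw [((dB _ hd0).inv_right).eq]; group
      _ = z⁻¹ := by rw [hz]; group
      _ = z := zi
  have hwb : w * b * w⁻¹ = b * d1 := by
    calc w * b * w⁻¹ = g * (g * b * g⁻¹) * g⁻¹ := by rw [hw]; group
      _ = g * a * g⁻¹ * (g * d0 * g⁻¹) := by rw [hgb]; group
      _ = b * d1 := by rw [hb, hd1']
  have hw2 : w * w = 1 := by rw [hw, ← h4e g, pow_succ, pow_succ, pow_succ, pow_one]; group
  have hd0z : d0 ≠ z := fun h => hd01 (by rw [hd1', h, hgz])
  have hd01' : d0 ≠ 1 := fun h => hd01 (by rw [hd1', h]; simp)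
  -- the four elements
  have hfour : ∀ d ∈ E ⊓ F, d = 1 ∨ d = z ∨ d = d0 ∨ d = z * d0 := by
    classical
    haveI : Fintype ↥(E ⊓ F) := Fintype.ofFinite _
    intro d hd
    by_contra hno
    push Not at hno
    obtain ⟨n1, n2, n3, n4⟩ := hno
    let T : Finset ↥(E ⊓ F) := {1, ⟨z, hzD⟩, ⟨d0, hd0⟩, ⟨z * d0, mul_mem hzD hd0⟩, ⟨d, hd⟩}
    have hc : T.card ≤ 4 := by rw [← h4, Nat.card_eq_fintype_card]; exact Finset.card_le_univ T
    have : T.card = 5 := by
      simp only [T]
      rw [Finset.card_insert_of_notMem, Finset.card_insert_of_notMem, Finset.card_insert_of_notMem,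
        Finset.card_insert_of_notMem, Finset.card_singleton]
      · simp only [Finset.mem_singleton, Subtype.ext_iff]; exact fun h => n4 h.symm
      · simp only [Finset.mem_insert, Finset.mem_singleton, Subtype.ext_iff, not_or]
        exact ⟨fun h => hz1 (mul_eq_right.mp h.symm), fun h => n3 h.symm⟩
      · simp only [Finset.mem_insert, Finset.mem_singleton, Subtype.ext_iff, not_or]
        exact ⟨fun h => hd0z h.symm, fun h => hd01' (left_eq_mul.mp h), fun h => n2 h.symm⟩
      · simp only [Finset.mem_insert, Finset.mem_singleton, Subtype.ext_iff, not_or, OneMemClass.coe_one]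
        refine ⟨fun h => hz1 h.symm, fun h => hd01' h.symm, fun h => hd0z ?_, fun h => n1 h.symm⟩
        calc d0 = z⁻¹ * (z * d0) := by group
          _ = z := by rw [← h, mul_one, zi]
    omega
  -- elements of H fix the four
  have hHfix : ∀ h ∈ H, ∀ d ∈ E ⊓ F, h * d * h⁻¹ = d := by
    intro h hh
    have hz' : h * z * h⁻¹ = z := by
      obtain ⟨x, hx, hxe⟩ : ∃ x ∈ E ⊓ F, h * a * h⁻¹ = a * x :=
        ⟨a⁻¹ * (h * a * h⁻¹), hcos _ (s.En h hh a haE) (fun hm => haF (by
          have := s.Fn h⁻¹ (inv_mem hh) _ hm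
          rwa [show h⁻¹ * (h * a * h⁻¹) * h⁻¹⁻¹ = a by group] at this)), by group⟩
      obtain ⟨y, hy, hye⟩ : ∃ y ∈ E ⊓ F, h * b * h⁻¹ = b * y :=
        ⟨b⁻¹ * (h * b * h⁻¹), hcosF _ (s.Fn h hh b hbF) (fun hm => hbE (by
          have := s.En h⁻¹ (inv_mem hh) _ hm
          rwa [show h⁻¹ * (h * b * h⁻¹) * h⁻¹⁻¹ = b by group] at this)), by group⟩
      calc h * z * h⁻¹ = (h * a * h⁻¹) * (h * b * h⁻¹) * (h * a * h⁻¹)⁻¹ * (h * b * h⁻¹)⁻¹ := by
            rw [hz]; group
        _ = a * (x * b) * (y * x⁻¹) * a⁻¹ * y⁻¹ * b⁻¹ := by rw [hxe, hye]; group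
        _ = a * b * (x * x⁻¹ * y) * a⁻¹ * y⁻¹ * b⁻¹ := by
            rw [(dB x hx).eq, (dd y hy _ (inv_mem hx)).eq]; group
        _ = a * b * (y * a⁻¹) * y⁻¹ * b⁻¹ := by group
        _ = z := by rw [((dA y hy).inv_right).eq, hz]; group
    have hd : h * d0 * h⁻¹ = d0 := by
      rcases hfour _ (Subgroup.Normal.conj_mem s.inf_normal _ hd0 h) with e | e | e | e
      · exact absurd (show d0 = 1 by
          calc d0 = h⁻¹ * (h * d0 * h⁻¹) * h := by group
            _ = 1 := by rw [e]; group) hd01'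
      · exact absurd (show d0 = z by
          calc d0 = h⁻¹ * (h * d0 * h⁻¹) * h := by group
            _ = h⁻¹ * (h * z * h⁻¹) * h := by rw [e, hz']
            _ = z := by group) hd0z
      · exact e
      · -- an element outside fixing the intersection
        exfalso
        have hd1z : d1 = z * d0 := by
          rcases hfour _ hd1 with e' | e' | e' | e'
          · exact absurd (show d0 = 1 by
              calc d0 = g⁻¹ * (g * d0 * g⁻¹) * g := by group
                _ = 1 := by rw [← hd1', e']; group) hd01'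
          · exact absurd (show d0 = z by
              calc d0 = g⁻¹ * (g * d0 * g⁻¹) * g := by group
                _ = g⁻¹ * (g * z * g⁻¹) * g := by rw [← hd1', e', hgz]
                _ = z := by group) hd0z
          · exact absurd e' hd01
          · exact e'
        have hp : h⁻¹ * g ∉ H := fun hm => s.out (by
          have := mul_mem hh hm
          rwa [mul_inv_cancel_left] at this)
        have s' : Swap E F H (h⁻¹ * g) :=
          { s with out := hp, gE := fun x hx => s.mem_outside hp hx, gF := fun x hx => s.mem_outside' hp hx }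
        obtain ⟨-, -, -, -, -, -, -, d, hd, -, hne⟩ := s'.frame h4e h4 hnc
        apply hne
        have hzf : h⁻¹ * g * z * (h⁻¹ * g)⁻¹ = z := by
          calc h⁻¹ * g * z * (h⁻¹ * g)⁻¹ = h⁻¹ * (g * z * g⁻¹) * h := by group
            _ = h⁻¹ * (h * z * h⁻¹) * h := by rw [hgz, hz']
            _ = z := by group
        have h0f : h⁻¹ * g * d0 * (h⁻¹ * g)⁻¹ = d0 := by
          calc h⁻¹ * g * d0 * (h⁻¹ * g)⁻¹ = h⁻¹ * (g * d0 * g⁻¹) * h := by group
            _ = h⁻¹ * (h * d0 * h⁻¹) * h := by rw [← hd1', hd1z, e]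
            _ = d0 := by group
        rcases hfour d hd with rfl | rfl | rfl | rfl
        · group
        · exact hzf
        · exact h0f
        · calc h⁻¹ * g * (z * d0) * (h⁻¹ * g)⁻¹
              = (h⁻¹ * g * z * (h⁻¹ * g)⁻¹) * (h⁻¹ * g * d0 * (h⁻¹ * g)⁻¹) := by group
            _ = z * d0 := by rw [hzf, h0f]
    intro d hdm
    rcases hfour d hdm with rfl | rfl | rfl | rfl
    · group
    · exact hz'
    · exact hd
    · calc h * (z * d0) * h⁻¹ = (h * z * h⁻¹) * (h * d0 * h⁻¹) := by group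
        _ = z * d0 := by rw [hz', hd]
  have hwD : ∀ d ∈ E ⊓ F, Commute w d := fun d hd => by
    show w * d = d * w
    calc w * d = w * d * w⁻¹ * w := by group
      _ = d * w := by rw [hHfix w hwH d hd]
  have hwnD : w ∉ E ⊓ F := fun h => hd01' (by
    have e : w * a * w⁻¹ = a := by rw [(dA w h).eq, mul_inv_cancel_right]
    rw [hwa] at e
    exact mul_eq_left.mp e)
  -- translations by elements of H
  have htr : ∀ h ∈ H, ∃ x ∈ E ⊓ F, h * a * h⁻¹ = a * x := fun h hh =>
    ⟨a⁻¹ * (h * a * h⁻¹), hcos _ (s.En h hh a haE) (fun hm => haF (by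
      have := s.Fn h⁻¹ (inv_mem hh) _ hm
      rwa [show h⁻¹ * (h * a * h⁻¹) * h⁻¹⁻¹ = a by group] at this)), by group⟩
  have htrb : ∀ h ∈ H, ∃ x ∈ E ⊓ F, h * b * h⁻¹ = b * x := fun h hh =>
    ⟨b⁻¹ * (h * b * h⁻¹), hcosF _ (s.Fn h hh b hbF) (fun hm => hbE (by
      have := s.En h⁻¹ (inv_mem hh) _ hm
      rwa [show h⁻¹ * (h * b * h⁻¹) * h⁻¹⁻¹ = b by group] at this)), by group⟩
  have hab_fix : ∀ h ∈ H, (a * b)⁻¹ * (h * (a * b) * h⁻¹) ∈ E ⊓ F := fun h hh => by
    obtain ⟨x, hx, hxe⟩ := htr h hh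
    obtain ⟨y, hy, hye⟩ := htrb h hh
    have : h * (a * b) * h⁻¹ = (a * b) * (x * y) := by
      calc h * (a * b) * h⁻¹ = (h * a * h⁻¹) * (h * b * h⁻¹) := by group
        _ = a * (x * b) * y := by rw [hxe, hye]; group
        _ = (a * b) * (x * y) := by rw [(dB x hx).eq]; group
    rw [this, inv_mul_cancel_left]; exact mul_mem hx hy
  -- the kernel
  set C := Subgroup.centralizer ((↑E : Set P) ∪ ↑F) with hC
  have hCn : C.Normal := by
    refine ⟨fun x hx p => ?_⟩
    rw [hC, Subgroup.mem_centralizer_iff] at hx ⊢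
    intro y hy
    have hy' : p⁻¹ * y * p⁻¹⁻¹ ∈ (↑E : Set P) ∪ ↑F := by
      by_cases hp : p ∈ H
      · rcases hy with hy | hy
        · exact Or.inl (s.En _ (inv_mem hp) y hy)
        · exact Or.inr (s.Fn _ (inv_mem hp) y hy)
      · have hp' : p⁻¹ ∉ H := fun h => hp ((Subgroup.inv_mem_iff _).mp h)
        rcases hy with hy | hy
        · exact Or.inr (s.mem_outside hp' hy)
        · exact Or.inl (s.mem_outside' hp' hy)
    have e := hx _ hy'
    calc y * (p * x * p⁻¹) = p * ((p⁻¹ * y * p⁻¹⁻¹) * x) * p⁻¹ := by group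
      _ = p * (x * (p⁻¹ * y * p⁻¹⁻¹)) * p⁻¹ := by rw [e]
      _ = p * x * p⁻¹ * y := by group
  have hDC : E ⊓ F ≤ C := fun d hd => Subgroup.mem_centralizer_iff.mpr (fun y hy => by
    rcases hy with hy | hy
    · exact elem_comm s.E2 hy hd.1
    · exact elem_comm s.F2 hy hd.2)
  rcases eq_or_lt_of_le hDC with hCD | hCD
  · -- the square itself
    refine goal_of_mem hD2 (by omega) hw2 hwnD hwD (fun p => ?_)
    have base : ∀ h ∈ H, w⁻¹ * (h * w * h⁻¹) ∈ E ⊓ F := fun h hh => by
      obtain ⟨x, hx, hxe⟩ := htr h hh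
      obtain ⟨x', hx', hxe'⟩ := htrb h hh
      have hmem : h⁻¹ * w⁻¹ * h * w ∈ C := by
        rw [hC, Subgroup.mem_centralizer_iff]
        have ca : Commute (h⁻¹ * w⁻¹ * h * w) a := comm_fix hxe hwa (hHfix h hh _ hd0) (hHfix w hwH _ hx)
          (dd _ hx _ hd0)
        have cb : Commute (h⁻¹ * w⁻¹ * h * w) b := comm_fix hxe' hwb (hHfix h hh _ hd1) (hHfix w hwH _ hx')
          (dd _ hx' _ hd1)
        have cd : ∀ d ∈ E ⊓ F, Commute (h⁻¹ * w⁻¹ * h * w) d := fun d hd => by
          have c1 : Commute h d := by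
            show h * d = d * h
            calc h * d = h * d * h⁻¹ * h := by group
              _ = _ := by rw [hHfix h hh d hd]
          have c2 := hwD d hd
          exact ((c1.inv_left.mul_left c2.inv_left).mul_left c1).mul_left c2
        rintro y (hy | hy)
        · by_cases hyF : y ∈ F
          · exact (cd y ⟨hy, hyF⟩).symm
          · have := ca.mul_right (cd _ (hcos y hy hyF))
            rw [mul_inv_cancel_left] at this
            exact this.symm
        · by_cases hyE : y ∈ E
          · exact (cd y ⟨hyE, hy⟩).symm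
          · have := cb.mul_right (cd _ (hcosF y hy hyE))
            rw [mul_inv_cancel_left] at this
            exact this.symm
      rw [← hCD] at hmem
      have := Subgroup.Normal.conj_mem s.inf_normal _ hmem h
      rwa [show h * (h⁻¹ * w⁻¹ * h * w) * h⁻¹ = w⁻¹ * (h * w * h⁻¹) by group] at this
    rcases s.decomp p with hp | ⟨h, hh, rfl⟩
    · exact base p hp
    · rw [show h * g * w * (h * g)⁻¹ = h * w * h⁻¹ by rw [hw]; group]
      exact base h hh
  · -- a larger kernel
    obtain ⟨M, hMn, hDM, hMC, hM⟩ := PGroupRankTwo.exists_normal_step (p := 2) (M := E ⊓ F) (N := C) hP hCD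
    haveI := hMn
    have hlt : E ⊓ F < M := lt_of_le_of_ne hDM (fun h => by rw [← h, h4] at hM; omega)
    obtain ⟨c, hcM, hcD⟩ := SetLike.exists_of_lt hlt
    have hstep := fun p : P => PGroupRankTwo.step_central (p := 2) hP hDM hM p hcM
    have hcC := Subgroup.mem_centralizer_iff.mp (hMC hcM)
    have cc : ∀ d ∈ E ⊓ F, Commute c d := fun d hd => (hcC d (Or.inl hd.1)).symm
    have cab : Commute c (a * b) :=
      Commute.mul_right (hcC a (Or.inl haE)).symm (hcC b (Or.inr hbF)).symm
    have hc2D : c * c ∈ E ⊓ F := by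
      have hidx : ((E ⊓ F).subgroupOf M).index = 2 := by
        have h1 := Subgroup.card_mul_index ((E ⊓ F).subgroupOf M)
        rw [Nat.card_congr (Subgroup.subgroupOfEquivOfLe hDM).toEquiv, hM] at h1
        exact Nat.eq_of_mul_eq_mul_left Nat.card_pos h1
      have h2 : (⟨c, hcM⟩ * ⟨c, hcM⟩ : ↥M) ∈ (E ⊓ F).subgroupOf M :=
        (Subgroup.mul_mem_iff_of_index_two hidx).mpr Iff.rfl
      exact Subgroup.mem_subgroupOf.mp h2
    by_cases hc1 : c * c = 1
    · exact goal_of_mem hD2 (by omega) hc1 hcD cc hstep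
    · have hcz : c * c = z := by
        have hgc : g * (c * c) * g⁻¹ = c * c := by
          have hδ := hstep g
          calc g * (c * c) * g⁻¹ = c * (c⁻¹ * (g * c * g⁻¹)) * c * (c⁻¹ * (g * c * g⁻¹)) := by group
            _ = c * c * ((c⁻¹ * (g * c * g⁻¹)) * (c⁻¹ * (g * c * g⁻¹))) := by
                rw [mul_assoc c (c⁻¹ * (g * c * g⁻¹)) c, ← (cc _ hδ).eq]; group
            _ = c * c := by rw [hD2 _ hδ, mul_one]
        rcases hfour _ hc2D with h | h | h | h
        · exact absurd h hc1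
        · exact h
        · rw [h] at hgc
          exact absurd hgc hd01
        · exfalso
          rw [h] at hgc
          refine hd01 (mul_left_cancel (a := z) ?_)
          calc z * d1 = (g * z * g⁻¹) * (g * d0 * g⁻¹) := by rw [hgz, hd1']
            _ = g * (z * d0) * g⁻¹ := by group
            _ = z * d0 := hgc
      refine goal_of_mem hD2 (by omega) (v := c * (a * b)) ?_ ?_ ?_ (fun p => ?_)
      · calc c * (a * b) * (c * (a * b)) = c * ((a * b) * c) * (a * b) := by group
          _ = (c * c) * ((a * b) * (a * b)) := by rw [← cab.eq]; group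
          _ = z * (a * b * a⁻¹ * b⁻¹) := by rw [hcz, ai, bi]; group
          _ = 1 := by rw [← hz, hD2 z hzD]
      · intro h
        refine hab ?_
        have habC : a * b ∈ C := by
          rw [show a * b = c⁻¹ * (c * (a * b)) by group]
          exact mul_mem (inv_mem (hMC hcM)) (hDC h)
        have e : a * (a * b) = (a * b) * a := Subgroup.mem_centralizer_iff.mp habC a (Or.inl haE)
        exact mul_left_cancel (a := a) (by rw [e, mul_assoc])
      · exact fun d hd => (cc d hd).mul_left ((dA d hd).symm.mul_left (dB d hd).symm)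
      · have comb : ∀ p : P, (a * b)⁻¹ * (p * (a * b) * p⁻¹) ∈ E ⊓ F →
            (c * (a * b))⁻¹ * (p * (c * (a * b)) * p⁻¹) ∈ E ⊓ F := fun p hp => by
          have hδ := hstep p
          have e : (c * (a * b))⁻¹ * (p * (c * (a * b)) * p⁻¹) =
              ((a * b)⁻¹ * (c⁻¹ * (p * c * p⁻¹)) * (a * b)) * ((a * b)⁻¹ * (p * (a * b) * p⁻¹)) := by group
          have e2 : (a * b)⁻¹ * (c⁻¹ * (p * c * p⁻¹)) * (a * b) = c⁻¹ * (p * c * p⁻¹) := by
            rw [mul_assoc, ((dA _ hδ).mul_right (dB _ hδ)).eq, inv_mul_cancel_left]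
          rw [e, e2]; exact mul_mem hδ hp
        have gab : (a * b)⁻¹ * (g * (a * b) * g⁻¹) ∈ E ⊓ F := by
          have : g * (a * b) * g⁻¹ = (a * b) * (z * d0) := by
            calc g * (a * b) * g⁻¹ = b * (a * d0) := by rw [← hgb, hb]; group
              _ = z * (a * b) * d0 := by rw [← mul_assoc, hbaz]
              _ = (a * b) * (z * d0) := by rw [((dA _ hzD).mul_right (dB _ hzD)).eq]; group
          rw [this, inv_mul_cancel_left]; exact mul_mem hzD hd0
        rcases s.decomp p with hp | ⟨h, hh, rfl⟩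
        · exact comb p (hab_fix p hp)
        · refine comb _ ?_
          have e : (a * b)⁻¹ * (h * g * (a * b) * (h * g)⁻¹) =
              ((a * b)⁻¹ * (h * (a * b) * h⁻¹)) * (h * ((a * b)⁻¹ * (g * (a * b) * g⁻¹)) * h⁻¹) := by group
          rw [e]
          exact mul_mem (hab_fix h hh) (Subgroup.Normal.conj_mem s.inf_normal _ gab h)

end Swap

end CfsgLib.SpecSix.Eight

namespace CfsgLib.SpecSix

open Eight

universe u

private theorem normal_eight_aux : ∀ (n : ℕ) (P : Type u) [Group P] [Finite P], Nat.card P = n → IsPGroup 2 P →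
    (∀ g : P, g ^ 4 = 1) → ∀ E : Subgroup P, (∀ v ∈ E, v * v = 1) → 8 ≤ Nat.card E → Goal P := by
  intro n
  induction n using Nat.strong_induction_on with
  | _ n ih =>
    intro P _ _ hn hP h4e E hE h8
    by_cases hEn : E.Normal
    · exact ⟨E, hEn, hE, h8⟩
    obtain ⟨k, hk⟩ := IsPGroup.iff_card.mp hP
    obtain ⟨m, hm⟩ := IsPGroup.iff_card.mp (hP.to_subgroup E)
    have hlt : m < k := by
      by_contra hle
      push Not at hle
      have : E = ⊤ := Subgroup.eq_top_of_le_card E (by rw [hk, hm]; exact Nat.pow_le_pow_right two_pos hle)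
      exact hEn (this ▸ inferInstance)
    obtain ⟨j, rfl⟩ : ∃ j, k = j + 1 := ⟨k - 1, by omega⟩
    obtain ⟨H, hH, hEH⟩ := Sylow.exists_subgroup_card_pow_prime_le (n := m) (m := j) 2
      (hk ▸ pow_dvd_pow 2 (Nat.le_succ j)) E hm (by omega)
    have hidx : H.index = 2 := by
      have := Subgroup.card_mul_index H
      rw [hH, hk, pow_succ] at this
      exact Nat.eq_of_mul_eq_mul_left (pow_pos two_pos j) this
    haveI hHn : H.Normal := Subgroup.normal_of_index_eq_two hidx
    have hcard : Nat.card H < n := by rw [hH, ← hn, hk]; exact Nat.pow_lt_pow_right (by norm_num) (Nat.lt_succ_self j)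
    obtain ⟨F0, hF0n, hF0, hF08⟩ := ih _ hcard H rfl (hP.to_subgroup H) (fun g => Subtype.ext (h4e g))
      (E.subgroupOf H) (fun v hv => Subtype.ext (hE v hv))
      (by rwa [Nat.card_congr (Subgroup.subgroupOfEquivOfLe hEH).toEquiv])
    haveI := hF0n
    obtain ⟨F1, hF1n, hF1le, hF1c⟩ := PGroupRankTwo.exists_normal_card (p := 2) (hP.to_subgroup H) F0 3
      (by norm_num; omega)
    set A := F1.map H.subtype with hA
    have hA8 : Nat.card A = 8 := by
      rw [hA, Subgroup.card_map_of_injective H.subtype_injective, hF1c]; norm_num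
    have hA2 : ∀ v ∈ A, v * v = 1 := by
      rintro v ⟨x, hx, rfl⟩
      exact congrArg Subtype.val (hF0 x (hF1le hx))
    have hAH : A ≤ H := Subgroup.map_subtype_le F1
    have hAn : ∀ h ∈ H, ∀ e ∈ A, h * e * h⁻¹ ∈ A := by
      rintro h hh _ ⟨x, hx, rfl⟩
      exact ⟨⟨h, hh⟩ * x * ⟨h, hh⟩⁻¹, hF1n.conj_mem x hx _, rfl⟩
    obtain ⟨g, hg⟩ : ∃ g, g ∉ H := by
      by_contra hall
      push Not at hall
      rw [Subgroup.index_eq_one.mpr (eq_top_iff.mpr fun x _ => hall x)] at hidx
      omega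
    have hgH : ∀ h ∈ H, g⁻¹ * h * g ∈ H := fun h hh => by
      simpa using hHn.conj_mem h hh g⁻¹
    set B := A.map (MulAut.conj g).toMonoidHom with hB
    have memB : ∀ x, x ∈ B ↔ g⁻¹ * x * g ∈ A := fun x => by
      constructor
      · rintro ⟨y, hy, rfl⟩
        simpa [MulAut.conj_apply, mul_assoc] using hy
      · intro hx
        exact ⟨_, hx, by simp [MulAut.conj_apply, mul_assoc]⟩
    have s : Swap A B H g :=
      { idx := hidx
        out := hg
        EH := hAH
        FH := fun x hx => by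
          have := hHn.conj_mem _ (hAH ((memB x).mp hx)) g
          rwa [show g * (g⁻¹ * x * g) * g⁻¹ = x by group] at this
        En := hAn
        Fn := fun h hh f hf => (memB _).mpr (by
          have := hAn _ (hgH h hh) _ ((memB f).mp hf)
          rwa [show g⁻¹ * h * g * (g⁻¹ * f * g) * (g⁻¹ * h * g)⁻¹ = g⁻¹ * (h * f * h⁻¹) * g by group] at this)
        gE := fun x hx => (memB _).mpr (by rwa [show g⁻¹ * (g * x * g⁻¹) * g = x by group])
        gF := fun x hx => by
          have hgg : g * g ∈ H := by rw [Subgroup.mul_mem_iff_of_index_two hidx]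
          have := hAn _ hgg _ ((memB x).mp hx)
          rwa [show g * g * (g⁻¹ * x * g) * (g * g)⁻¹ = g * x * g⁻¹ by group] at this
        E2 := hA2
        F2 := fun x hx => by
          have := hA2 _ ((memB x).mp hx)
          calc x * x = g * ((g⁻¹ * x * g) * (g⁻¹ * x * g)) * g⁻¹ := by group
            _ = 1 := by rw [this]; group
        E8 := hA8
        F8 := by rw [hB, Subgroup.card_map_of_injective (MulAut.conj g).injective, hA8] }
    by_cases hc : ∀ e ∈ A, ∀ f ∈ B, Commute e f
    · exact s.goal_of_commute hc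
    have hd : Nat.card ↥(A ⊓ B) ∣ 2 ^ 3 := by
      have := Subgroup.card_dvd_of_le (inf_le_left : A ⊓ B ≤ A)
      rwa [hA8] at this
    obtain ⟨i, hi, hic⟩ := (Nat.dvd_prime_pow Nat.prime_two).mp hd
    interval_cases i
    · refine absurd (fun e he f hf => ?_) hc
      have h1 := s.comm_mem he hf
      rw [Subgroup.eq_bot_of_card_eq (A ⊓ B) (by rw [hic, pow_zero]), Subgroup.mem_bot] at h1
      show e * f = f * e
      calc e * f = e * f * e⁻¹ * f⁻¹ * (f * e) := by group
        _ = f * e := by rw [h1, one_mul]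
    · exact s.goal_two (by rw [hic]; norm_num)
    · exact s.goal_four h4e (by rw [hic]; norm_num) hP hc
    · exact ⟨A ⊓ B, s.inf_normal, fun v hv => hA2 v (Subgroup.mem_inf.mp hv).1, by rw [hic]; norm_num⟩

/-- A two-group of exponent four with an elementary subgroup of order eight has a normal one. -/
theorem exists_normal_eight {P : Type u} [Group P] [Finite P] (hP : IsPGroup 2 P) (h4 : ∀ g : P, g ^ 4 = 1)
    {E : Subgroup P} (hE : ∀ v ∈ E, v * v = 1) (h8 : 8 ≤ Nat.card E) :
    ∃ F : Subgroup P, F.Normal ∧ (∀ v ∈ F, v * v = 1) ∧ 8 ≤ Nat.card F :=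
  normal_eight_aux _ P rfl hP h4 E hE h8

end CfsgLib.SpecSix
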