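import Cfsg.Agent.Lib.SpecSix.FiveWorld
import Cfsg.Agent.Lib.SpecSix.AmalgamBase

/-!
Element orders at most six, the simple case: every parabolic has top `S₃`.
-/

set_option autoImplicit false
set_option linter.unusedSectionVars false
set_option linter.style.haveILetI false

namespace CfsgLib.SpecSix

open Cfsg
open scoped Pointwise

universe u

variable {G : Type u} [Group G] [Finite G]

/-- If an elementary subgroup of index two is normal in the Sylow subgroup, a core of index two of a parabolic with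
top `S₃` is elementary. -/
theorem Half.elementary {T P Q : Subgroup G} {x : G} (hp : Half T P x) (h6 : Six G) (hQT : Q ≤ T)
    (hnQ : T ≤ Subgroup.normalizer (Q : Set G)) (hsqQ : ∀ v ∈ Q, v * v = 1)
    (hidx : 2 * Nat.card Q = Nat.card T) : ∀ v ∈ pCoreOf 2 P, v * v = 1 := by
  set Q' := pCoreOf 2 P with hQ'
  intro t ht
  by_cases hle : Q' ≤ Q
  · exact hsqQ t (hle ht)
  have hcQ' : 2 * Nat.card Q' = Nat.card T := hp.card_two
  obtain ⟨a, haQ, haQ'⟩ : ∃ a ∈ Q, a ∉ Q' := SetLike.not_le_iff_exists.mp fun hle' =>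
    hle (Subgroup.eq_of_le_of_card_ge hle' (by omega)).ge
  have haT := hQT haQ
  have hcQ : ∀ u ∈ Q, ∀ v ∈ Q, u * v = v * u := fun u hu v hv => by
    haveI := isMulCommutative_of_sq hsqQ
    exact congrArg Subtype.val (IsMulCommutative.is_comm.comm (⟨u, hu⟩ : Q) ⟨v, hv⟩)
  have hx3 : x ^ 3 = 1 := hp.order ▸ pow_orderOf_eq_one x
  have hax : a * x * a⁻¹ * x ∈ Q' := hp.inv a haT haQ'
  set q1 := (a * x * a⁻¹ * x)⁻¹ with hq1d
  have hq1 : q1 ∈ Q' := inv_mem hax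
  have hgq : x * a * x⁻¹ * a⁻¹ = x * x * q1 := by rw [hq1d]; group
  set W0 := Q ⊓ Q' with hW0
  have nQ' : ∀ g ∈ P, ∀ q ∈ Q', g * q * g⁻¹ ∈ Q' := fun g hg q hq => hp.conjQ hg hq
  have hW0n : ∀ g ∈ T, ∀ w ∈ W0, g * w * g⁻¹ ∈ W0 := fun g hg w hw =>
    Subgroup.mem_inf.mpr ⟨(Subgroup.mem_normalizer_iff.mp (hnQ hg) w).mp hw.1, nQ' g (hp.le hg) w hw.2⟩
  have hpair : ∀ u ∈ Q', ∀ v ∈ Q', u ∉ Q → v ∉ Q → u⁻¹ * v ∈ W0 := by
    intro u hu v hv huQ hvQ
    refine Subgroup.mem_inf.mpr ⟨?_, mul_mem (inv_mem hu) hv⟩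
    haveI : (Q.subgroupOf T).Normal := (Subgroup.normal_subgroupOf_iff_le_normalizer hQT).mpr hnQ
    have hi2 : (Q.subgroupOf T).index = 2 := by
      have := CfsgLib.Products.card_mul_relIndex_of_le hQT
      rw [← hidx, mul_comm 2] at this
      exact Nat.eq_of_mul_eq_mul_left Nat.card_pos this
    have := (Subgroup.mul_mem_iff_of_index_two hi2 (a := (⟨u, hp.qle hu⟩ : T)⁻¹)
      (b := ⟨v, hp.qle hv⟩)).mpr (by simp [Subgroup.mem_subgroupOf, huQ, hvQ])
    exact this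
  -- the element of order three moves the intersection
  obtain ⟨w', hw', hw'0⟩ : ∃ w ∈ W0, x * w * x⁻¹ ∉ W0 := by
    by_contra hno
    push Not at hno
    have hxW2 : ∀ w ∈ W0, x⁻¹ * w * x ∈ W0 := fun w hw => by
      have e1 : x⁻¹ * w * x = x * (x * w * x⁻¹) * x⁻¹ := by
        calc x⁻¹ * w * x = x⁻¹ * (x ^ 3 * w * (x ^ 3)⁻¹) * x := by rw [hx3]; group
          _ = _ := by simp only [pow_succ, pow_zero, one_mul]; group
      rw [e1]; exact hno _ (hno w hw)
    have hg : ∀ w ∈ W0, (x * x)⁻¹ * w * (x * x) = q1 * w * q1⁻¹ := fun w hw => by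
      have c1 : (x * a * x⁻¹ * a⁻¹) * w * (x * a * x⁻¹ * a⁻¹)⁻¹ = w := by
        have c : a⁻¹ * w * a = w := by rw [mul_assoc, hcQ w hw.1 a haQ, inv_mul_cancel_left]
        calc (x * a * x⁻¹ * a⁻¹) * w * (x * a * x⁻¹ * a⁻¹)⁻¹
            = x * (a * (x⁻¹ * (a⁻¹ * w * a) * x) * a⁻¹) * x⁻¹ := by group
          _ = x * (x⁻¹ * w * x) * x⁻¹ := by rw [c, hcQ a haQ _ (hxW2 w hw).1, mul_inv_cancel_right]
          _ = w := by group
      rw [hgq] at c1
      calc (x * x)⁻¹ * w * (x * x) = (x * x)⁻¹ * ((x * x * q1) * w * (x * x * q1)⁻¹) * (x * x) := by rw [c1]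
        _ = q1 * w * q1⁻¹ := by group
    have hit : ∀ n : ℕ, ∀ w ∈ W0, ((x * x)⁻¹) ^ n * w * (((x * x)⁻¹) ^ n)⁻¹ = q1 ^ n * w * (q1 ^ n)⁻¹ := by
      intro n
      induction n with
      | zero => intro w _; simp
      | succ n ih =>
        intro w hw
        have hwn : q1 ^ n * w * (q1 ^ n)⁻¹ ∈ W0 := hW0n _ (pow_mem (hp.qle hq1) n) w hw
        calc ((x * x)⁻¹) ^ (n + 1) * w * (((x * x)⁻¹) ^ (n + 1))⁻¹
            = (x * x)⁻¹ * (((x * x)⁻¹) ^ n * w * (((x * x)⁻¹) ^ n)⁻¹) * (x * x) := by rw [pow_succ']; group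
          _ = q1 * (q1 ^ n * w * (q1 ^ n)⁻¹) * q1⁻¹ := by rw [ih w hw, hg _ hwn]
          _ = q1 ^ (n + 1) * w * (q1 ^ (n + 1))⁻¹ := by rw [pow_succ']; group
    have hfix : ∀ w ∈ W0, x * w * x⁻¹ = w := by
      intro w hw
      have e4 := hit 4 w hw
      have hx8 : ((x * x)⁻¹) ^ 4 = x := by
        rw [inv_pow, ← pow_two, ← pow_mul]
        refine inv_eq_of_mul_eq_one_left ?_
        rw [← pow_succ', show 2 * 4 + 1 = 3 * 3 by norm_num, pow_mul, hx3, one_pow]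
      rwa [hx8, h6.pgroup_pow_four (core_isPGroup P) hq1, one_mul, inv_one, mul_one] at e4
    refine hp.notin (hp.qle (hp.frame.cent fun u hu => ?_))
    set w := x * u * x⁻¹ * u⁻¹ with hw
    have hwW : w ∈ W0 := by
      by_cases huQ : u ∈ Q
      · exact mul_mem (hno u (Subgroup.mem_inf.mpr ⟨huQ, hu⟩)) (inv_mem (Subgroup.mem_inf.mpr ⟨huQ, hu⟩))
      have hxu : x * u * x⁻¹ ∉ Q := fun hm => huQ (by
        have := (hxW2 _ (Subgroup.mem_inf.mpr ⟨hm, nQ' x hp.mem u hu⟩)).1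
        rwa [show x⁻¹ * (x * u * x⁻¹) * x = u by group] at this)
      have := hpair _ (inv_mem (nQ' x hp.mem u hu)) _ (inv_mem hu) (fun hm => hxu (by simpa using inv_mem hm))
        (fun hm => huQ (by simpa using inv_mem hm))
      rwa [inv_inv] at this
    have h3 : w * (w * (w * u)) = u := by
      calc w * (w * (w * u)) = (x * (x * w * x⁻¹) * x⁻¹) * (x * w * x⁻¹) * w * u := by
            rw [hfix w hwW, hfix w hwW]; simp only [mul_assoc]
        _ = x ^ 3 * u * (x ^ 3)⁻¹ := by rw [hw]; simp only [pow_succ, pow_zero, one_mul]; group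
        _ = u := by rw [hx3]; group
    have hw1 : w = 1 := by
      rwa [← mul_assoc w w, hsqQ w hwW.1, one_mul, mul_eq_right] at h3
    rw [hw, mul_inv_eq_one, mul_inv_eq_iff_eq_mul] at hw1
    exact hw1.symm
  -- the translate of the intersection
  set W1 := W0.map (MulAut.conj x).toMonoidHom with hW1
  have memW1 : ∀ v, v ∈ W1 ↔ ∃ w ∈ W0, x * w * x⁻¹ = v := fun v => Iff.rfl
  have hW1Q' : W1 ≤ Q' := by
    rintro _ ⟨w, hw, rfl⟩; exact nQ' x hp.mem w hw.2
  have hv'Q : x * w' * x⁻¹ ∉ Q := fun hm => hw'0 (Subgroup.mem_inf.mpr ⟨hm, nQ' x hp.mem w' hw'.2⟩)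
  have hcover : ∀ u ∈ Q', ∃ w ∈ W0, ∃ v ∈ W1, u = w * v := by
    intro u hu
    by_cases huQ : u ∈ Q
    · exact ⟨u, Subgroup.mem_inf.mpr ⟨huQ, hu⟩, 1, one_mem _, (mul_one u).symm⟩
    refine ⟨u * (x * w' * x⁻¹)⁻¹, ?_, x * w' * x⁻¹, (memW1 _).mpr ⟨w', hw', rfl⟩, by group⟩
    have := hpair _ (inv_mem hu) _ (inv_mem (nQ' x hp.mem w' hw'.2)) (fun hm => huQ (by simpa using inv_mem hm))
      (fun hm => hv'Q (by simpa using inv_mem hm))
    rwa [inv_inv] at this
  set D0 := W0 ⊓ W1 with hD0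
  have hsqW1 : ∀ v ∈ W1, v * v = 1 := fun v hv => by
    obtain ⟨w, hw, rfl⟩ := (memW1 v).mp hv
    calc x * w * x⁻¹ * (x * w * x⁻¹) = x * (w * w) * x⁻¹ := by group
      _ = 1 := by rw [hsqQ w hw.1]; group
  have hDc : ∀ d ∈ D0, ∀ u ∈ Q', d * u = u * d := by
    intro d hd u hu
    obtain ⟨w, hw, v, hv, rfl⟩ := hcover u hu
    have hc1 : d * v = v * d := by
      haveI := isMulCommutative_of_sq hsqW1
      exact congrArg Subtype.val (IsMulCommutative.is_comm.comm (⟨d, hd.2⟩ : W1) ⟨v, hv⟩)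
    rw [← mul_assoc, hcQ d hd.1.1 w hw.1, mul_assoc, hc1, mul_assoc]
  have hxD : ∀ d ∈ D0, x * d * x⁻¹ = d := by
    intro d hd
    obtain ⟨w, hw, hwd⟩ := (memW1 d).mp hd.2
    have ca : a * d * a⁻¹ = d := by rw [hcQ a haQ d hd.1.1, mul_inv_cancel_right]
    have c1 : (x * a * x⁻¹) * d * (x * a * x⁻¹)⁻¹ = d := by
      rw [← hwd]
      calc x * a * x⁻¹ * (x * w * x⁻¹) * (x * a * x⁻¹)⁻¹ = x * (a * w * a⁻¹) * x⁻¹ := by group
        _ = x * w * x⁻¹ := by rw [hcQ a haQ w hw.1, mul_inv_cancel_right]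
    have c2 : (x * x * q1) * d * (x * x * q1)⁻¹ = d := by
      rw [← hgq]
      calc x * a * x⁻¹ * a⁻¹ * d * (x * a * x⁻¹ * a⁻¹)⁻¹
          = (x * a * x⁻¹) * (a⁻¹ * (a * d * a⁻¹) * a) * (x * a * x⁻¹)⁻¹ := by rw [ca]; group
        _ = (x * a * x⁻¹) * d * (x * a * x⁻¹)⁻¹ := by group
        _ = d := c1
    have c3 : (x * x) * d * (x * x)⁻¹ = d := by
      calc (x * x) * d * (x * x)⁻¹ = (x * x) * (d * q1 * q1⁻¹) * (x * x)⁻¹ := by rw [mul_inv_cancel_right]
        _ = (x * x * q1) * d * (x * x * q1)⁻¹ := by rw [hDc d hd q1 hq1]; group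
        _ = d := c2
    calc x * d * x⁻¹ = (x ^ 3 * x) * d * (x ^ 3 * x)⁻¹ := by rw [hx3, one_mul]
      _ = (x * x) * ((x * x) * d * (x * x)⁻¹) * (x * x)⁻¹ := by
          simp only [pow_succ, pow_zero, one_mul]; group
      _ = d := by rw [c3, c3]
  -- one of the three conjugates lies in the elementary subgroup, or the element is centralised
  have conjsq : ∀ u : G, x * u * x⁻¹ * (x * u * x⁻¹) = 1 → u * u = 1 := fun u hu => by
    calc u * u = x⁻¹ * (x * u * x⁻¹ * (x * u * x⁻¹)) * x := by group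
      _ = 1 := by rw [hu]; group
  by_cases h0 : t ∈ Q
  · exact hsqQ t h0
  by_cases h1 : x * t * x⁻¹ ∈ Q
  · exact conjsq t (hsqQ _ h1)
  by_cases h2 : x * (x * t * x⁻¹) * x⁻¹ ∈ Q
  · exact conjsq t (conjsq _ (hsqQ _ h2))
  set d := t⁻¹ * (x * t * x⁻¹) with hd
  have hdW : d ∈ W0 := hpair t ht _ (nQ' x hp.mem t ht) h0 h1
  have hxd : x * d * x⁻¹ ∈ W0 := by
    have := hpair _ (nQ' x hp.mem t ht) _ (nQ' x hp.mem _ (nQ' x hp.mem t ht)) h1 h2
    rwa [show (x * t * x⁻¹)⁻¹ * (x * (x * t * x⁻¹) * x⁻¹) = x * d * x⁻¹ by rw [hd]; group] at this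
  have hD : x * d * x⁻¹ ∈ D0 := Subgroup.mem_inf.mpr ⟨hxd, (memW1 _).mpr ⟨d, hdW, rfl⟩⟩
  have hfix := hxD _ hD
  rw [mul_left_inj, mul_right_inj] at hfix
  have hd3 : d * d * d = 1 := by
    have e : t * (d * (x * d * x⁻¹) * (x * (x * d * x⁻¹) * x⁻¹)) = t := by
      calc t * (d * (x * d * x⁻¹) * (x * (x * d * x⁻¹) * x⁻¹)) = x ^ 3 * t * (x ^ 3)⁻¹ := by
            rw [hd]; simp only [pow_succ, pow_zero, one_mul]; group
        _ = t := by rw [hx3]; group
    rw [hfix, hfix] at e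
    exact mul_eq_left.mp e
  have hd1 : d = 1 := by
    rwa [hsqQ d hdW.1, one_mul] at hd3
  rw [hd, inv_mul_eq_one] at hd1
  obtain ⟨k, hk⟩ := core_isPGroup P ⟨t, ht⟩
  exact h6.commute_three hp.order (mul_inv_eq_iff_eq_mul.mp hd1.symm) (congrArg Subtype.val hk)

/-- **Every parabolic has top `S₃`.** -/
theorem Hyp.index_six (H : Hyp G) (S : Sylow 2 G) {P : Subgroup G} (hP : Parab (S : Subgroup G) P) :
    (pCoreOf 2 P).relIndex P = 6 := by
  haveI := H.nontrivial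
  rcases H.parab_cases hP with h | h | ⟨φ, h⟩
  · exact h
  · exfalso
    obtain ⟨h2, x, hxP, t, ht, hxo, -, -, -, hinv, -⟩ := hP.di H.six (p := 5) (Or.inr rfl) h
    set Q := pCoreOf 2 P with hQ
    obtain ⟨hsq, -⟩ := hP.toFrame.five_inverted H.six ht hxP hxo hinv
    rw [← hQ] at hsq
    have hbig : ¬ Nat.card Q ≤ 4 := fun hle =>
      hP.toFrame.core_ne_bot (H.six.five_small (core_isPGroup P) hxo (le_normalizer_core P hxP) hle)
    have hcQ : 2 * Nat.card Q = Nat.card (S : Subgroup G) := by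
      rw [← hP.toFrame.card_eq, ← hQ, h2, mul_comm]
    have key : ∀ P' : Subgroup G, Parab (S : Subgroup G) P' → pCoreOf 2 P' = Q := by
      intro P' hP'
      set Q' := pCoreOf 2 P' with hQ'
      obtain ⟨hel, hidx⟩ : (∀ v ∈ Q', v * v = 1) ∧ Q'.relIndex (S : Subgroup G) = 2 := by
        rcases H.parab_cases hP' with h' | h' | ⟨φ', h'⟩
        · obtain ⟨x', hx'⟩ := Half.of_frame H.six hP'.toFrame h'
          exact ⟨hx'.elementary H.six hP.core_le_T (hP.le.trans (le_normalizer_core P)) hsq hcQ, hx'.idx⟩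
        · obtain ⟨h2', x', hx'P, t', ht', hx'o, -, -, -, hinv', -⟩ := hP'.di H.six (p := 5) (Or.inr rfl) h'
          exact ⟨(hP'.toFrame.five_inverted H.six ht' hx'P hx'o hinv').1, h2'⟩
        · exact (H.five_world hP' h').elim
      by_contra hne
      have hcQ' : 2 * Nat.card Q' = Nat.card (S : Subgroup G) := by
        rw [← hP'.toFrame.card_eq, ← hQ', hidx, mul_comm]
      obtain ⟨a, ha, haQ⟩ : ∃ a ∈ Q', a ∉ Q := SetLike.not_le_iff_exists.mp fun hle =>
        hne (Subgroup.eq_of_le_of_card_ge hle (by omega))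
      have ht0 : a ∈ (S : Subgroup G) := hP'.core_le_T ha
      obtain ⟨-, x0, hx0P, t0, ht0', hx0o, -, ht0Q, -, hinv0, -, hall⟩ := hP.di H.six (p := 5) (Or.inr rfl) h
      have hmod : a * x0 * a⁻¹ * x0 ∈ Q := by
        have hd : t0 * a⁻¹ ∈ Q := by
          have hd' := hall a ht0 haQ
          have := (Subgroup.mem_normalizer_iff.mp (le_normalizer_core P (hP.le ht0)) _).mp hd'
          rwa [mul_assoc a, mul_assoc a⁻¹, mul_inv_cancel_left] at this
        set d := t0 * a⁻¹ with hdd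
        have e : a * x0 * a⁻¹ * x0 = (d⁻¹ * (t0 * x0 * t0⁻¹ * x0) * d) * (d⁻¹ * (x0⁻¹ * d * x0)) := by
          rw [hdd]; group
        rw [e]
        refine mul_mem (mul_mem (mul_mem (inv_mem hd) hinv0) hd) (mul_mem (inv_mem hd) ?_)
        have := (Subgroup.mem_normalizer_iff.mp (le_normalizer_core P (inv_mem hx0P)) d).mp hd
        rwa [inv_inv] at this
      have hc2 := (hP.toFrame.five_inverted H.six ht0 hx0P hx0o hmod).2
      rw [← hQ] at hc2
      have hD : Q ⊓ Q' ≤ Q ⊓ Subgroup.centralizer {a} := fun d hd => ⟨hd.1, by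
        refine Subgroup.mem_centralizer_singleton_iff.mpr ?_
        haveI := isMulCommutative_of_sq hel
        exact congrArg Subtype.val (IsMulCommutative.is_comm.comm (⟨d, hd.2⟩ : Q') ⟨a, ha⟩)⟩
      have hn : Q ≤ Subgroup.normalizer (Q' : Set G) :=
        hP.core_le_T.trans (hP'.le.trans (le_normalizer_core P'))
      have hsum := CfsgLib.JComp.card_sup_mul_card_inf hn
      have hsupS : Nat.card ↥(Q ⊔ Q') ≤ Nat.card (S : Subgroup G) :=
        Subgroup.card_le_of_le (sup_le hP.core_le_T hP'.core_le_T)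
      have hle2 : Nat.card Q ≤ 2 * Nat.card ↥(Q ⊓ Q') := by
        refine Nat.le_of_mul_le_mul_left ?_ (Nat.card_pos (α := Q'))
        calc Nat.card Q' * Nat.card Q = Nat.card ↥(Q ⊔ Q') * Nat.card ↥(Q ⊓ Q') := by rw [hsum, mul_comm]
          _ ≤ (Nat.card Q' * 2) * Nat.card ↥(Q ⊓ Q') := Nat.mul_le_mul_right _ (by omega)
          _ = Nat.card Q' * (2 * Nat.card ↥(Q ⊓ Q')) := by ring
      have hle3 := Subgroup.card_le_of_le hD
      have hpos := Nat.card_pos (α := ↥(Q ⊓ Subgroup.centralizer {a}))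
      exact hbig (by nlinarith)
    refine H.no_cover S (H.normalizer_ne_top (core_isPGroup P) hP.toFrame.core_ne_bot) (fun n hn => ?_)
      (fun P' hP' => ?_)
    · refine CfsgLib.Local.mem_normalizer_of_map_conj_eq ?_
      rw [← core_map_conj]
      exact key _ (hP.conj_sylow hn)
    · have := le_normalizer_core P'
      rwa [key P' hP'] at this
  · exact (H.five_world hP h).elim

end CfsgLib.SpecSix
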