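import Cfsg.Agent.Lib.SpecSix.Parabolic
import Cfsg.Agent.Lib.SpecSix.Dten
import Cfsg.Agent.Lib.SpecFive.AltFive

/-!
Element orders at most six: parabolics with top `A₅`.
-/

set_option autoImplicit false
set_option linter.unusedSectionVars false
set_option linter.style.haveILetI false

namespace CfsgLib.SpecSix

open Cfsg CfsgLib.SpecFive
open scoped Pointwise

universe u

local notation "A5" => alternatingGroup (Fin 5)

theorem U_mul : ∀ p q : Fin 4, ∃ r : Fin 4, AltFive.U p * AltFive.U q = AltFive.U r := by decide +kernel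

theorem U_sq : ∀ p : Fin 4, AltFive.U p * AltFive.U p = 1 := by decide +kernel

theorem U_five : ∀ p : Fin 4, p ≠ 0 → ∃ a : A5, a ^ 5 = 1 ∧ a ≠ 1 ∧ AltFive.U p * a * (AltFive.U p)⁻¹ = a⁻¹ := by
  decide +kernel

theorem U_conj : ∀ p : Fin 4, ∃ q : Fin 4, AltFive.x * AltFive.U p * AltFive.x⁻¹ = AltFive.U q := by decide +kernel

theorem U_fix : ∀ p : Fin 4, AltFive.x * AltFive.U p * AltFive.x⁻¹ = AltFive.U p → p = 0 := by decide +kernel

theorem U_inj : ∀ p q : Fin 4, AltFive.U p = AltFive.U q → p = q := by decide +kernel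

/-- The standard Klein four subgroup of `A₅`. -/
def Vfour : Subgroup A5 where
  carrier := {a | ∃ p, a = AltFive.U p}
  one_mem' := ⟨0, rfl⟩
  mul_mem' := by
    rintro a b ⟨p, rfl⟩ ⟨q, rfl⟩; exact U_mul p q
  inv_mem' := by
    rintro a ⟨p, rfl⟩; exact ⟨p, inv_eq_of_mul_eq_one_left (U_sq p)⟩

theorem mem_Vfour {a : A5} : a ∈ Vfour ↔ ∃ p, a = AltFive.U p := Iff.rfl

theorem card_Vfour : Nat.card Vfour = 4 := by
  rw [← Nat.card_fin 4]
  refine (Nat.card_congr (Equiv.ofBijective (fun p : Fin 4 => (⟨AltFive.U p, p, rfl⟩ : Vfour)) ⟨?_, ?_⟩)).symm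
  · intro p q e; exact U_inj p q (congrArg Subtype.val e)
  · rintro ⟨_, p, rfl⟩; exact ⟨p, rfl⟩

theorem card_A5 : Nat.card A5 = 60 := by
  rw [Nat.card_eq_fintype_card]; rfl

variable {G : Type u} [Group G] [Finite G] {T P : Subgroup G}

/-- A parabolic with top `A₅`, with coordinates in which its Sylow 2-subgroup is standard. -/
structure Five (T P : Subgroup G) (φ : P →* A5) : Prop where
  frame : Frame T P
  surj : Function.Surjective φ
  ker : φ.ker = (pCoreOf 2 P).subgroupOf P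
  sylow : T.subgroupOf P = Vfour.comap φ

theorem exists_five (hF : Frame T P) (hiso : Nonempty (P ⧸ pCore 2 P ≃* A5)) :
    ∃ φ : P →* A5, Five T P φ := by
  haveI : Fact (Nat.Prime 2) := ⟨Nat.prime_two⟩
  obtain ⟨e⟩ := hiso
  set ψ : P →* A5 := e.toMonoidHom.comp (QuotientGroup.mk' (pCore 2 P)) with hψ
  have hψs : Function.Surjective ψ := e.surjective.comp (QuotientGroup.mk'_surjective _)
  have hψk : ψ.ker = (pCoreOf 2 P).subgroupOf P := by
    rw [core_subgroupOf]; ext a; simp [hψ, MonoidHom.mem_ker]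
  set T0 := T.subgroupOf P with hT0
  have hT02 : IsPGroup 2 T0 := hF.two.comap_of_injective P.subtype P.subtype_injective
  have hodd0 : ¬ 2 ∣ T0.index := fun hd => Nat.not_even_iff_odd.mpr hF.odd (even_iff_two_dvd.mpr hd)
  have hidx : ¬ 2 ∣ (T0.map ψ).index := fun hd => hodd0 (hd.trans (Subgroup.index_map_dvd T0 hψs))
  let S1 : Sylow 2 A5 := (hT02.map ψ).toSylow hidx
  have hVidx : ¬ 2 ∣ Vfour.index := by
    have := Vfour.card_mul_index
    rw [card_Vfour, card_A5] at this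
    omega
  let S2 : Sylow 2 A5 := (IsPGroup.of_card (n := 2) card_Vfour : IsPGroup 2 Vfour).toSylow hVidx
  obtain ⟨g, hg⟩ := MulAction.exists_smul_eq A5 S1 S2
  have hg' : (T0.map ψ).map (MulAut.conj g).toMonoidHom = Vfour := congrArg Sylow.toSubgroup hg
  refine ⟨(MulAut.conj g).toMonoidHom.comp ψ, hF, (MulAut.conj g).surjective.comp hψs, ?_, ?_⟩
  · rw [← hψk]; ext a; simp [MonoidHom.mem_ker]
  · have hk : ((MulAut.conj g).toMonoidHom.comp ψ).ker = (pCoreOf 2 P).subgroupOf P := by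
      rw [← hψk]; ext a; simp [MonoidHom.mem_ker]
    rw [← hg', Subgroup.map_map, Subgroup.comap_map_eq, hk]
    exact (sup_eq_left.mpr (Subgroup.comap_mono hF.core_le_T)).symm

variable {φ : P →* A5}

theorem Five.mem_core (h : Five T P φ) (a : P) : (a : G) ∈ pCoreOf 2 P ↔ φ a = 1 := by
  rw [← MonoidHom.mem_ker, h.ker]; rfl

theorem Five.mem_T (h : Five T P φ) (a : P) : (a : G) ∈ T ↔ φ a ∈ Vfour := by
  rw [← Subgroup.mem_comap, ← h.sylow]; rfl

theorem Five.relIndex_P (h : Five T P φ) : (pCoreOf 2 P).relIndex P = 60 := by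
  rw [Subgroup.relIndex, ← h.ker, Subgroup.index_ker, MonoidHom.range_eq_top.mpr h.surj, Subgroup.card_top, card_A5]

theorem Five.relIndex_T (h : Five T P φ) : (pCoreOf 2 P).relIndex T = 4 := by
  have h1 : T.relIndex P = 15 := by
    rw [Subgroup.relIndex, h.sylow, Subgroup.index_comap_of_surjective _ h.surj]
    have := Vfour.card_mul_index
    rw [card_Vfour, card_A5] at this
    omega
  have h2 := h.frame.relIndex_eq
  rw [h1, h.relIndex_P] at h2
  omega

/-- A lift of an element of order five of the top has order five. -/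
theorem Five.orderOf_five (h : Five T P φ) (h6 : Six G) {a : P} (ha : φ a ^ 5 = 1) (ha1 : φ a ≠ 1) :
    orderOf (a : G) = 5 := by
  haveI : Fact (Nat.Prime 5) := ⟨by norm_num⟩
  have hd := orderOf_map_dvd φ a
  rw [orderOf_eq_prime ha ha1] at hd
  rw [Subgroup.orderOf_coe]
  obtain ⟨c, hc⟩ := hd
  have := h6 (a : G)
  rw [Subgroup.orderOf_coe] at this
  have := orderOf_pos a
  omega

/-- An element of order three normalising `T` and fixed point free on `T/Q`, and one inverting it modulo `T`. -/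
theorem Five.exists_y (h : Five T P φ) (h6 : Six G) : ∃ y ∈ P, orderOf y = 3 ∧
    y ∈ Subgroup.normalizer (T : Set G) ∧
    (∀ s ∈ T, y * s * y⁻¹ * s⁻¹ ∈ pCoreOf 2 P → s ∈ pCoreOf 2 P) ∧
    ∃ hy : y ∈ P, φ ⟨y, hy⟩ = AltFive.x := by
  obtain ⟨a, ha⟩ := h.surj AltFive.x
  haveI : Fact (Nat.Prime 3) := ⟨Nat.prime_three⟩
  have hx3 : orderOf AltFive.x = 3 := orderOf_eq_prime AltFive.rels.1 AltFive.rels.2.1
  obtain ⟨y, hy, hyo⟩ : ∃ y : P, φ y = AltFive.x ∧ orderOf (y : G) = 3 := by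
    obtain ⟨c, hc⟩ := hx3 ▸ ha ▸ orderOf_map_dvd φ a
    have hle := h6 (a : G)
    rw [Subgroup.orderOf_coe] at hle
    have := orderOf_pos a
    rcases c with _ | _ | _ | c
    · omega
    · exact ⟨a, ha, by rw [Subgroup.orderOf_coe, hc]⟩
    · refine ⟨a ^ 4, ?_, ?_⟩
      · rw [map_pow, ha, pow_succ, AltFive.rels.1, one_mul]
      · rw [Subgroup.orderOf_coe, orderOf_pow' a (by norm_num), hc]; norm_num
    · omega
  refine ⟨y, y.2, hyo, CfsgLib.JComp.mem_normalizer_of_conj_mem fun s hs => ?_, fun s hs hc => ?_, y.2, hy⟩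
  · obtain ⟨p, hp⟩ := mem_Vfour.mp ((h.mem_T ⟨s, h.frame.le hs⟩).mp hs)
    refine (h.mem_T (y * ⟨s, h.frame.le hs⟩ * y⁻¹)).mpr ?_
    rw [map_mul, map_mul, map_inv, hy, hp]
    exact U_conj p
  · obtain ⟨p, hp⟩ := mem_Vfour.mp ((h.mem_T ⟨s, h.frame.le hs⟩).mp hs)
    have e := (h.mem_core (y * ⟨s, h.frame.le hs⟩ * y⁻¹ * (⟨s, h.frame.le hs⟩ : P)⁻¹)).mp hc
    rw [map_mul, map_mul, map_mul, map_inv, map_inv, hy, hp, mul_inv_eq_one] at e
    refine (h.mem_core ⟨s, h.frame.le hs⟩).mpr ?_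
    rw [hp, U_fix p e]
    rfl

/-- An element outside the core in `T` inverts an element of order five modulo the core; a translate inverts it. -/
theorem exists_inverting_lift {X : Type u} [Group X] [Finite X] (Q : Subgroup X) [Q.Normal] (hQ : IsPGroup 2 Q)
    {u t : X} (hu : orderOf u = 5) (ht : t * u * t⁻¹ * u ∈ Q) :
    ∃ q ∈ Q, (q * t) * u * (q * t)⁻¹ = u⁻¹ := by
  haveI : Fact (Nat.Prime 5) := ⟨by norm_num⟩
  set M := Q ⊔ Subgroup.zpowers u with hM
  have huM : u ∈ M := Subgroup.mem_sup_right (Subgroup.mem_zpowers u)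
  set v := t * u * t⁻¹ with hv
  have hvM : v ∈ M := by
    rw [show v = (v * u) * u⁻¹ by group]
    exact mul_mem (Subgroup.mem_sup_left ht) (inv_mem huM)
  have hdisj : Q ⊓ Subgroup.zpowers u = ⊥ := by
    refine disjoint_iff.mp (Subgroup.disjoint_of_coprime_natCard ?_)
    obtain ⟨n, hn⟩ := IsPGroup.iff_card.mp hQ
    rw [hn, Nat.card_zpowers, hu]; exact Nat.Coprime.pow_left n (by norm_num)
  have hMcard : Nat.card M = Nat.card Q * 5 := by
    have := CfsgLib.JComp.card_sup_mul_card_inf (A := Subgroup.zpowers u) (B := Q)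
      (by rw [Subgroup.normalizer_eq_top]; exact le_top)
    rw [sup_comm, inf_comm, hdisj, Subgroup.card_bot, mul_one, Nat.card_zpowers, hu] at this
    rw [hM, this, mul_comm]
  have mk : ∀ w, w ∈ M → orderOf w = 5 →
      ∃ S : Sylow 5 M, ((S : Subgroup M).map M.subtype) = Subgroup.zpowers w := by
    intro w hw hwo
    have hp : IsPGroup 5 ((Subgroup.zpowers w).subgroupOf M) :=
      (IsPGroup.of_card (n := 1) (by rw [Nat.card_zpowers, hwo, pow_one]) : IsPGroup 5 (Subgroup.zpowers w)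
        ).comap_of_injective M.subtype M.subtype_injective
    have hidx : ¬ 5 ∣ ((Subgroup.zpowers w).subgroupOf M).index := by
      have h1 := CfsgLib.Products.card_mul_relIndex_of_le (Subgroup.zpowers_le.mpr hw)
      rw [Nat.card_zpowers, hwo, hMcard, mul_comm (Nat.card Q)] at h1
      show ¬ 5 ∣ (Subgroup.zpowers w).relIndex M
      rw [Nat.eq_of_mul_eq_mul_left (by norm_num) h1]
      obtain ⟨n, hn⟩ := IsPGroup.iff_card.mp hQ
      rw [hn]
      intro hd
      have := Nat.Prime.dvd_of_dvd_pow (by norm_num : Nat.Prime 5) hd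
      omega
    refine ⟨hp.toSylow hidx, ?_⟩
    exact Subgroup.map_subgroupOf_eq_of_le (Subgroup.zpowers_le.mpr hw)
  have hvo : orderOf v = 5 := by
    rw [hv, show t * u * t⁻¹ = MulAut.conj t u from rfl]
    exact ((MulAut.conj t).orderOf_eq u).trans hu
  obtain ⟨S1, hS1⟩ := mk u huM hu
  obtain ⟨S2, hS2⟩ := mk v hvM hvo
  obtain ⟨m, hm⟩ := MulAction.exists_smul_eq M S2 S1
  have hmv : (m : X) * v * (m : X)⁻¹ ∈ Subgroup.zpowers u := by
    rw [← hS1, ← hm]
    obtain ⟨w, hw, hwe⟩ := (hS2.symm ▸ Subgroup.mem_zpowers v : v ∈ (S2 : Subgroup M).map M.subtype)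
    exact ⟨m * w * m⁻¹, ⟨w, hw, rfl⟩, by rw [← hwe]; rfl⟩
  obtain ⟨c, hc, q, hq, hqc⟩ : ∃ c ∈ Subgroup.zpowers u, ∃ q ∈ Q, c * q = (m : X) := by
    have hm' : (m : X) ∈ (Subgroup.zpowers u : Set X) * (Q : Set X) := by
      rw [← Subgroup.mul_normal, sup_comm]; exact m.2
    obtain ⟨c, hc, q, hq, e⟩ := Set.mem_mul.mp hm'
    exact ⟨c, hc, q, hq, e⟩
  refine ⟨q, hq, ?_⟩
  have h1 : q * v * q⁻¹ ∈ Subgroup.zpowers u := by
    have : q * v * q⁻¹ = c⁻¹ * ((m : X) * v * (m : X)⁻¹) * c := by rw [← hqc]; group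
    rw [this]; exact mul_mem (mul_mem (inv_mem hc) hmv) hc
  have hsame : q * v * q⁻¹ * u ∈ Q := by
    have : q * v * q⁻¹ * u = q * (v * u) * (u⁻¹ * q⁻¹ * u) := by group
    rw [this]
    exact mul_mem (mul_mem hq ht) (Subgroup.Normal.conj_mem' ‹_› q⁻¹ (inv_mem hq) u)
  have h2 : q * v * q⁻¹ * u ∈ Q ⊓ Subgroup.zpowers u := ⟨hsame, mul_mem h1 (Subgroup.mem_zpowers u)⟩
  rw [hdisj, Subgroup.mem_bot] at h2
  rw [← eq_inv_of_mul_eq_one_left h2, hv]; group

/-- The 2-core is elementary abelian and a four group element fixes the square root of its order. -/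
theorem Five.cent_card (h : Five T P φ) (h6 : Six G) {t : G} (ht : t ∈ T) (htQ : t ∉ pCoreOf 2 P) :
    (∀ v ∈ pCoreOf 2 P, v * v = 1) ∧
      Nat.card ↥(pCoreOf 2 P ⊓ Subgroup.centralizer {t}) ^ 2 = Nat.card (pCoreOf 2 P) := by
  obtain ⟨p, hp⟩ := mem_Vfour.mp ((h.mem_T ⟨t, h.frame.le ht⟩).mp ht)
  have hp0 : p ≠ 0 := by
    rintro rfl
    exact htQ ((h.mem_core ⟨t, h.frame.le ht⟩).mpr (hp.trans rfl))
  obtain ⟨a, ha5, ha1, hinv⟩ := U_five p hp0
  obtain ⟨u, rfl⟩ := h.surj a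
  set Q := pCoreOf 2 P with hQ
  haveI : (Q.subgroupOf P).Normal := by rw [hQ, core_subgroupOf]; infer_instance
  have hQ2 : IsPGroup 2 (Q.subgroupOf P) := (core_isPGroup P).comap_of_injective P.subtype P.subtype_injective
  have huo : orderOf u = 5 := by rw [← Subgroup.orderOf_coe]; exact h.orderOf_five h6 ha5 ha1
  have hmod : (⟨t, h.frame.le ht⟩ : P) * u * (⟨t, h.frame.le ht⟩ : P)⁻¹ * u ∈ Q.subgroupOf P := by
    rw [Subgroup.mem_subgroupOf]
    refine (h.mem_core _).mpr ?_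
    rw [map_mul, map_mul, map_mul, map_inv, hp, hinv, inv_mul_cancel]
  obtain ⟨q, hq, hqt⟩ := exists_inverting_lift (Q.subgroupOf P) hQ2 huo hmod
  obtain ⟨k, hk⟩ := h.frame.two ⟨(q : G) * t, mul_mem (h.frame.core_le_T hq) ht⟩
  obtain ⟨-, hsq, hcard⟩ := (h6.subgroup P).dten (Q.subgroupOf P) hQ2 huo (t := q * ⟨t, h.frame.le ht⟩) (k := k)
    (by
      apply Subtype.ext
      have e := congrArg Subtype.val hk
      simpa using e) hqt
  have hsq' : ∀ v ∈ Q, v * v = 1 := fun v hv => by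
    have := hsq ⟨v, core_le P hv⟩ hv
    exact congrArg Subtype.val this
  refine ⟨hsq', ?_⟩
  have hcomm : ∀ v ∈ Q, ∀ w ∈ Q, v * w = w * v := fun v hv w hw => by
    haveI := isMulCommutative_of_sq hsq'
    exact congrArg Subtype.val (IsMulCommutative.is_comm.comm (⟨v, hv⟩ : Q) ⟨w, hw⟩)
  have e1 : (Q ⊓ Subgroup.centralizer {t}).subgroupOf P =
      Q.subgroupOf P ⊓ Subgroup.centralizer {q * (⟨t, h.frame.le ht⟩ : P)} := by
    ext ⟨v, hv⟩
    simp only [Subgroup.mem_subgroupOf, Subgroup.mem_inf, Subgroup.mem_centralizer_singleton_iff, Subtype.ext_iff,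
      Subgroup.coe_mul]
    constructor
    · rintro ⟨h1, h2⟩
      exact ⟨h1, by rw [← mul_assoc, hcomm v h1 (q : G) hq, mul_assoc, h2, mul_assoc]⟩
    · rintro ⟨h1, h2⟩
      refine ⟨h1, ?_⟩
      rw [← mul_assoc, hcomm v h1 (q : G) hq, mul_assoc, mul_assoc] at h2
      exact mul_left_cancel h2
  have hc1 : ∀ H : Subgroup G, H ≤ P → Nat.card (H.subgroupOf P) = Nat.card H := fun H hH =>
    Nat.card_congr (Subgroup.subgroupOfEquivOfLe hH).toEquiv
  rw [← hc1 _ (core_le P), ← hc1 _ (inf_le_left.trans (core_le P)), e1]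
  exact hcard

end CfsgLib.SpecSix
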