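import Mathlib

/-!
A four group in the plane over the field of four elements and the elements it reaches.
-/

set_option autoImplicit false
set_option linter.unusedSectionVars false

namespace CfsgLib.SpecSix

variable {V : Type*} [Group V]

/-- An operator of order three moving a line `W`, commuting with a fixed point free one `Y` normalising it: every
element is in a translate of the line or fixed by one of the three products. -/
theorem five_lines (X Y : V →* V) (W : Subgroup V) (h2 : ∀ v : V, v * v = 1)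
    (hX3 : ∀ v, X (X (X v)) = v) (hN : ∀ v, v * Y v * Y (Y v) = 1) (hXY : ∀ v, X (Y v) = Y (X v))
    (hYW : ∀ e ∈ W, Y e ∈ W) (hW : ∀ e ∈ W, e ≠ 1 → ∀ f ∈ W, f = 1 ∨ f = e ∨ f = Y e ∨ f = Y (Y e))
    (hcover : ∀ v, ∃ e ∈ W, ∃ f ∈ W, v = e * X f) (hind : ∀ e ∈ W, X e ∈ W → e = 1) (v : V) :
    v ∈ W ∨ X v ∈ W ∨ X (X v) ∈ W ∨ ∃ l : ℕ, Y^[l] (X v) = v := by
  have inv : ∀ a : V, a⁻¹ = a := fun a => inv_eq_of_mul_eq_one_left (h2 a)
  have comm : ∀ a b : V, a * b = b * a := fun a b => by
    calc a * b = (a * b)⁻¹ := (inv _).symm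
      _ = b * a := by rw [mul_inv_rev, inv, inv]
  have hY3 : ∀ a, Y (Y (Y a)) = a := fun a => by
    have e1 := hN (Y a)
    calc Y (Y (Y a)) = (Y a * Y (Y a))⁻¹ := eq_inv_of_mul_eq_one_right e1
      _ = (a⁻¹)⁻¹ := by rw [← eq_inv_of_mul_eq_one_right (show a * (Y a * Y (Y a)) = 1 by rw [← mul_assoc, hN])]
      _ = a := inv_inv a
  -- the powers of `Y`
  have pmul : ∀ (n : ℕ) (a b : V), Y^[n] (a * b) = Y^[n] a * Y^[n] b := fun n a b => iterate_map_mul Y n a b
  have padd : ∀ (m n : ℕ) (a : V), Y^[m] (Y^[n] a) = Y^[m + n] a := fun m n a => (Function.iterate_add_apply Y m n a).symm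
  have pX : ∀ (n : ℕ) (a : V), X (Y^[n] a) = Y^[n] (X a) := fun n => by
    induction n with
    | zero => intro a; rfl
    | succ n ih =>
      intro a
      rw [Function.iterate_succ_apply', Function.iterate_succ_apply', hXY, ih]
  have pW : ∀ (n : ℕ), ∀ e ∈ W, Y^[n] e ∈ W := fun n => by
    induction n with
    | zero => intro e he; exact he
    | succ n ih => intro e he; rw [Function.iterate_succ_apply']; exact hYW _ (ih e he)
  have p3 : ∀ (m : ℕ) (a : V), Y^[3 * m] a = a := fun m => by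
    induction m with
    | zero => intro a; rfl
    | succ m ih =>
      intro a
      rw [show 3 * (m + 1) = 3 * m + 3 by ring, Function.iterate_add_apply]
      show Y^[3 * m] (Y (Y (Y a))) = a
      rw [hY3, ih]
  have pmod : ∀ (n : ℕ) (a : V), Y^[n] a = Y^[n % 3] a := fun n a => by
    conv_lhs => rw [← Nat.div_add_mod n 3]
    rw [Function.iterate_add_apply, p3]
  obtain ⟨e, he, f, hf, rfl⟩ := hcover v
  by_cases he1 : e = 1
  · refine Or.inr (Or.inr (Or.inl ?_))
    rw [he1, one_mul, hX3]; exact hf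
  have hWp : ∀ g ∈ W, g ≠ 1 → ∃ k : ℕ, g = Y^[k] e := fun g hg hg1 => by
    rcases hW e he he1 g hg with h | h | h | h
    · exact absurd h hg1
    · exact ⟨0, h⟩
    · exact ⟨1, h⟩
    · exact ⟨2, h⟩
  by_cases hf1 : f = 1
  · exact Or.inl (by rw [hf1, map_one, mul_one]; exact he)
  obtain ⟨k, rfl⟩ := hWp f hf hf1
  -- the image of `e` under the square of `X`
  obtain ⟨a, ha, b, hb, hxx⟩ := hcover (X (X e))
  have hXX : ∀ w ∈ W, X (X w) ∈ W → w = 1 := fun w hw hh => by
    have h1 : X (X (X w)) ∈ W := by rw [hX3]; exact hw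
    have e1 := hind _ hh h1
    rw [← hX3 w, e1, map_one]
  have hb1 : b ≠ 1 := fun h => he1 (hXX e he (by rw [hxx, h, map_one, mul_one]; exact ha))
  obtain ⟨j, rfl⟩ := hWp b hb hb1
  have hae : e * Y^[j] a = X (a * Y^[j] (Y^[j] e)) := by
    have h3 := hX3 e
    rw [hxx, map_mul, pX, pX, hxx, pmul, ← pX] at h3
    calc e * Y^[j] a = (X a * (Y^[j] a * X (Y^[j] (Y^[j] e)))) * Y^[j] a := by rw [h3]
      _ = X (a * Y^[j] (Y^[j] e)) * (Y^[j] a * Y^[j] a) := by
          rw [map_mul, comm (Y^[j] a) (X (Y^[j] (Y^[j] e)))]; simp only [mul_assoc]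
      _ = _ := by rw [h2, mul_one]
  have haa : a = Y^[j + j] e := by
    have h := hind _ (mul_mem ha (pW _ _ (pW _ _ he))) (hae ▸ mul_mem he (pW _ _ ha))
    rw [eq_inv_of_mul_eq_one_left h, inv, padd]
  subst haa
  have hxv : X (e * X (Y^[k] e)) = Y^[k + (j + j)] e * X (e * Y^[k + j] e) := by
    rw [map_mul, pX k e, pX k (X e), hxx, pmul, padd, ← pX, padd, map_mul,
      ← mul_assoc, ← mul_assoc, comm (X e)]
  by_cases hkj : (k + j) % 3 = 0
  · refine Or.inr (Or.inl ?_)
    rw [hxv, show Y^[k + j] e = e by rw [pmod, hkj]; rfl, h2, map_one, mul_one]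
    exact pW _ _ he
  · refine Or.inr (Or.inr (Or.inr ⟨k + k + j, ?_⟩))
    have hm : e * Y^[k + j] e = Y^[(k + j) + (k + j)] e := by
      have hn := hN e
      rw [pmod (k + j + (k + j)), pmod (k + j)]
      rcases (show (k + j) % 3 = 1 ∨ (k + j) % 3 = 2 by omega) with h | h
      · rw [h, show (k + j + (k + j)) % 3 = 2 by omega]
        show e * Y e = Y (Y e)
        rw [eq_inv_of_mul_eq_one_left hn, inv]
      · rw [h, show (k + j + (k + j)) % 3 = 1 by omega]
        show e * Y (Y e) = Y e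
        calc e * Y (Y e) = Y e * (Y e * (e * Y (Y e))) := by rw [← mul_assoc, h2, one_mul]
          _ = Y e * (e * Y e * Y (Y e)) := by rw [← mul_assoc (Y e) e, comm (Y e) e]
          _ = Y e := by rw [hn, mul_one]
    rw [hxv, hm, pmul, padd, ← pX, padd, pmod (k + k + j + (k + (j + j))) e,
      show (k + k + j + (k + (j + j))) % 3 = 0 by omega]
    rw [pmod (k + k + j + ((k + j) + (k + j))) e,
      show (k + k + j + ((k + j) + (k + j))) % 3 = k % 3 by omega, ← pmod, Function.iterate_zero_apply]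

end CfsgLib.SpecSix
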