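import Cfsg.Agent.Lib.SpecSix.Five2

/-!
Element orders at most six: in a parabolic with top `A₅` the element of order three normalising the Sylow
2-subgroup fixes nothing in the fixed space, when that space is the fixed space of each involution.
-/

set_option autoImplicit false
set_option linter.unusedSectionVars false
set_option linter.style.haveILetI false

namespace CfsgLib.SpecSix

open Cfsg CfsgLib.SpecFive
open scoped Pointwise

universe u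

local notation "A5" => alternatingGroup (Fin 5)

theorem U_cycle : ∀ p q : Fin 4, p ≠ 0 → q ≠ 0 →
    ∃ k : Fin 3, AltFive.x ^ (k : ℕ) * AltFive.U p * (AltFive.x ^ (k : ℕ))⁻¹ = AltFive.U q := by
  decide +kernel

theorem point_moves :
    (∃ q : Fin 4, ∃ k : Fin 3, AltFive.U 1 * rot ^ 1 = rot ^ 4 * (AltFive.U q * AltFive.x ^ (k : ℕ))) ∧
    (∃ q : Fin 4, ∃ k : Fin 3, AltFive.U 1 * rot ^ 4 = rot ^ 1 * (AltFive.U q * AltFive.x ^ (k : ℕ))) ∧
    (∃ q : Fin 4, ∃ k : Fin 3, AltFive.U 2 * rot ^ 1 = rot ^ 3 * (AltFive.U q * AltFive.x ^ (k : ℕ))) ∧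
    (∃ q : Fin 4, ∃ k : Fin 3, AltFive.U 2 * rot ^ 4 = rot ^ 2 * (AltFive.U q * AltFive.x ^ (k : ℕ))) := by
  decide +kernel

variable {G : Type u} [Group G] [Finite G] {T P : Subgroup G} {φ : P →* A5}

/-- Elements with the same image act alike on the core. -/
theorem Five.act_congr (h : Five T P φ) (h6 : Six G) {a b : P} (hab : φ a = φ b) {v : G}
    (hv : v ∈ pCoreOf 2 P) : (a : G) * v * (a : G)⁻¹ = (b : G) * v * (b : G)⁻¹ := by
  obtain ⟨t, ht, htQ⟩ : ∃ t ∈ T, t ∉ pCoreOf 2 P := by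
    by_contra hno
    push Not at hno
    have := h.relIndex_T
    rw [Subgroup.relIndex_eq_one.mpr hno] at this
    omega
  have hsq := (h.cent_card h6 ht htQ).1
  haveI := isMulCommutative_of_sq hsq
  have hd : (b : G)⁻¹ * a ∈ pCoreOf 2 P :=
    (h.mem_core (b⁻¹ * a)).mpr (by rw [map_mul, map_inv, hab, inv_mul_cancel])
  have hc : (b : G)⁻¹ * a * v = v * ((b : G)⁻¹ * a) :=
    congrArg Subtype.val (IsMulCommutative.is_comm.comm (⟨_, hd⟩ : pCoreOf 2 P) ⟨v, hv⟩)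
  calc (a : G) * v * (a : G)⁻¹ = (b : G) * ((b : G)⁻¹ * a * v) * (a : G)⁻¹ := by group
    _ = (b : G) * (v * ((b : G)⁻¹ * a)) * (a : G)⁻¹ := by rw [hc]
    _ = _ := by group

/-- A fixed point of the Sylow normalizer is trivial. -/
theorem Five.point_fixed (h : Five T P φ) (h6 : Six G) {y : G} (hy : y ∈ P) (hyx : φ ⟨y, hy⟩ = AltFive.x)
    (hC : ∀ t ∈ T, t ∉ pCoreOf 2 P → pCoreOf 2 P ⊓ Subgroup.centralizer {t} ≤ fixC T P) {e : G}
    (he : e ∈ fixC T P) (hye : Commute y e) : e = 1 := by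
  obtain ⟨r, hr⟩ := h.surj rot
  have hru : orderOf (r : G) = 5 :=
    h.orderOf_five h6 (a := r) (by rw [hr]; exact rot_five.1) (by rw [hr]; decide)
  set Q := pCoreOf 2 P with hQ
  have heQ : e ∈ Q := he.1
  set f : ℕ → G := fun i => (r : G) ^ i * e * ((r : G) ^ i)⁻¹ with hf
  have hfQ : ∀ i, f i ∈ Q := fun i =>
    (Subgroup.mem_normalizer_iff.mp (le_normalizer_core P (pow_mem r.2 i)) e).mp heQ
  obtain ⟨t1, ht1⟩ := h.surj (AltFive.U 1)
  obtain ⟨t2, ht2⟩ := h.surj (AltFive.U 2)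
  have ht1T : (t1 : G) ∈ T := (h.mem_T t1).mpr (ht1 ▸ ⟨1, rfl⟩)
  have ht2T : (t2 : G) ∈ T := (h.mem_T t2).mpr (ht2 ▸ ⟨2, rfl⟩)
  have hstep : ∀ (t : P) (i j : ℕ), (∃ q : Fin 4, ∃ k : Fin 3,
      φ t * rot ^ i = rot ^ j * (AltFive.U q * AltFive.x ^ (k : ℕ))) →
      (t : G) * f i * (t : G)⁻¹ = f j := by
    rintro t i j ⟨q, k, hqk⟩
    obtain ⟨w, hw⟩ := h.surj (AltFive.U q)
    have hwT : (w : G) ∈ T := (h.mem_T w).mpr (hw ▸ ⟨q, rfl⟩)
    have e1 := h.act_congr h6 (a := t * r ^ i) (b := r ^ j * (w * ⟨y, hy⟩ ^ (k : ℕ)))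
      (by simp only [map_mul, map_pow, hr, hw, hyx]; exact hqk) heQ
    simp only [Subgroup.coe_mul, Subgroup.coe_pow] at e1
    have e2 : y ^ (k : ℕ) * e * (y ^ (k : ℕ))⁻¹ = e := by
      rw [(hye.pow_left (k : ℕ)).eq, mul_inv_cancel_right]
    have e3 : (w : G) * e * (w : G)⁻¹ = e := by
      rw [(mem_fixC.mp he).2 _ hwT, mul_inv_cancel_right]
    calc (t : G) * f i * (t : G)⁻¹ = (t : G) * (r : G) ^ i * e * ((t : G) * (r : G) ^ i)⁻¹ := by
          simp only [hf]; group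
      _ = (r : G) ^ j * ((w : G) * (y ^ (k : ℕ) * e * (y ^ (k : ℕ))⁻¹) * (w : G)⁻¹) * ((r : G) ^ j)⁻¹ := by
          rw [e1]; group
      _ = f j := by rw [e2, e3]
  obtain ⟨m1, m2, m3, m4⟩ := point_moves
  have a1 := hstep t1 1 4 (ht1.symm ▸ m1)
  have a2 := hstep t1 4 1 (ht1.symm ▸ m2)
  have a3 := hstep t2 1 3 (ht2.symm ▸ m3)
  have a4 := hstep t2 4 2 (ht2.symm ▸ m4)
  have ht1Q : (t1 : G) ∉ Q := fun hm => by
    have := (h.mem_core t1).mp hm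
    rw [ht1] at this
    revert this
    decide
  have hsq : ∀ v ∈ Q, v * v = 1 := (h.cent_card h6 ht1T ht1Q).1
  have hc : ∀ a ∈ Q, ∀ b ∈ Q, a * b = b * a := fun a ha b hb => by
    haveI := isMulCommutative_of_sq hsq
    exact congrArg Subtype.val (IsMulCommutative.is_comm.comm (⟨a, ha⟩ : Q) ⟨b, hb⟩)
  have h14 : f 1 * f 4 ∈ fixC T P := by
    refine hC _ ht1T ht1Q ⟨mul_mem (hfQ 1) (hfQ 4), Subgroup.mem_centralizer_singleton_iff.mpr ?_⟩
    refine (mul_inv_eq_iff_eq_mul.mp ?_).symm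
    calc (t1 : G) * (f 1 * f 4) * (t1 : G)⁻¹ = ((t1 : G) * f 1 * (t1 : G)⁻¹) * ((t1 : G) * f 4 * (t1 : G)⁻¹) := by
          group
      _ = f 1 * f 4 := by rw [a1, a2, hc _ (hfQ 4) _ (hfQ 1)]
  have h32 : f 1 * f 4 = f 3 * f 2 := by
    calc f 1 * f 4 = (t2 : G) * (f 1 * f 4) * (t2 : G)⁻¹ := by
          rw [(mem_fixC.mp h14).2 _ ht2T, mul_inv_cancel_right]
      _ = ((t2 : G) * f 1 * (t2 : G)⁻¹) * ((t2 : G) * f 4 * (t2 : G)⁻¹) := by group
      _ = f 3 * f 2 := by rw [a3, a4]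
  -- the product of the five translates
  have hr5 : (r : G) ^ 5 = 1 := hru ▸ pow_orderOf_eq_one _
  set Pr := f 0 * f 1 * f 2 * f 3 * f 4 with hPr
  have hshift : ∀ i, (r : G) * f i * (r : G)⁻¹ = f (i + 1) := fun i => by
    simp only [hf, pow_succ']; group
  have hf5 : f 5 = f 0 := by simp only [hf, hr5, pow_zero]
  have hfix : Commute (r : G) Pr := by
    refine mul_inv_eq_iff_eq_mul.mp ?_
    calc (r : G) * Pr * (r : G)⁻¹ = ((r : G) * f 0 * (r : G)⁻¹) * ((r : G) * f 1 * (r : G)⁻¹) *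
          ((r : G) * f 2 * (r : G)⁻¹) * ((r : G) * f 3 * (r : G)⁻¹) * ((r : G) * f 4 * (r : G)⁻¹) := by
            rw [hPr]; group
      _ = (f 1 * f 2 * f 3 * f 4) * f 0 := by rw [hshift, hshift, hshift, hshift, hshift, hf5]
      _ = f 0 * (f 1 * f 2 * f 3 * f 4) :=
          hc _ (mul_mem (mul_mem (mul_mem (hfQ 1) (hfQ 2)) (hfQ 3)) (hfQ 4)) _ (hfQ 0)
      _ = Pr := by rw [hPr]; group
  have hPrQ : Pr ∈ Q := mul_mem (mul_mem (mul_mem (mul_mem (hfQ 0) (hfQ 1)) (hfQ 2)) (hfQ 3)) (hfQ 4)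
  obtain ⟨n, hn⟩ := core_isPGroup P ⟨Pr, hPrQ⟩
  have hPr1 : Pr = 1 := h6.five_fixes hru hfix (p := 2) (by norm_num) (congrArg Subtype.val hn)
  have h4 : f 1 * f 2 * f 3 * f 4 = 1 := by
    calc f 1 * f 2 * f 3 * f 4 = f 1 * ((f 2 * f 3) * f 4) := by group
      _ = f 1 * (f 4 * (f 3 * f 2)) := by
          rw [hc _ (mul_mem (hfQ 2) (hfQ 3)) _ (hfQ 4), hc _ (hfQ 2) _ (hfQ 3)]
      _ = f 1 * (f 4 * (f 1 * f 4)) := by rw [h32]
      _ = (f 1 * f 4) * (f 1 * f 4) := by group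
      _ = 1 := hsq _ (mul_mem (hfQ 1) (hfQ 4))
  calc e = f 0 := by simp [hf]
    _ = f 0 * (f 1 * f 2 * f 3 * f 4) := by rw [h4, mul_one]
    _ = Pr := by rw [hPr]; group
    _ = 1 := hPr1

/-- A fixed point modulo the fixed space gives one in the fixed space. -/
theorem Five.exists_fixed (h : Five T P φ) (h6 : Six G) {y : G} (hy : y ∈ P) (hyx : φ ⟨y, hy⟩ = AltFive.x)
    (hcard : Nat.card (fixC T P) * Nat.card (fixC T P) = Nat.card (pCoreOf 2 P))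
    (hyC : ∀ v ∈ fixC T P, y * v * y⁻¹ ∈ fixC T P) {a : G} (ha : a ∈ pCoreOf 2 P) (haC : a ∉ fixC T P)
    (hya : y * a * y⁻¹ * a⁻¹ ∈ fixC T P) : ∃ e ∈ fixC T P, e ≠ 1 ∧ Commute y e := by
  obtain ⟨g, hg⟩ := h.surj AltFive.s
  set Q := pCoreOf 2 P with hQ
  set C := fixC T P with hCd
  have hd := h.fixed_disjoint h6 (g := g) (by rw [hg]; exact s_five)
  obtain ⟨t, ht, htQ⟩ : ∃ t ∈ T, t ∉ Q := by
    by_contra hno
    push Not at hno
    have := h.relIndex_T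
    rw [Subgroup.relIndex_eq_one.mpr hno] at this
    omega
  have hsq : ∀ v ∈ Q, v * v = 1 := (h.cent_card h6 ht htQ).1
  have hc : ∀ a ∈ Q, ∀ b ∈ Q, a * b = b * a := fun a ha b hb => by
    haveI := isMulCommutative_of_sq hsq
    exact congrArg Subtype.val (IsMulCommutative.is_comm.comm (⟨a, ha⟩ : Q) ⟨b, hb⟩)
  set C' := C.map (MulAut.conj (g : G)).toMonoidHom with hC'
  have hC'Q : C' ≤ Q := by
    rintro _ ⟨w, hw, rfl⟩
    exact (Subgroup.mem_normalizer_iff.mp (le_normalizer_core P g.2) w).mp hw.1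
  have hn : C ≤ Subgroup.normalizer (C' : Set G) := fun c hcc =>
    CfsgLib.JComp.mem_normalizer_of_conj_mem fun z hz => by
      rwa [hc c hcc.1 z (hC'Q hz), mul_inv_cancel_right]
  have hsum := CfsgLib.JComp.card_sup_mul_card_inf hn
  rw [hd, Subgroup.card_bot, mul_one, hC', Subgroup.card_map_of_injective (MulAut.conj (g : G)).injective,
    hcard] at hsum
  have hQeq : C ⊔ C' = Q := Subgroup.eq_of_le_of_card_ge (sup_le (fixC_le_core T P) hC'Q) hsum.ge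
  have ha' : a ∈ (C : Set G) * (C' : Set G) := by
    rw [← Subgroup.coe_mul_of_left_le_normalizer_right _ _ hn, hQeq]; exact ha
  obtain ⟨e, he, _, ⟨e', he', rfl⟩, rfl⟩ := Set.mem_mul.mp ha'
  simp only [MulEquiv.coe_toMonoidHom, MulAut.conj_apply] at haC hya ha
  have hmod : (g : G)⁻¹ * y * g * y ∈ Q := by
    refine (h.mem_core (g⁻¹ * ⟨y, hy⟩ * g * ⟨y, hy⟩)).mpr ?_
    rw [map_mul, map_mul, map_mul, map_inv, hg, hyx]
    decide +kernel
  set q0 := (g : G)⁻¹ * y * g * y with hq0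
  have hyinv : y⁻¹ * e' * y ∈ C := by
    have hy3 : (⟨y, hy⟩ : P) ^ 3 ∈ (pCoreOf 2 P).subgroupOf P := by
      rw [← h.ker, MonoidHom.mem_ker, map_pow, hyx]; exact AltFive.rels.1
    have e3 : y ^ 2 * e' * (y ^ 2)⁻¹ ∈ C := by
      rw [pow_two, show y * y * e' * (y * y)⁻¹ = y * (y * e' * y⁻¹) * y⁻¹ by group]
      exact hyC _ (hyC _ he')
    have hq : y ^ 3 ∈ Q := hy3
    have e4 : y⁻¹ * e' * y = y ^ 2 * e' * (y ^ 2)⁻¹ := by
      have hv : (y ^ 3) * (y⁻¹ * e' * y) = (y⁻¹ * e' * y) * (y ^ 3) :=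
        hc _ hq _ (by
          have := (Subgroup.mem_normalizer_iff.mp (le_normalizer_core P (inv_mem hy)) e').mp he'.1
          rwa [inv_inv] at this)
      calc y⁻¹ * e' * y = (y ^ 3 * (y⁻¹ * e' * y)) * (y ^ 3)⁻¹ := by rw [hv]; group
        _ = _ := by simp only [pow_succ, pow_zero, one_mul]; group
    rw [e4]; exact e3
  have hyimg : y * ((g : G) * e' * (g : G)⁻¹) * y⁻¹ = (g : G) * (y⁻¹ * e' * y) * (g : G)⁻¹ := by
    calc y * ((g : G) * e' * (g : G)⁻¹) * y⁻¹ = (g : G) * (q0 * (y⁻¹ * e' * y) * q0⁻¹) * (g : G)⁻¹ := by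
          rw [hq0]; group
      _ = (g : G) * (y⁻¹ * e' * y) * (g : G)⁻¹ := by
          rw [hc q0 hmod _ hyinv.1, mul_inv_cancel_right]
  -- the component in the translate is fixed
  set w := y⁻¹ * e' * y * e'⁻¹ with hw
  have hwC' : (g : G) * w * (g : G)⁻¹ ∈ C' := ⟨w, mul_mem hyinv (inv_mem he'), rfl⟩
  have hwC : (g : G) * w * (g : G)⁻¹ ∈ C := by
    have h1 : y * (e * ((g : G) * e' * (g : G)⁻¹)) * y⁻¹ * (e * ((g : G) * e' * (g : G)⁻¹))⁻¹ =
        (y * e * y⁻¹) * ((g : G) * w * (g : G)⁻¹) * e⁻¹ := by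
      calc y * (e * ((g : G) * e' * (g : G)⁻¹)) * y⁻¹ * (e * ((g : G) * e' * (g : G)⁻¹))⁻¹
          = (y * e * y⁻¹) * (y * ((g : G) * e' * (g : G)⁻¹) * y⁻¹) * ((g : G) * e' * (g : G)⁻¹)⁻¹ * e⁻¹ := by
            group
        _ = _ := by rw [hyimg, hw]; group
    rw [h1] at hya
    have := mul_mem (mul_mem (inv_mem (hyC e he)) hya) he
    rwa [show (y * e * y⁻¹)⁻¹ * ((y * e * y⁻¹) * ((g : G) * w * (g : G)⁻¹) * e⁻¹) * e =
      (g : G) * w * (g : G)⁻¹ by group] at this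
  have hw1 : w = 1 := by
    have h1 : (g : G) * w * (g : G)⁻¹ ∈ C ⊓ C' := ⟨hwC, hwC'⟩
    rw [hd, Subgroup.mem_bot, conj_eq_one_iff] at h1
    exact h1
  refine ⟨e', he', fun e1 => haC (by rw [e1]; simpa using he), ?_⟩
  have h2 : y⁻¹ * e' * y = e' := mul_inv_eq_one.mp hw1
  show y * e' = e' * y
  calc y * e' = y * (y⁻¹ * e' * y) := by rw [h2]
    _ = e' * y := by group

end CfsgLib.SpecSix
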