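import Cfsg.Agent.Lib.SpecSix.Shape
import Cfsg.Agent.Lib.JComp.Comp

/-!
Element orders at most six: a solvable top of a minimal parabolic is `S₃` or `D₁₀`.
-/

set_option autoImplicit false
set_option linter.unusedSectionVars false
set_option linter.style.haveILetI false

namespace CfsgLib.SpecSix

open Cfsg

universe u

variable {K : Type u} [Group K] [Finite K]

theorem zpowers_isPGroup_of_sq {e : K} (he : e * e = 1) : IsPGroup 2 (Subgroup.zpowers e) := by
  rintro ⟨a, ha⟩
  obtain ⟨i, rfl⟩ := Subgroup.mem_zpowers_iff.mp ha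
  refine ⟨1, Subtype.ext ?_⟩
  rw [pow_one, Subgroup.coe_pow, ← zpow_natCast, ← zpow_mul, mul_comm, zpow_mul, zpow_natCast, pow_two, he,
    one_zpow, Subgroup.coe_one]

/-- A central involution lies in the 2-core. -/
theorem not_central_of_core (hO : pCore 2 K = ⊥) {e : K} (he : e * e = 1) (h1 : e ≠ 1) :
    Subgroup.centralizer ({e} : Set K) ≠ ⊤ := by
  intro htop
  haveI : (Subgroup.zpowers e).Normal := ⟨fun a ha g => by
    obtain ⟨i, rfl⟩ := Subgroup.mem_zpowers_iff.mp ha
    have hc : Commute g e := Subgroup.mem_centralizer_singleton_iff.mp (htop ▸ Subgroup.mem_top g)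
    rw [(hc.zpow_right i).eq, mul_inv_cancel_right]
    exact Subgroup.zpow_mem_zpowers e i⟩
  exact h1 (Subgroup.mem_bot.mp (hO ▸ CfsgLib.le_pCore (zpowers_isPGroup_of_sq he) (Subgroup.mem_zpowers e)))

/-- **The top of a solvable minimal parabolic.** -/
theorem Six.parab_top (h : Six K) [Group.IsSolvable K] (hO : pCore 2 K = ⊥) (S : Subgroup K)
    (hS2 : IsPGroup 2 S) (hodd : ¬ 2 ∣ S.index) (hsq : ∀ s ∈ S, s * s = 1) (hSne : S ≠ ⊥)
    (hshape : Nat.card K ∣ 10 ∨
      (¬ 5 ∣ Nat.card K ∧ Subgroup.centralizer (pCore 3 K : Set K) ≤ pCore 3 K))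
    (M : Subgroup K) (hM : M ≠ ⊤) (hMu : ∀ H : Subgroup K, S ≤ H → H ≠ ⊤ → H ≤ M) :
    Nat.card K = 6 ∨ Nat.card K = 10 := by
  haveI : Fact (Nat.Prime 2) := ⟨Nat.prime_two⟩
  haveI : Fact (Nat.Prime 3) := ⟨Nat.prime_three⟩
  haveI hSc : IsMulCommutative S := isMulCommutative_of_sq hsq
  haveI : Nontrivial S := S.nontrivial_iff_ne_bot.mpr hSne
  have h2S : 2 ∣ Nat.card S := by
    obtain ⟨n, hn, hc⟩ := hS2.nontrivial_iff_card.mp inferInstance
    exact hc ▸ dvd_pow_self 2 hn.ne'
  have h2K : 2 ∣ Nat.card K := h2S.trans (Subgroup.card_subgroup_dvd_card S)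
  rcases hshape with h10 | ⟨h5, hcent⟩
  · right
    obtain ⟨c, hc⟩ := h2K
    rcases (Nat.dvd_prime (by norm_num : Nat.Prime 5)).mp (Nat.dvd_of_mul_dvd_mul_left (by norm_num : 0 < 2)
      (show 2 * c ∣ 2 * 5 from hc ▸ h10)) with h1 | h1
    · -- order two
      exfalso
      have hp : IsPGroup 2 (⊤ : Subgroup K) :=
        IsPGroup.of_card (n := 1) (by rw [Subgroup.card_top, hc, h1]; norm_num)
      exact hSne (le_bot_iff.mp (hO ▸ le_top.trans (CfsgLib.le_pCore hp)))
    · rw [hc, h1]
  left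
  set R := pCore 3 K with hRd
  have hR3 : IsPGroup 3 R := isPGroup_pCore _
  have hRexp : ∀ r ∈ R, r ^ 3 = 1 := fun r hr => by
    obtain ⟨j, hj⟩ := hR3 ⟨r, hr⟩
    exact h.pow_eq_one (Or.inl rfl) (congrArg Subtype.val hj)
  haveI : R.Normal := by rw [hRd]; infer_instance
  -- the top is the 3-core times the Sylow 2-subgroup
  have hRS : R ⊔ S = ⊤ := by
    by_contra hne
    have hRM : R ≤ M := le_sup_left.trans (hMu _ le_sup_right hne)
    set N := (pCore 2 (K ⧸ R)).comap (QuotientGroup.mk' R) with hN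
    haveI : N.Normal := by rw [hN]; infer_instance
    have hrel : ¬ 2 ∣ S.relIndex N := fun hd => hodd (hd.trans (by
      have h1 := CfsgLib.JComp.card_sup_mul_card_inf (A := S) (B := N)
        (by rw [Subgroup.normalizer_eq_top]; exact le_top)
      have h2 := CfsgLib.Products.card_mul_relIndex_of_le (le_sup_left : S ≤ S ⊔ N)
      have h3 := CfsgLib.Products.card_inf_mul_relIndex S N
      have e : S.relIndex N = S.relIndex (S ⊔ N) := by
        rw [← h2, ← h3, mul_assoc] at h1
        have h1' := Nat.eq_of_mul_eq_mul_left Nat.card_pos h1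
        rw [mul_comm] at h1'
        exact (Nat.eq_of_mul_eq_mul_left Nat.card_pos h1').symm
      rw [e]
      exact Dvd.intro _ (Subgroup.relIndex_mul_index le_sup_left)))
    let P : Sylow 2 N :=
      (hS2.comap_of_injective N.subtype N.subtype_injective : IsPGroup 2 (S.subgroupOf N)).toSylow hrel
    have hPmap : (P : Subgroup N).map N.subtype = S ⊓ N := Subgroup.subgroupOf_map_subtype S N
    have hfr := Sylow.normalizer_sup_eq_top P
    rw [hPmap] at hfr
    have hSn : S ≤ Subgroup.normalizer ((S ⊓ N : Subgroup K) : Set K) := fun s hs => by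
      rw [Subgroup.mem_normalizer_iff]
      intro x
      have hcomm : ∀ y ∈ S, s * y * s⁻¹ = y := fun y hy => by
        rw [show s * y = y * s from congrArg Subtype.val (hSc.is_comm.comm ⟨s, hs⟩ ⟨y, hy⟩), mul_inv_cancel_right]
      constructor
      · intro hx; rwa [hcomm x hx.1]
      · intro hx
        have e := hcomm _ hx.1
        have : s * x * s⁻¹ = x := by
          calc s * x * s⁻¹ = s⁻¹ * (s * (s * x * s⁻¹) * s⁻¹) * s := by group
            _ = s⁻¹ * (s * x * s⁻¹) * s := by rw [e]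
            _ = x := by group
        rwa [this] at hx
    have hNS : N ≤ R ⊔ S := by
      intro n hn
      -- `N` is `R` times a 2-subgroup of `N`
      have hd : ¬ 2 ∣ (R ⊔ S ⊓ N).relIndex N := fun hd => hrel (hd.trans (by
        rw [← Subgroup.inf_relIndex_right S N]
        exact Subgroup.relIndex_dvd_of_le_left N le_sup_right))
      have hp : ∃ j, (R ⊔ S ⊓ N).relIndex N = 2 ^ j := by
        have hle : R ≤ N := by
          rw [hN]; intro r hr; rw [Subgroup.mem_comap, QuotientGroup.mk'_apply,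
            (QuotientGroup.eq_one_iff r).mpr hr]; exact one_mem _
        have hdv : (R ⊔ S ⊓ N).relIndex N ∣ R.relIndex N := Subgroup.relIndex_dvd_of_le_left N le_sup_left
        obtain ⟨i, hi⟩ := IsPGroup.iff_card.mp (isPGroup_pCore (G := K ⧸ R) 2)
        have hcard : R.relIndex N = 2 ^ i := by
          have h1 := CfsgLib.Products.card_mul_relIndex_of_le hle
          rw [hN, CfsgLib.card_comap_mk, hi] at h1
          exact Nat.eq_of_mul_eq_mul_left Nat.card_pos h1
        obtain ⟨j, -, hj⟩ := (Nat.dvd_prime_pow Nat.prime_two).mp (hcard ▸ hdv)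
        exact ⟨j, hj⟩
      obtain ⟨j, hj⟩ := hp
      have hj0 : j = 0 := by
        by_contra hj0
        exact hd (hj ▸ dvd_pow_self 2 hj0)
      rw [hj0, pow_zero] at hj
      exact (sup_le_sup_left inf_le_left R) (Subgroup.relIndex_eq_one.mp hj hn)
    have hNtop : Subgroup.normalizer ((S ⊓ N : Subgroup K) : Set K) = ⊤ := by
      by_contra hne'
      refine hM (top_le_iff.mp (hfr ▸ sup_le (hMu _ hSn hne') ?_))
      exact hNS.trans (hMu _ le_sup_right hne)
    haveI : (S ⊓ N).Normal := Subgroup.normalizer_eq_top_iff.mp hNtop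
    have hSN : S ⊓ N = ⊥ := le_bot_iff.mp (hO ▸ CfsgLib.le_pCore (hS2.to_le inf_le_left))
    have hK2 : pCore 2 (K ⧸ R) = ⊥ := by
      obtain ⟨i, hi⟩ := IsPGroup.iff_card.mp (isPGroup_pCore (G := K ⧸ R) 2)
      have hd : ¬ 2 ∣ Nat.card N := by
        rw [← Subgroup.relIndex_bot_left, ← hSN, Subgroup.inf_relIndex_right]; exact hrel
      refine Subgroup.card_eq_one.mp ?_
      rw [hi]
      rcases Nat.eq_zero_or_pos i with rfl | hi0
      · rfl
      · refine absurd ?_ hd
        rw [hN, CfsgLib.card_comap_mk, hi]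
        exact (dvd_pow_self 2 hi0.ne').mul_left _
    have hK3 : pCore 3 (K ⧸ R) = ⊥ := by
      have hp : IsPGroup 3 ((pCore 3 (K ⧸ R)).comap (QuotientGroup.mk' R)) := by
        refine (isPGroup_pCore (G := K ⧸ R) 3).comap_of_ker_isPGroup _ ?_
        rw [QuotientGroup.ker_mk']; exact hR3
      have hle := CfsgLib.le_pCore hp
      refine (Subgroup.eq_bot_iff_forall _).mpr fun a ha => ?_
      obtain ⟨y, rfl⟩ := QuotientGroup.mk'_surjective R a
      exact (QuotientGroup.eq_one_iff y).mpr (hle ha)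
    have hF : fittingSubgroup (K ⧸ R) = ⊥ := by
      rw [fittingSubgroup_eq_iSup_pCore, eq_bot_iff]
      refine iSup_le fun q => ?_
      by_contra hne'
      rw [le_bot_iff] at hne'
      haveI := Fact.mk q.2
      obtain ⟨n, hn⟩ := IsPGroup.iff_card.mp (isPGroup_pCore (G := K ⧸ R) (q : ℕ))
      have hn0 : n ≠ 0 := fun e => hne' (Subgroup.card_eq_one.mp (by rw [hn, e, pow_zero]))
      have hqd : (q : ℕ) ∣ Nat.card (K ⧸ R) := (hn ▸ dvd_pow_self _ hn0).trans (Subgroup.card_subgroup_dvd_card _)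
      rcases h.prime_cases q.2 (hqd.trans (Subgroup.card_quotient_dvd_card R)) with e | e | e
      · exact hne' (e ▸ hK2)
      · exact hne' (e ▸ hK3)
      · exact h5 (e ▸ hqd.trans (Subgroup.card_quotient_dvd_card R))
    have htop : (⊤ : Subgroup (K ⧸ R)) ≤ ⊥ := by
      refine le_trans ?_ ((centralizer_fitting_le (G := K ⧸ R)).trans hF.le)
      rw [hF]
      intro a _ b hb
      rw [Subgroup.coe_bot, Set.mem_singleton_iff] at hb
      simp [hb]
    exact hne (top_le_iff.mp (le_trans (fun a _ => (QuotientGroup.eq_one_iff a).mp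
      (Subgroup.mem_bot.mp (htop (Subgroup.mem_top _)))) le_sup_left))
  have hproper : ∀ e ∈ S, e ≠ 1 → R ⊓ Subgroup.centralizer {e} ≤ M := by
    intro e he he1
    refine le_sup_left.trans (hMu ((R ⊓ Subgroup.centralizer {e}) ⊔ S) le_sup_right fun htop => ?_)
    refine not_central_of_core hO (hsq e he) he1 (top_le_iff.mp (htop ▸ sup_le inf_le_right fun s hs => ?_))
    rw [Subgroup.mem_centralizer_singleton_iff]
    exact congrArg Subtype.val (hSc.is_comm.comm (⟨s, hs⟩ : S) ⟨e, he⟩)
  have hSM : S ≤ M := hMu S le_rfl fun e => by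
    obtain ⟨n, hn⟩ := IsPGroup.iff_card.mp hS2
    exact hSne (le_bot_iff.mp (hO ▸ le_top.trans (CfsgLib.le_pCore
      (N := (⊤ : Subgroup K)) (IsPGroup.of_card (n := n) (by rw [← e, hn])))))
  have hRM : ¬ R ≤ M := fun hle => hM (top_le_iff.mp (hRS ▸ sup_le hle hSM))
  obtain ⟨⟨e, he⟩, hne⟩ := Subgroup.ne_bot_iff_exists_ne_one.mp hSne
  have he1 : e ≠ 1 := fun e1 => hne (Subtype.ext e1)
  have hSe : S = Subgroup.zpowers e := by
    refine le_antisymm (fun e' he' => ?_) (Subgroup.zpowers_le.mpr he)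
    by_contra hnot
    set A := Subgroup.closure ({e, e'} : Set K) with hA
    have hAS : A ≤ S := (Subgroup.closure_le _).mpr (by rintro a (rfl | rfl); exacts [he, he'])
    haveI : IsMulCommutative A := ⟨⟨fun a b => Subtype.ext (show (a : K) * b = (b : K) * a from
      congrArg (fun z : S => (z : K)) (hSc.is_comm.comm (⟨a, hAS a.2⟩ : S) ⟨b, hAS b.2⟩))⟩⟩
    have hAcyc : ¬ IsCyclic A := by
      intro hc
      obtain ⟨g, hg⟩ := hc.exists_ofOrder_eq_natCard (α := A)
      have h2 : Nat.card A ≤ 2 := by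
        rw [← hg, ← Subgroup.orderOf_coe]
        exact Nat.le_of_dvd (by norm_num) (orderOf_dvd_of_pow_eq_one (by rw [pow_two]; exact hsq _ (hAS g.2)))
      have hz : Subgroup.zpowers e = A := Subgroup.eq_of_le_of_card_ge
        (Subgroup.zpowers_le.mpr (Subgroup.subset_closure (Set.mem_insert _ _)))
        (by rw [Nat.card_zpowers, orderOf_eq_prime (by rw [pow_two]; exact hsq e he) he1]; exact h2)
      exact hnot (hz ▸ Subgroup.subset_closure (Set.mem_insert_of_mem _ rfl))
    have hgen := coprime_generated_by_centralizers (A := A) (K := R) hAcyc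
      (by rw [Subgroup.normalizer_eq_top]; exact le_top) (by
        obtain ⟨i, hi⟩ := IsPGroup.iff_card.mp (hS2.to_le hAS)
        obtain ⟨j, hj⟩ := IsPGroup.iff_card.mp hR3
        rw [hi, hj]; exact Nat.Coprime.pow _ _ (by norm_num))
    exact hRM (hgen ▸ iSup₂_le fun a ha => hproper a (hAS ha.1) ha.2)
  -- some element inverted by the involution generates the top with it
  have hee : e * e = 1 := hsq e he
  have hei : e⁻¹ = e := inv_eq_of_mul_eq_one_left hee
  obtain ⟨f, hfR, hfinv, hftop⟩ : ∃ f ∈ R, e * f * e⁻¹ = f⁻¹ ∧ Subgroup.zpowers f ⊔ S = ⊤ := by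
    by_contra hno
    push Not at hno
    refine hRM fun x hx => ?_
    set f := x⁻¹ * (e * x * e⁻¹) with hf
    have hfR : f ∈ R := mul_mem (inv_mem hx) (Subgroup.Normal.conj_mem ‹_› x hx e)
    have hfinv : e * f * e⁻¹ = f⁻¹ := by
      calc e * f * e⁻¹ = (e * x⁻¹ * e⁻¹) * ((e * e) * x * (e * e)⁻¹) := by rw [hf]; group
        _ = f⁻¹ := by rw [hee, hf]; group
    have hfM : f ∈ M :=
      hMu _ le_sup_right (hno f hfR hfinv) ((le_sup_left : Subgroup.zpowers f ≤ _) (Subgroup.mem_zpowers f))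
    have hcM : x * f⁻¹ ∈ M := by
      refine hproper e he he1 ⟨mul_mem hx (R.inv_mem hfR), Subgroup.mem_centralizer_singleton_iff.mpr ?_⟩
      have hff : f * f = f⁻¹ := eq_inv_of_mul_eq_one_left (by
        rw [← hRexp f hfR, pow_succ, pow_succ, pow_one])
      have hxe : e * x * e⁻¹ = x * f := by rw [hf]; group
      calc x * f⁻¹ * e = x * (f * f) * e := by rw [hff]
        _ = (x * f) * (e * f⁻¹ * e⁻¹) * e := by rw [← conj_inv, hfinv, inv_inv]; group
        _ = e * (x * f⁻¹) := by rw [← hxe]; group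
    have : x = x * f⁻¹ * f := by group
    rw [this]; exact mul_mem hcM hfM
  have hf1 : f ≠ 1 := fun e1 => hSne (le_bot_iff.mp (hO ▸ le_top.trans (CfsgLib.le_pCore (N := (⊤ : Subgroup K))
    (by rw [← hftop, e1, Subgroup.zpowers_one_eq_bot, bot_sup_eq]; exact hS2))))
  have hfo : orderOf f = 3 := orderOf_eq_prime (hRexp f hfR) hf1
  have hnorm : S ≤ Subgroup.normalizer (Subgroup.zpowers f : Set K) := by
    rw [hSe, Subgroup.zpowers_le, Subgroup.mem_normalizer_iff]
    intro y
    constructor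
    · intro hy
      obtain ⟨i, rfl⟩ := Subgroup.mem_zpowers_iff.mp hy
      rw [← conj_zpow, hfinv, inv_zpow]; exact inv_mem (Subgroup.zpow_mem_zpowers f i)
    · intro hy
      obtain ⟨i, hi⟩ := Subgroup.mem_zpowers_iff.mp hy
      have : y = e * f ^ i * e⁻¹ := by
        calc y = (e * e) * y * (e * e)⁻¹ := by rw [hee]; group
          _ = e * f ^ i * e⁻¹ := by rw [hi]; group
      rw [this, ← conj_zpow, hfinv, inv_zpow]; exact inv_mem (Subgroup.zpow_mem_zpowers f i)
  have hcard := CfsgLib.JComp.card_sup_mul_card_inf hnorm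
  have hS2c : Nat.card S = 2 := by
    rw [hSe, Nat.card_zpowers]; exact orderOf_eq_prime (by rw [pow_two]; exact hee) he1
  have hinf : S ⊓ Subgroup.zpowers f = ⊥ :=
    disjoint_iff.mp (Subgroup.disjoint_of_coprime_natCard (by rw [hS2c, Nat.card_zpowers, hfo]; norm_num))
  rw [sup_comm, hftop, hinf, Subgroup.card_bot, Subgroup.card_top, Nat.card_zpowers, hfo, hS2c, mul_one] at hcard
  exact hcard

end CfsgLib.SpecSix
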