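import Cfsg.Agent.Lib.SpecSix.Local
import Cfsg.Agent.Lib.SpecSix.ParabTop

/-!
Element orders at most six: minimal parabolics.
-/

set_option autoImplicit false
set_option linter.unusedSectionVars false
set_option linter.style.haveILetI false

namespace CfsgLib.SpecSix

open Cfsg

universe u

variable {G : Type u} [Group G] [Finite G] {T P : Subgroup G}

/-- An overgroup of `T` is generated by the normalizer of `T` and the minimal parabolics it contains. -/
theorem le_of_parab {X M : Subgroup G} (hT : T ≤ X) (hF : ∀ H, T ≤ H → H ≤ X → Frame T H)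
    (hN : X ⊓ Subgroup.normalizer (T : Set G) ≤ M) (hP : ∀ P ≤ X, Parab T P → P ≤ M) : X ≤ M := by
  suffices ∀ n, ∀ H : Subgroup G, Nat.card H = n → T ≤ H → H ≤ X → H ≤ M from this _ X rfl hT le_rfl
  intro n
  induction n using Nat.strong_induction_on with
  | _ n ih =>
  intro H hn hTH hHX
  by_cases hnor : H ≤ Subgroup.normalizer (T : Set G)
  · exact le_trans (le_inf hHX hnor) hN
  have hlt : T < H := lt_of_le_of_ne hTH fun e => hnor (e ▸ Subgroup.le_normalizer)
  obtain ⟨M1, ⟨hM1T, hM1⟩, hmax⟩ := Set.Finite.exists_maximal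
    (Set.toFinite {K : Subgroup G | T ≤ K ∧ K < H}) ⟨T, le_rfl, hlt⟩
  by_cases hall : ∀ K : Subgroup G, T ≤ K → K < H → K ≤ M1
  · exact hP H hHX ⟨hF H hTH hHX, hnor, M1, hM1, hall⟩
  push Not at hall
  obtain ⟨K, hK1, hK2, hK3⟩ := hall
  have key : ∀ L : Subgroup G, T ≤ L → L < H → L ≤ M := fun L hL hLH =>
    ih _ (hn ▸ lt_of_not_ge fun hge => hLH.ne (Subgroup.eq_of_le_of_card_ge hLH.le hge)) L rfl hL
      (hLH.le.trans hHX)
  have htop : M1 ⊔ K = H := by
    by_contra hne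
    exact hK3 (le_trans le_sup_right
      (hmax ⟨hM1T.trans le_sup_left, lt_of_le_of_ne (sup_le hM1.le hK2.le) hne⟩ le_sup_left))
  rw [← htop]
  exact sup_le (key M1 hM1T hM1) (key K hK1 hK2)

theorem Frame.relIndex_eq (h : Frame T P) :
    (pCoreOf 2 P).relIndex T * T.relIndex P = (pCoreOf 2 P).relIndex P :=
  Subgroup.relIndex_mul_relIndex _ _ _ h.core_le_T h.le

theorem Frame.card_eq (h : Frame T P) : Nat.card (pCoreOf 2 P) * (pCoreOf 2 P).relIndex T = Nat.card T :=
  CfsgLib.Products.card_mul_relIndex_of_le h.core_le_T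

/-- A solvable minimal parabolic has top `S₃` or `D₁₀`. -/
theorem Parab.index_solvable (hP : Parab T P) (h : Six G) [hs : Group.IsSolvable P] :
    (pCoreOf 2 P).relIndex P = 6 ∨ (pCoreOf 2 P).relIndex P = 10 := by
  haveI : Fact (Nat.Prime 2) := ⟨Nat.prime_two⟩
  rw [core_relIndex]
  set Q := pCore 2 P with hQ
  haveI : Q.Normal := by rw [hQ]; infer_instance
  have hQ2 : IsPGroup 2 Q := CfsgLib.isPGroup_pCore 2
  have hP6 : Six P := h.subgroup P
  have hC := hP.cent_group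
  have hO : pCore 2 (P ⧸ Q) = ⊥ := CfsgLib.ZJ.pCore_quotient_pCore_eq_bot
  set π := QuotientGroup.mk' Q with hπ
  have hπs : Function.Surjective π := QuotientGroup.mk'_surjective Q
  set T0 := T.subgroupOf P with hT0
  have hT02 : IsPGroup 2 T0 := hP.two.comap_of_injective P.subtype P.subtype_injective
  have hodd0 : ¬ 2 ∣ T0.index := fun hd => Nat.not_even_iff_odd.mpr hP.odd (even_iff_two_dvd.mpr hd)
  have hQT : Q ≤ T0 := by
    rw [hQ, ← core_subgroupOf]; exact Subgroup.comap_mono hP.core_le_T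
  set S := T0.map π with hS
  have hS2 : IsPGroup 2 S := hT02.map π
  have hSidx : ¬ 2 ∣ S.index := fun hd => hodd0 (hd.trans (Subgroup.index_map_dvd T0 hπs))
  have hsq : ∀ s ∈ S, s * s = 1 := by
    rintro _ ⟨y, hy, rfl⟩
    obtain ⟨j, hj⟩ := hT02 ⟨y, hy⟩
    rw [← map_mul]
    exact (QuotientGroup.eq_one_iff _).mpr (hP6.sq_mem Q hQ2 hC hO (congrArg Subtype.val hj))
  have hcomap : S.comap π = T0 := by
    rw [hS, Subgroup.comap_map_eq, hπ, QuotientGroup.ker_mk']; exact sup_eq_left.mpr hQT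
  have hSne : S ≠ ⊥ := by
    intro e
    apply hP.not_normal
    have : T0 = Q := by rw [← hcomap, e, MonoidHom.comap_bot, hπ, QuotientGroup.ker_mk']
    rw [← Subgroup.normal_subgroupOf_iff_le_normalizer hP.le, ← hT0, this]
    infer_instance
  obtain ⟨M, hMP, hMu⟩ := hP.unique
  have hTM : T ≤ M := hMu T le_rfl (lt_of_le_of_ne hP.le fun e => hP.not_normal (e ▸ Subgroup.le_normalizer))
  set M' := (M.subgroupOf P).map π with hM'
  have hQM : Q ≤ M.subgroupOf P := hQT.trans (Subgroup.comap_mono hTM)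
  have hM'top : M' ≠ ⊤ := fun e => by
    have e' : M'.comap π = M.subgroupOf P := by
      rw [hM', Subgroup.comap_map_eq, hπ, QuotientGroup.ker_mk']; exact sup_eq_left.mpr hQM
    rw [e, Subgroup.comap_top, eq_comm, Subgroup.subgroupOf_eq_top] at e'
    exact hMP.not_ge e'
  have hMu' : ∀ H : Subgroup (P ⧸ Q), S ≤ H → H ≠ ⊤ → H ≤ M' := by
    intro H hSH hH
    set H0 := (H.comap π).map P.subtype with hH0
    have h1 : T ≤ H0 := by
      rw [← Subgroup.map_subgroupOf_eq_of_le hP.le, ← hT0, ← hcomap]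
      exact Subgroup.map_mono (Subgroup.comap_mono hSH)
    have h2 : H0 < P := by
      refine lt_of_le_of_ne (Subgroup.map_subtype_le _) fun e => hH ?_
      have e' : H.comap π = ⊤ := by
        have := congrArg (fun L : Subgroup G => L.subgroupOf P) e
        rwa [show (H0.subgroupOf P) = H.comap π from Subgroup.comap_map_eq_self_of_injective P.subtype_injective _,
          Subgroup.subgroupOf_self] at this
      rw [← Subgroup.map_comap_eq_self_of_surjective hπs H, e', Subgroup.map_top_of_surjective _ hπs]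
    rw [← Subgroup.map_comap_eq_self_of_surjective hπs H, hM']
    refine Subgroup.map_mono fun y hy => ?_
    exact hMu H0 h1 h2 ⟨y, hy, rfl⟩
  refine (hP6.quotient Q).parab_top hO S hS2 hSidx hsq hSne ?_ M' hM'top hMu'
  rcases hP6.top_shape hQ2 hC hO with ⟨-, h10⟩ | h3
  · exact Or.inl h10
  · exact Or.inr h3

/-- The elements of a parabolic with top `S₃` or `D₁₀`. -/
theorem Parab.di (hP : Parab T P) (h : Six G) {p : ℕ} (hp : p = 3 ∨ p = 5)
    (hi : (pCoreOf 2 P).relIndex P = 2 * p) :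
    (pCoreOf 2 P).relIndex T = 2 ∧ ∃ x ∈ P, ∃ t ∈ T, orderOf x = p ∧ x ∉ T ∧ t ∉ pCoreOf 2 P ∧
      t * t ∈ pCoreOf 2 P ∧ t * x * t⁻¹ * x ∈ pCoreOf 2 P ∧ T ⊔ Subgroup.zpowers x = P ∧
      ∀ s ∈ T, s ∉ pCoreOf 2 P → s⁻¹ * t ∈ pCoreOf 2 P := by
  haveI : Fact (Nat.Prime 2) := ⟨Nat.prime_two⟩
  have hpp : p.Prime := by rcases hp with rfl | rfl <;> norm_num
  haveI := Fact.mk hpp
  set Q := pCoreOf 2 P with hQdef
  have hQT := hP.core_le_T
  have hmul := hP.toFrame.relIndex_eq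
  rw [← hQdef, hi] at hmul
  have h2 : Q.relIndex T = 2 := by
    obtain ⟨n, hn⟩ := IsPGroup.iff_card.mp hP.two
    obtain ⟨j, -, hj⟩ := (Nat.dvd_prime_pow Nat.prime_two).mp
      (show Q.relIndex T ∣ 2 ^ n from hn ▸ Subgroup.relIndex_dvd_card Q T)
    rw [hj] at hmul ⊢
    obtain ⟨c, hc⟩ := hP.odd
    rcases j with _ | _ | j
    · exfalso; rw [pow_zero, one_mul] at hmul; omega
    · norm_num
    · exfalso
      rw [show 2 ^ (j + 1 + 1) = 4 * 2 ^ j by rw [pow_succ, pow_succ]; ring] at hmul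
      have : 4 * (2 ^ j * T.relIndex P) = 2 * p := by rw [← mul_assoc]; exact hmul
      rcases hp with rfl | rfl <;> omega
  have hTP : T.relIndex P = p := by rw [h2] at hmul; omega
  refine ⟨h2, ?_⟩
  haveI : (Q.subgroupOf P).Normal := by rw [hQdef, core_subgroupOf]; infer_instance
  have hcardK : Nat.card (P ⧸ Q.subgroupOf P) = 2 * p := by rw [← Subgroup.index_eq_card]; exact hi
  obtain ⟨a, ha⟩ := exists_prime_orderOf_dvd_card' (G := P ⧸ Q.subgroupOf P) p (hcardK ▸ dvd_mul_left p 2)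
  obtain ⟨y, hy⟩ := QuotientGroup.mk_surjective a
  obtain ⟨x, hxa, hxo⟩ : ∃ x : P, (x : P ⧸ Q.subgroupOf P) = a ∧ orderOf (x : G) = p := by
    have h6 := h (y : G)
    rw [Subgroup.orderOf_coe] at h6
    have hd : p ∣ orderOf y := by
      have := orderOf_map_dvd (QuotientGroup.mk' (Q.subgroupOf P)) y
      rwa [QuotientGroup.mk'_apply, hy, ha] at this
    obtain ⟨c, hc⟩ := hd
    have hpos := orderOf_pos y
    rcases hp with rfl | rfl
    · rcases c with _ | _ | _ | c
      · omega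
      · exact ⟨y, hy, by rw [Subgroup.orderOf_coe, hc]⟩
      · refine ⟨y ^ 4, ?_, ?_⟩
        · rw [QuotientGroup.mk_pow, hy, show 4 = 3 + 1 from rfl, pow_succ, ← ha, pow_orderOf_eq_one, one_mul]
        · rw [Subgroup.orderOf_coe, orderOf_pow' y (by norm_num), hc]; norm_num
      · omega
    · rcases c with _ | _ | c
      · omega
      · exact ⟨y, hy, by rw [Subgroup.orderOf_coe, hc]⟩
      · omega
  obtain ⟨t, ht, htQ⟩ : ∃ t ∈ T, t ∉ Q := by
    by_contra hno
    push Not at hno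
    rw [Subgroup.relIndex_eq_one.mpr hno] at h2
    omega
  have hTK : ∀ s ∈ T, s ∉ Q → ∀ r ∈ T, r ∉ Q → s⁻¹ * r ∈ Q := by
    intro s hs hsQ r hr hrQ
    haveI hQn : (Q.subgroupOf T).Normal :=
      (Subgroup.normal_subgroupOf_iff_le_normalizer hQT).mpr (hP.le.trans (le_normalizer_core P))
    have hidx : (Q.subgroupOf T).index = 2 := h2
    have := (Subgroup.mul_mem_iff_of_index_two hidx (a := (⟨s, hs⟩ : T)⁻¹) (b := ⟨r, hr⟩)).mpr
      (by simp [Subgroup.mem_subgroupOf, hsQ, hrQ])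
    exact this
  have ht2 : t * t ∈ Q := by
    haveI hQn : (Q.subgroupOf T).Normal :=
      (Subgroup.normal_subgroupOf_iff_le_normalizer hQT).mpr (hP.le.trans (le_normalizer_core P))
    exact (Subgroup.mul_mem_iff_of_index_two (h2 : (Q.subgroupOf T).index = 2) (a := (⟨t, ht⟩ : T))
      (b := ⟨t, ht⟩)).mpr Iff.rfl
  have hxT : (x : G) ∉ T := by
    intro hxT
    obtain ⟨n, hn⟩ := IsPGroup.iff_card.mp hP.two
    have hd : p ∣ 2 ^ n := by rw [← hxo, ← hn]; exact Subgroup.orderOf_dvd_natCard T hxT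
    have := (Nat.prime_dvd_prime_iff_eq hpp Nat.prime_two).mp (hpp.dvd_of_dvd_pow hd)
    omega
  have hgen : T ⊔ Subgroup.zpowers (x : G) = P := by
    have hle : T ⊔ Subgroup.zpowers (x : G) ≤ P := sup_le hP.le (Subgroup.zpowers_le.mpr x.2)
    have hmul2 := Subgroup.relIndex_mul_relIndex T _ P le_sup_left hle
    rw [hTP] at hmul2
    rcases (Nat.dvd_prime hpp).mp (Dvd.intro _ hmul2) with e | e
    · exact absurd ((Subgroup.relIndex_eq_one.mp e) (Subgroup.mem_sup_right (Subgroup.mem_zpowers _))) hxT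
    · rw [e] at hmul2
      exact le_antisymm hle (Subgroup.relIndex_eq_one.mp
        (Nat.eq_of_mul_eq_mul_left hpp.pos (hmul2.trans (mul_one p).symm)))
  -- the element of order two inverts
  set b : P ⧸ Q.subgroupOf P := ((⟨t, hP.le ht⟩ : P) : P ⧸ Q.subgroupOf P) with hb
  have hb2 : b * b = 1 := by
    rw [hb, ← QuotientGroup.mk_mul, QuotientGroup.eq_one_iff]; exact ht2
  have hnorm : (Subgroup.zpowers a).Normal := by
    refine Subgroup.normal_of_index_eq_two ?_
    have := (Subgroup.zpowers a).card_mul_index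
    rw [Nat.card_zpowers, ha, hcardK, mul_comm 2 p] at this
    exact Nat.eq_of_mul_eq_mul_left hpp.pos this
  obtain ⟨n, hbn, hnp⟩ : ∃ n : ℕ, b * a * b⁻¹ = a ^ n ∧ n < p := by
    obtain ⟨i, hbi⟩ := Subgroup.mem_zpowers_iff.mp (hnorm.conj_mem a (Subgroup.mem_zpowers a) b)
    refine ⟨(i % p).toNat, ?_, ?_⟩
    · rw [← hbi, ← zpow_natCast, Int.toNat_of_nonneg (Int.emod_nonneg _ (by exact_mod_cast hpp.pos.ne')), ← ha]
      exact (zpow_mod_orderOf a i).symm
    · have := Int.emod_lt_of_pos i (show (0 : ℤ) < p by exact_mod_cast hpp.pos)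
      omega
  have hbinv : b⁻¹ = b := inv_eq_of_mul_eq_one_left hb2
  have hnn : a ^ (n * n) = a ^ 1 := by
    rw [pow_mul, ← hbn, conj_pow, ← hbn, pow_one, hbinv, ← mul_assoc, ← mul_assoc, hb2, one_mul, mul_assoc, hb2,
      mul_one]
  rw [pow_eq_pow_iff_modEq, ha] at hnn
  have hn1 : n ≠ 1 := by
    rintro rfl
    rw [pow_one, mul_inv_eq_iff_eq_mul] at hbn
    apply hP.not_normal
    rw [← hgen, sup_le_iff, Subgroup.zpowers_le]
    refine ⟨Subgroup.le_normalizer, ?_⟩
    have key : ∀ s ∈ T, (x : G) * s * (x : G)⁻¹ ∈ T := by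
      intro s hs
      have hQn : (x : G) * s * (x : G)⁻¹ * s⁻¹ ∈ Q := by
        have hmem : (x * ⟨s, hP.le hs⟩ * x⁻¹ * (⟨s, hP.le hs⟩ : P)⁻¹ : P) ∈ Q.subgroupOf P := by
          rw [← QuotientGroup.eq_one_iff]
          simp only [QuotientGroup.mk_mul, QuotientGroup.mk_inv, hxa]
          by_cases hsQ : s ∈ Q
          · rw [(QuotientGroup.eq_one_iff (⟨s, hP.le hs⟩ : P)).mpr hsQ]; group
          · have e : ((⟨s, hP.le hs⟩ : P) : P ⧸ Q.subgroupOf P) = b := by
              rw [hb, QuotientGroup.eq]; exact hTK s hs hsQ t ht htQ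
            rw [e, ← hbn]; group
        exact hmem
      have : (x : G) * s * (x : G)⁻¹ = ((x : G) * s * (x : G)⁻¹ * s⁻¹) * s := by group
      rw [this]
      exact mul_mem (hQT hQn) hs
    exact CfsgLib.JComp.mem_normalizer_of_conj_mem key
  have hinv : b * a * b⁻¹ * a = 1 := by
    rw [hbn, ← pow_succ, ← orderOf_dvd_iff_pow_eq_one, ha]
    rcases hp with rfl | rfl <;> interval_cases n <;> simp_all [Nat.ModEq]
  refine ⟨x, x.2, t, ht, hxo, hxT, htQ, ht2, ?_, hgen, fun s hs hsQ => hTK s hs hsQ t ht htQ⟩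
  rw [← hxa, hb, ← QuotientGroup.mk_mul, ← QuotientGroup.mk_inv, ← QuotientGroup.mk_mul,
    ← QuotientGroup.mk_mul, QuotientGroup.eq_one_iff] at hinv
  exact hinv

end CfsgLib.SpecSix
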