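import Cfsg.Agent.Lib.SpecSix.FourThree
import Cfsg.Agent.Lib.SpecSix.Lines
import Cfsg.Agent.Lib.SpecSix.Orbit
import Cfsg.Agent.Lib.SpecSix.Parabolic
import Cfsg.Agent.Lib.SpecSix.Nonsolvable

/-!
Element orders at most six: a solvable overgroup of the Sylow normalizer of a parabolic with top `A₅` normalises
the Sylow 2-subgroup.
-/

set_option autoImplicit false
set_option linter.unusedSectionVars false
set_option linter.style.haveILetI false

namespace CfsgLib.SpecSix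

open Cfsg CfsgLib.SpecFive
open scoped Pointwise

universe u

local notation "A5" => alternatingGroup (Fin 5)

theorem U_norm : ∀ p : Fin 4, AltFive.U p * (AltFive.x * AltFive.U p * AltFive.x⁻¹) *
    (AltFive.x * (AltFive.x * AltFive.U p * AltFive.x⁻¹) * AltFive.x⁻¹) = 1 := by decide +kernel

variable {G : Type u} [Group G] [Finite G]

/-- Conjugation restricted to a normalised subgroup. -/
def conjOn {A : Subgroup G} {g : G} (hg : g ∈ Subgroup.normalizer (A : Set G)) : A →* A where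
  toFun a := ⟨g * a * g⁻¹, (Subgroup.mem_normalizer_iff.mp hg a).mp a.2⟩
  map_one' := Subtype.ext (by simp)
  map_mul' a b := Subtype.ext (by simp)

/-- An element of the Sylow subgroup centralised in the top by `y`, and one of order three it inverts. -/
theorem Frame.fixed_in_top {S L : Subgroup G} (hF : Frame S L) (h6 : Six G) [Group.IsSolvable L] {y : G}
    (hyL : y ∈ L) (hy3 : orderOf y = 3) (hyS : y ∈ Subgroup.normalizer (S : Set G))
    (hnS : ¬ L ≤ Subgroup.normalizer (S : Set G)) :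
    ∃ e ∈ S, e ∉ pCoreOf 2 L ∧ y * e * y⁻¹ * e⁻¹ ∈ pCoreOf 2 L ∧ ∃ x ∈ L, x ^ 3 = 1 ∧ x ∉ pCoreOf 2 L ∧
      x⁻¹ * y * x * y⁻¹ ∈ pCoreOf 2 L ∧ e * x * e⁻¹ * x ∈ pCoreOf 2 L := by
  classical
  haveI : Fact (Nat.Prime 2) := ⟨Nat.prime_two⟩
  haveI : Fact (Nat.Prime 3) := ⟨Nat.prime_three⟩
  have hL6 : Six L := h6.subgroup L
  set K := pCore 2 L with hK
  have hK2 : IsPGroup 2 K := CfsgLib.isPGroup_pCore 2
  haveI : K.Normal := by rw [hK]; infer_instance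
  have hC := hF.cent_group
  have hO : pCore 2 (L ⧸ K) = ⊥ := CfsgLib.ZJ.pCore_quotient_pCore_eq_bot
  have hX6 : Six (L ⧸ K) := hL6.quotient K
  have hmem : ∀ g : L, (g : L ⧸ K) = 1 ↔ (g : G) ∈ pCoreOf 2 L := fun g => by
    rw [QuotientGroup.eq_one_iff, hK, ← core_subgroupOf]; rfl
  set η : L := ⟨y, hyL⟩ with hη
  have hy31 : (η : L ⧸ K) ^ 3 = 1 := by
    rw [← QuotientGroup.mk_pow, show η ^ 3 = 1 from Subtype.ext (hy3 ▸ pow_orderOf_eq_one y)]; rfl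
  have hy1 : (η : L ⧸ K) ≠ 1 := fun e => by
    obtain ⟨j, hj⟩ := core_isPGroup L ⟨y, (hmem η).mp e⟩
    have hd := hy3 ▸ orderOf_dvd_of_pow_eq_one (congrArg Subtype.val hj)
    have := Nat.Prime.dvd_of_dvd_pow Nat.prime_three hd
    omega
  rcases hL6.top_shape hK2 hC hO with ⟨-, h10⟩ | ⟨-, hcent⟩
  · exfalso
    have hd := (orderOf_dvd_natCard ((η : L) : L ⧸ K)).trans h10
    rw [orderOf_eq_prime hy31 hy1] at hd
    omega
  set R := pCore 3 (L ⧸ K) with hR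
  have hR3 : IsPGroup 3 R := isPGroup_pCore _
  haveI : R.Normal := by rw [hR]; infer_instance
  obtain ⟨s, hs, hsQ⟩ : ∃ s ∈ S, s ∉ pCoreOf 2 L := by
    by_contra hno
    push Not at hno
    exact hnS (le_antisymm hno hF.core_le_T ▸ le_normalizer_core L)
  have hsq : ∀ v : L, (v : G) ∈ S → (v : L ⧸ K) * v = 1 := fun v hv => by
    obtain ⟨j, hj⟩ := hF.two ⟨(v : G), hv⟩
    rw [← QuotientGroup.mk_mul]
    exact (QuotientGroup.eq_one_iff _).mpr
      (hL6.sq_mem K hK2 hC hO (g := v) (k := j) (Subtype.ext (by simpa using congrArg Subtype.val hj)))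
  have hcm : ∀ v w : L, (v : G) ∈ S → (w : G) ∈ S → (v : L ⧸ K) * w = w * v := fun v w hv hw => by
    have e : (v : L ⧸ K) * w * ((v : L ⧸ K) * w) = 1 := by
      simpa only [QuotientGroup.mk_mul] using hsq (v * w) (mul_mem hv hw)
    calc (v : L ⧸ K) * w = ((v : L ⧸ K) * w)⁻¹ := eq_inv_of_mul_eq_one_left e
      _ = (w : L ⧸ K) * v := by
        rw [mul_inv_rev, inv_eq_of_mul_eq_one_left (hsq v hv), inv_eq_of_mul_eq_one_left (hsq w hw)]
  set s0 : L := ⟨s, hF.le hs⟩ with hs0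
  have hyv : ∀ v : L, (v : G) ∈ S → ((η * v * η⁻¹ : L) : G) ∈ S := fun v hv =>
    (Subgroup.mem_normalizer_iff.mp hyS v).mp hv
  set s1 := η * s0 * η⁻¹ with hs1
  set s2 := η * s1 * η⁻¹ with hs2
  have hs1S : (s1 : G) ∈ S := hyv s0 hs
  have hs2S : (s2 : G) ∈ S := hyv s1 hs1S
  have hy13 : (η : L ⧸ K) * η * η = 1 := by rw [← hy31, pow_succ, pow_two]
  by_cases hn : ((s0 * s1 * s2 : L) : L ⧸ K) = 1
  · exfalso
    refine hX6.no_cycle R hR3 hcent (a := (s0 : L ⧸ K)) (b := (s1 : L ⧸ K)) (hsq s0 hs) (hsq s1 hs1S)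
      (hcm s0 s1 hs hs1S) (fun e => hsQ ((hmem s0).mp e)) hy31 (by rw [hs1]; rfl) ?_
    show (s2 : L ⧸ K) = s0 * s1
    rw [QuotientGroup.mk_mul, QuotientGroup.mk_mul] at hn
    rw [eq_inv_of_mul_eq_one_right hn, mul_inv_rev, inv_eq_of_mul_eq_one_left (hsq s1 hs1S),
      inv_eq_of_mul_eq_one_left (hsq s0 hs), hcm s1 s0 hs1S hs]
  set e := s0 * s1 * s2 with he
  have heS : (e : G) ∈ S := mul_mem (mul_mem hs hs1S) hs2S
  have hye : (η : L ⧸ K) * e * (η : L ⧸ K)⁻¹ = e := by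
    have e3 : (η : L ⧸ K) * s2 * (η : L ⧸ K)⁻¹ = s0 := by
      simp only [hs2, hs1, QuotientGroup.mk_mul, QuotientGroup.mk_inv]
      calc _ = ((η : L ⧸ K) * η * η) * s0 * ((η : L ⧸ K) * η * η)⁻¹ := by group
        _ = _ := by rw [hy13]; simp
    calc (η : L ⧸ K) * e * (η : L ⧸ K)⁻¹ = ((η : L ⧸ K) * s0 * (η : L ⧸ K)⁻¹) *
          ((η : L ⧸ K) * s1 * (η : L ⧸ K)⁻¹) * ((η : L ⧸ K) * s2 * (η : L ⧸ K)⁻¹) := by
            simp only [he, QuotientGroup.mk_mul]; group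
      _ = (s1 : L ⧸ K) * s2 * s0 := by rw [e3]; simp [hs1, hs2]
      _ = e := by
        rw [mul_assoc, hcm s2 s0 hs2S hs, ← mul_assoc, hcm s1 s0 hs1S hs]; simp [he]
  -- an element of the 3-core centralised by `y` and not by `e`
  obtain ⟨r, hr, hry, hre⟩ : ∃ r ∈ R, (η : L ⧸ K) * r = r * η ∧ (e : L ⧸ K) * r ≠ r * e := by
    by_contra hno
    push Not at hno
    have ho : orderOf (e : L ⧸ K) = 2 := orderOf_eq_prime (by rw [pow_two]; exact hsq e heS) hn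
    have hall := CfsgLib.Stabilizer.thompson_axb (p := 3) (R := R) (Q := Subgroup.zpowers (η : L ⧸ K)) hR3
      (IsPGroup.of_card (n := 1) (by rw [Nat.card_zpowers, orderOf_eq_prime hy31 hy1, pow_one]))
      (by rw [Subgroup.normalizer_eq_top]; exact le_top) (x := (e : L ⧸ K)) (by rw [ho]; norm_num)
      (by rw [Subgroup.normalizer_eq_top]; trivial)
      (fun q hq => by
        obtain ⟨i, rfl⟩ := Subgroup.mem_zpowers_iff.mp hq
        have hc : Commute (η : L ⧸ K) (e : L ⧸ K) := mul_inv_eq_iff_eq_mul.mp hye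
        exact (hc.zpow_left i).eq.symm)
      (fun r hr => hno r hr.1 (Subgroup.mem_centralizer_iff.mp hr.2 _ (Subgroup.mem_zpowers _)))
    have heR : (e : L ⧸ K) ∈ R := hcent (Subgroup.mem_centralizer_iff.mpr fun r hr => (hall r hr).symm)
    obtain ⟨j, hj⟩ := hR3 ⟨_, heR⟩
    have hd := ho ▸ orderOf_dvd_of_pow_eq_one (congrArg Subtype.val hj)
    have := Nat.Prime.dvd_of_dvd_pow Nat.prime_two hd
    omega
  set xb := r⁻¹ * ((e : L ⧸ K) * r * (e : L ⧸ K)⁻¹) with hxb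
  have hxR : xb ∈ R := mul_mem (inv_mem hr) (Subgroup.Normal.conj_mem ‹_› r hr _)
  have hx3 : xb ^ 3 = 1 := by
    obtain ⟨j, hj⟩ := hR3 ⟨xb, hxR⟩
    exact hX6.pow_eq_one (Or.inl rfl) (congrArg Subtype.val hj)
  have hx1 : xb ≠ 1 := fun e1 => hre (by
    rw [hxb, inv_mul_eq_one] at e1
    exact (mul_inv_eq_iff_eq_mul.mp e1.symm))
  obtain ⟨x0, hx0⟩ := QuotientGroup.mk_surjective xb
  obtain ⟨x, hx, hx31⟩ := hL6.lift_three (QuotientGroup.mk' K) (x := x0) (by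
    rw [QuotientGroup.mk'_apply, hx0]; exact hx3)
  rw [QuotientGroup.mk'_apply, QuotientGroup.mk'_apply, hx0] at hx
  refine ⟨e, heS, fun hm => hn ((hmem e).mpr hm), ?_, x, x.2, by rw [← Subgroup.coe_pow, hx31]; rfl,
    fun hm => hx1 (hx ▸ (hmem x).mpr hm), ?_, ?_⟩
  · refine (hmem (η * e * η⁻¹ * e⁻¹)).mp ?_
    simp only [QuotientGroup.mk_mul, QuotientGroup.mk_inv]
    rw [hye, mul_inv_cancel]
  · refine (hmem (x⁻¹ * η * x * η⁻¹)).mp ?_
    simp only [QuotientGroup.mk_mul, QuotientGroup.mk_inv, hx]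
    have hc : Commute (η : L ⧸ K) xb := by
      have h1 : Commute (η : L ⧸ K) (e : L ⧸ K) := mul_inv_eq_iff_eq_mul.mp hye
      have h2 : Commute (η : L ⧸ K) r := hry
      exact h2.inv_right.mul_right ((h1.mul_right h2).mul_right h1.inv_right)
    rw [mul_assoc xb⁻¹, hc.eq]; group
  · refine (hmem (e * x * e⁻¹ * x)).mp ?_
    simp only [QuotientGroup.mk_mul, QuotientGroup.mk_inv, hx, hxb]
    have he2 : (e : L ⧸ K) * e = 1 := hsq e heS
    generalize (e : L ⧸ K) = t at he2 ⊢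
    calc t * (r⁻¹ * (t * r * t⁻¹)) * t⁻¹ * (r⁻¹ * (t * r * t⁻¹))
        = t * r⁻¹ * t * r * (t * t)⁻¹ * r⁻¹ * (t * r * t⁻¹) := by group
      _ = t * r⁻¹ * (t * t) * r * t⁻¹ := by rw [show (t * t)⁻¹ = 1 by rw [he2, inv_one]]; group
      _ = 1 := by rw [he2]; group

variable {S P L : Subgroup G} {φ : P →* A5}

/-- **A solvable overgroup of the Sylow normalizer of a parabolic with top `A₅`.** -/
theorem Five.lemma_y (h : Five S P φ) (h6 : Six G) {y : G} (hy : y ∈ P) (hyx : φ ⟨y, hy⟩ = AltFive.x)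
    (hy3 : orderOf y = 3) (hyL : y ∈ L) (hF : Frame S L) [Group.IsSolvable L] :
    L ≤ Subgroup.normalizer (S : Set G) := by
  classical
  by_contra hnS
  have hFPF : ∀ w ∈ S, y * w * y⁻¹ * w⁻¹ ∈ pCoreOf 2 P → w ∈ pCoreOf 2 P := fun w hw hc => by
    obtain ⟨p, hp⟩ := mem_Vfour.mp ((h.mem_T ⟨w, h.frame.le hw⟩).mp hw)
    have e := (h.mem_core (⟨y, hy⟩ * ⟨w, h.frame.le hw⟩ * (⟨y, hy⟩ : P)⁻¹ * (⟨w, h.frame.le hw⟩ : P)⁻¹)).mp hc
    rw [map_mul, map_mul, map_mul, map_inv, map_inv, hyx, hp, mul_inv_eq_one] at e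
    refine (h.mem_core ⟨w, h.frame.le hw⟩).mpr ?_
    rw [hp, U_fix p e]
    rfl
  have hyS : y ∈ Subgroup.normalizer (S : Set G) := CfsgLib.JComp.mem_normalizer_of_conj_mem fun w hw => by
    obtain ⟨p, hp⟩ := mem_Vfour.mp ((h.mem_T ⟨w, h.frame.le hw⟩).mp hw)
    refine (h.mem_T (⟨y, hy⟩ * ⟨w, h.frame.le hw⟩ * (⟨y, hy⟩ : P)⁻¹)).mpr ?_
    rw [map_mul, map_mul, map_inv, hyx, hp]
    exact U_conj p
  set Q := pCoreOf 2 P with hQ
  set QL := pCoreOf 2 L with hQL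
  have horbit : ∀ t0 ∈ S, t0 ∉ Q → ∀ t ∈ S, t ∉ Q →
      ∃ k : Fin 3, t⁻¹ * (y ^ (k : ℕ) * t0 * (y ^ (k : ℕ))⁻¹) ∈ Q := by
    intro t0 ht0 ht0Q t ht htQ
    obtain ⟨p, hp⟩ := mem_Vfour.mp ((h.mem_T ⟨t0, h.frame.le ht0⟩).mp ht0)
    obtain ⟨q, hq⟩ := mem_Vfour.mp ((h.mem_T ⟨t, h.frame.le ht⟩).mp ht)
    obtain ⟨k, hk⟩ := U_cycle p q
      (fun e => ht0Q ((h.mem_core ⟨t0, h.frame.le ht0⟩).mpr (hp.trans (by rw [e]; rfl))))
      (fun e => htQ ((h.mem_core ⟨t, h.frame.le ht⟩).mpr (hq.trans (by rw [e]; rfl))))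
    refine ⟨k, (h.mem_core ((⟨t, h.frame.le ht⟩ : P)⁻¹ *
      (⟨y, hy⟩ ^ (k : ℕ) * ⟨t0, h.frame.le ht0⟩ * ((⟨y, hy⟩ : P) ^ (k : ℕ))⁻¹))).mpr ?_⟩
    simp only [map_mul, map_inv, map_pow, hyx, hp, hq, hk, inv_mul_cancel]
  have hnorm : ∀ w ∈ S, w * (y * w * y⁻¹) * (y * (y * w * y⁻¹) * y⁻¹) ∈ Q := fun w hw => by
    obtain ⟨p, hp⟩ := mem_Vfour.mp ((h.mem_T ⟨w, h.frame.le hw⟩).mp hw)
    refine (h.mem_core (⟨w, h.frame.le hw⟩ * (⟨y, hy⟩ * ⟨w, h.frame.le hw⟩ * (⟨y, hy⟩ : P)⁻¹) *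
      (⟨y, hy⟩ * (⟨y, hy⟩ * ⟨w, h.frame.le hw⟩ * (⟨y, hy⟩ : P)⁻¹) * (⟨y, hy⟩ : P)⁻¹))).mpr ?_
    simp only [map_mul, map_inv, hyx, hp, U_norm p]
  obtain ⟨t1, ht1, ht1Q⟩ : ∃ t ∈ S, t ∉ Q := by
    by_contra hno
    push Not at hno
    have := h.relIndex_T
    rw [Subgroup.relIndex_eq_one.mpr hno] at this
    omega
  have hQS : Q ≤ S := h.frame.core_le_T
  have hQLS : QL ≤ S := hF.core_le_T
  have hsqQ : ∀ v ∈ Q, v * v = 1 := (h.cent_card h6 ht1 ht1Q).1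
  have hcQ : ∀ a ∈ Q, ∀ b ∈ Q, a * b = b * a := fun a ha b hb => by
    haveI := isMulCommutative_of_sq hsqQ
    exact congrArg Subtype.val (IsMulCommutative.is_comm.comm (⟨a, ha⟩ : Q) ⟨b, hb⟩)
  have nQ : ∀ g ∈ P, ∀ q ∈ Q, g * q * g⁻¹ ∈ Q := fun g hg q hq =>
    (Subgroup.mem_normalizer_iff.mp (le_normalizer_core P hg) q).mp hq
  have nQL : ∀ g ∈ L, ∀ q ∈ QL, g * q * g⁻¹ ∈ QL := fun g hg q hq =>
    (Subgroup.mem_normalizer_iff.mp (le_normalizer_core L hg) q).mp hq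
  obtain ⟨e, heS, heQL, hye, x, hxL, hx3, hxQL, hxy, hex⟩ := hF.fixed_in_top h6 hyL hy3 hyS hnS
  rw [← hQL] at heQL hye hxQL hxy hex
  -- the two cores generate the Sylow subgroup
  obtain ⟨t2, ht2L, ht2Q⟩ : ∃ t ∈ QL, t ∉ Q := by
    by_contra hno
    push Not at hno
    have hle : Q ≤ QL := fun q hq => hF.cent fun v hv => hcQ v (hno v hv) q hq
    exact heQL (hle (hFPF e heS (hno _ hye)))
  have hsup : Q ⊔ QL = S := by
    refine le_antisymm (sup_le hQS hQLS) fun t ht => ?_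
    by_cases htQ : t ∈ Q
    · exact Subgroup.mem_sup_left htQ
    obtain ⟨k, hk⟩ := horbit t2 (hQLS ht2L) ht2Q t ht htQ
    have e1 : t = (y ^ (k : ℕ) * t2 * (y ^ (k : ℕ))⁻¹) * (t⁻¹ * (y ^ (k : ℕ) * t2 * (y ^ (k : ℕ))⁻¹))⁻¹ := by
      group
    rw [e1]
    exact mul_mem (Subgroup.mem_sup_right (nQL _ (pow_mem hyL _) _ ht2L)) (Subgroup.mem_sup_left (inv_mem hk))
  obtain ⟨a, haQ, q2, hq2, haq⟩ : ∃ a ∈ Q, ∃ q2 ∈ QL, e = a * q2 := by
    have hn : Q ≤ Subgroup.normalizer (QL : Set G) := hQS.trans (hF.le.trans (le_normalizer_core L))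
    have he' : e ∈ (Q : Set G) * (QL : Set G) := by
      rw [← Subgroup.coe_mul_of_left_le_normalizer_right _ _ hn, hsup]; exact heS
    obtain ⟨a, ha, q2, hq2, e1⟩ := Set.mem_mul.mp he'
    exact ⟨a, ha, q2, hq2, e1.symm⟩
  have haL : a ∈ L := hF.le (hQS haQ)
  have haQL : a ∉ QL := fun hm => heQL (haq ▸ mul_mem hm hq2)
  have hya : y * a * y⁻¹ * a⁻¹ ∈ QL := by
    have e1 : y * a * y⁻¹ * a⁻¹ = (y * e * y⁻¹ * e⁻¹) * (e * ((y * q2⁻¹ * y⁻¹) * q2) * e⁻¹) := by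
      rw [haq]; group
    rw [e1]
    exact mul_mem hye (nQL e (hF.le heS) _ (mul_mem (nQL y hyL _ (inv_mem hq2)) hq2))
  have hax : a * x * a⁻¹ * x ∈ QL := by
    have e1 : a * x * a⁻¹ * x = (e * (q2⁻¹ * (x * q2 * x⁻¹)) * e⁻¹) * (e * x * e⁻¹ * x) := by
      rw [haq]; group
    rw [e1]
    exact mul_mem (nQL e (hF.le heS) _ (mul_mem (inv_mem hq2) (nQL x hxL _ hq2))) hex
  -- the intersection of the cores
  set W0 := Q ⊓ QL with hW0
  have hW0n : ∀ g, g ∈ P → g ∈ L → ∀ w ∈ W0, g * w * g⁻¹ ∈ W0 := fun g hP' hL' w hw =>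
    ⟨nQ g hP' w hw.1, nQL g hL' w hw.2⟩
  have hSP : ∀ {g}, g ∈ S → g ∈ P := fun hg => h.frame.le hg
  have hQLn : ∀ q ∈ QL, ∀ w ∈ W0, q * w * q⁻¹ ∈ W0 := fun q hq =>
    hW0n q (hSP (hQLS hq)) (core_le L hq)
  have hW0QL : ∀ t ∈ QL, ∀ u ∈ QL, t * u * t⁻¹ * u⁻¹ ∈ W0 := by
    intro t ht u hu
    refine Subgroup.mem_inf.mpr ⟨?_, mul_mem (mul_mem (mul_mem ht hu) (inv_mem ht)) (inv_mem hu)⟩
    refine (h.mem_core (⟨t, hSP (hQLS ht)⟩ * ⟨u, hSP (hQLS hu)⟩ * (⟨t, hSP (hQLS ht)⟩ : P)⁻¹ *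
      (⟨u, hSP (hQLS hu)⟩ : P)⁻¹)).mpr ?_
    obtain ⟨p, hp⟩ := mem_Vfour.mp ((h.mem_T ⟨t, hSP (hQLS ht)⟩).mp (hQLS ht))
    obtain ⟨q, hq⟩ := mem_Vfour.mp ((h.mem_T ⟨u, hSP (hQLS hu)⟩).mp (hQLS hu))
    simp only [map_mul, map_inv, hp, hq]
    obtain ⟨r, hr⟩ := U_mul p q
    rw [hr, inv_eq_of_mul_eq_one_left (U_sq p), inv_eq_of_mul_eq_one_left (U_sq q), mul_assoc, hr, U_sq]
  -- the translate of the intersection
  set W1 := W0.map (MulAut.conj x).toMonoidHom with hW1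
  have memW1 : ∀ v, v ∈ W1 ↔ ∃ w ∈ W0, x * w * x⁻¹ = v := fun v => Iff.rfl
  have hW1QL : W1 ≤ QL := by
    rintro _ ⟨w, hw, rfl⟩; exact nQL x hxL w hw.2
  have hW1y : ∀ v ∈ W1, y * v * y⁻¹ ∈ W1 := by
    intro v hv
    obtain ⟨w, hw, rfl⟩ := (memW1 v).mp hv
    refine (memW1 _).mpr ⟨(x⁻¹ * y * x * y⁻¹) * (y * w * y⁻¹) * (x⁻¹ * y * x * y⁻¹)⁻¹,
      hQLn _ hxy _ (hW0n y hy hyL w hw), by group⟩
  have hW1n : ∀ q ∈ QL, ∀ v ∈ W1, q * v * q⁻¹ ∈ W1 := by
    intro q hq v hv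
    obtain ⟨w, hw, rfl⟩ := (memW1 v).mp hv
    have hq' : x⁻¹ * q * x ∈ QL := by simpa using nQL x⁻¹ (inv_mem hxL) q hq
    exact (memW1 _).mpr ⟨(x⁻¹ * q * x) * w * (x⁻¹ * q * x)⁻¹, hQLn _ hq' w hw, by group⟩
  set q1 := (a * x * a⁻¹ * x)⁻¹ with hq1d
  have hq1 : q1 ∈ QL := inv_mem hax
  have hgq' : x * a * x⁻¹ * a⁻¹ = x * x * q1 := by rw [hq1d]; group
  obtain ⟨w', hw', hw'0⟩ : ∃ v ∈ W1, v ∉ W0 := by
    by_contra hno
    push Not at hno
    have hxW : ∀ w ∈ W0, x * w * x⁻¹ ∈ W0 := fun w hw => hno _ ((memW1 _).mpr ⟨w, hw, rfl⟩)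
    have hxW2 : ∀ w ∈ W0, x⁻¹ * w * x ∈ W0 := fun w hw => by
      have e1 : x⁻¹ * w * x = x * (x * w * x⁻¹) * x⁻¹ := by
        calc x⁻¹ * w * x = x⁻¹ * (x ^ 3 * w * (x ^ 3)⁻¹) * x := by rw [hx3]; group
          _ = _ := by simp only [pow_succ, pow_zero, one_mul]; group
      rw [e1]; exact hxW _ (hxW w hw)
    have hfix : ∀ w ∈ W0, x * w * x⁻¹ = w := by
      have hg : ∀ w ∈ W0, (x * x)⁻¹ * w * (x * x) = q1 * w * q1⁻¹ := fun w hw => by
        have c1 : (x * a * x⁻¹ * a⁻¹) * w * (x * a * x⁻¹ * a⁻¹)⁻¹ = w := by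
          have c : a⁻¹ * w * a = w := by rw [mul_assoc, hcQ w hw.1 a haQ, inv_mul_cancel_left]
          calc (x * a * x⁻¹ * a⁻¹) * w * (x * a * x⁻¹ * a⁻¹)⁻¹
              = x * (a * (x⁻¹ * (a⁻¹ * w * a) * x) * a⁻¹) * x⁻¹ := by group
            _ = x * (x⁻¹ * w * x) * x⁻¹ := by
                rw [c, hcQ a haQ _ (hxW2 w hw).1, mul_inv_cancel_right]
            _ = w := by group
        rw [hgq'] at c1
        calc (x * x)⁻¹ * w * (x * x) = (x * x)⁻¹ * ((x * x * q1) * w * (x * x * q1)⁻¹) * (x * x) := by rw [c1]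
          _ = q1 * w * q1⁻¹ := by group
      have hit : ∀ n : ℕ, ∀ w ∈ W0, ((x * x)⁻¹) ^ n * w * (((x * x)⁻¹) ^ n)⁻¹ = q1 ^ n * w * (q1 ^ n)⁻¹ := by
        intro n
        induction n with
        | zero => intro w _; simp
        | succ n ih =>
          intro w hw
          have hwn : q1 ^ n * w * (q1 ^ n)⁻¹ ∈ W0 := hQLn _ (pow_mem hq1 n) w hw
          calc ((x * x)⁻¹) ^ (n + 1) * w * (((x * x)⁻¹) ^ (n + 1))⁻¹
              = (x * x)⁻¹ * (((x * x)⁻¹) ^ n * w * (((x * x)⁻¹) ^ n)⁻¹) * (x * x) := by rw [pow_succ']; group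
            _ = q1 * (q1 ^ n * w * (q1 ^ n)⁻¹) * q1⁻¹ := by rw [ih w hw, hg _ hwn]
            _ = q1 ^ (n + 1) * w * (q1 ^ (n + 1))⁻¹ := by rw [pow_succ']; group
      intro w hw
      have e4 := hit 4 w hw
      have hx8 : ((x * x)⁻¹) ^ 4 = x := by
        rw [inv_pow, ← pow_two, ← pow_mul]
        refine inv_eq_of_mul_eq_one_left ?_
        rw [← pow_succ', show 2 * 4 + 1 = 3 * 3 by norm_num, pow_mul, hx3, one_pow]
      rwa [hx8, h6.pgroup_pow_four (core_isPGroup L) hq1, one_mul, inv_one, mul_one] at e4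
    have hfix2 : ∀ t ∈ QL, x * t * x⁻¹ * t⁻¹ ∈ W0 := by
      intro t ht
      have c : ∀ u ∈ QL, a * u * a⁻¹ * u⁻¹ ∈ W0 := fun u hu => by
        refine Subgroup.mem_inf.mpr ⟨?_, mul_mem (nQL a haL u hu) (inv_mem hu)⟩
        rw [mul_assoc a, mul_assoc a]
        refine mul_mem haQ ?_
        exact nQ u (hSP (hQLS hu)) _ (inv_mem haQ)
      have hcg : (x * x * q1) * t * (x * x * q1)⁻¹ * t⁻¹ ∈ W0 := by
        rw [← hgq']
        have hu1 : x⁻¹ * (a⁻¹ * t * a) * x ∈ QL := by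
          have h1 : a⁻¹ * t * a ∈ QL := by simpa using nQL a⁻¹ (inv_mem haL) t ht
          simpa using nQL x⁻¹ (inv_mem hxL) _ h1
        have e1 : (x * a * x⁻¹ * a⁻¹) * t * (x * a * x⁻¹ * a⁻¹)⁻¹ * t⁻¹ =
            (x * (a * (x⁻¹ * (a⁻¹ * t * a) * x) * a⁻¹ * (x⁻¹ * (a⁻¹ * t * a) * x)⁻¹) * x⁻¹) *
              ((a * (a⁻¹ * t * a) * a⁻¹ * (a⁻¹ * t * a)⁻¹)⁻¹) := by group
        rw [e1]
        exact mul_mem (hxW _ (c _ hu1)) (inv_mem (c _ (by simpa using nQL a⁻¹ (inv_mem haL) t ht)))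
      have hxx : ∀ u ∈ QL, (x * x) * u * (x * x)⁻¹ * u⁻¹ ∈ W0 → x * u * x⁻¹ * u⁻¹ ∈ W0 := by
        intro u hu hw
        have e1 : x * u * x⁻¹ * u⁻¹ = (x * x * ((x * x) * u * (x * x)⁻¹ * u⁻¹) * (x * x)⁻¹) *
            ((x * x) * u * (x * x)⁻¹ * u⁻¹) := by
          calc x * u * x⁻¹ * u⁻¹ = (x ^ 3 * x) * u * (x ^ 3 * x)⁻¹ * u⁻¹ := by rw [hx3, one_mul]
            _ = _ := by simp only [pow_succ, pow_zero, one_mul]; group
        rw [e1]
        refine mul_mem ?_ hw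
        rw [show ∀ v, x * x * v * (x * x)⁻¹ = x * (x * v * x⁻¹) * x⁻¹ from fun v => by group]
        exact hxW _ (hxW _ hw)
      refine hxx t ht ?_
      have e1 : (x * x) * t * (x * x)⁻¹ * t⁻¹ =
          (x * x * (q1 * t * q1⁻¹ * t⁻¹)⁻¹ * (x * x)⁻¹) * ((x * x * q1) * t * (x * x * q1)⁻¹ * t⁻¹) := by group
      rw [e1]
      refine mul_mem ?_ hcg
      rw [show ∀ v, x * x * v * (x * x)⁻¹ = x * (x * v * x⁻¹) * x⁻¹ from fun v => by group]
      exact hxW _ (hxW _ (inv_mem (hW0QL q1 hq1 t ht)))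
    have hxcent : x ∈ QL := hF.cent fun t ht => by
      set w := x * t * x⁻¹ * t⁻¹ with hw
      have hwW := hfix2 t ht
      have h3 : w * (w * (w * t)) = t := by
        calc w * (w * (w * t)) = (x * (x * w * x⁻¹) * x⁻¹) * (x * w * x⁻¹) * w * t := by
              rw [hfix w hwW, hfix w hwW]; simp only [mul_assoc]
          _ = x ^ 3 * t * (x ^ 3)⁻¹ := by rw [hw]; simp only [pow_succ, pow_zero, one_mul]; group
          _ = t := by rw [hx3]; group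
      have hw1 : w = 1 := by
        rwa [← mul_assoc w w, hsqQ w hwW.1, one_mul, mul_eq_right] at h3
      rw [hw, mul_inv_eq_one, mul_inv_eq_iff_eq_mul] at hw1
      exact hw1.symm
    exact hxQL hxcent
  have hcover : ∀ t ∈ QL, ∃ w ∈ W0, ∃ v ∈ W1, t = w * v := by
    intro t ht
    by_cases htQ : t ∈ Q
    · exact ⟨t, ⟨htQ, ht⟩, 1, one_mem _, (mul_one t).symm⟩
    have hw'Q : w' ∉ Q := fun hm => hw'0 ⟨hm, hW1QL hw'⟩
    obtain ⟨k, hk⟩ := horbit w' (hQLS (hW1QL hw')) hw'Q t (hQLS ht) htQ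
    set v := y ^ (k : ℕ) * w' * (y ^ (k : ℕ))⁻¹ with hv
    have hvW : v ∈ W1 := by
      rw [hv]
      induction (k : ℕ) with
      | zero => simpa using hw'
      | succ n ih =>
        have e1 : y ^ (n + 1) * w' * (y ^ (n + 1))⁻¹ = y * (y ^ n * w' * (y ^ n)⁻¹) * y⁻¹ := by
          rw [pow_succ']; group
        rw [e1]; exact hW1y _ ih
    refine ⟨v * (t⁻¹ * v)⁻¹ * v⁻¹, ?_, v, hvW, by group⟩
    exact hQLn v (hW1QL hvW) _ (inv_mem (Subgroup.mem_inf.mpr ⟨hk, mul_mem (inv_mem ht) (hW1QL hvW)⟩))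
  set D0 := W0 ⊓ W1 with hD0
  have hD0le : D0 ≤ QL := inf_le_left.trans inf_le_right
  have hsqW1 : ∀ v ∈ W1, v * v = 1 := fun v hv => by
    obtain ⟨w, hw, rfl⟩ := (memW1 v).mp hv
    calc x * w * x⁻¹ * (x * w * x⁻¹) = x * (w * w) * x⁻¹ := by group
      _ = 1 := by rw [hsqQ w hw.1]; group
  have hcW1 : ∀ u ∈ W1, ∀ v ∈ W1, u * v = v * u := fun u hu v hv => by
    haveI := isMulCommutative_of_sq hsqW1
    exact congrArg Subtype.val (IsMulCommutative.is_comm.comm (⟨u, hu⟩ : W1) ⟨v, hv⟩)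
  have hDc : ∀ d ∈ D0, ∀ t ∈ QL, d * t = t * d := by
    intro d hd t ht
    obtain ⟨w, hw, v, hv, rfl⟩ := hcover t ht
    rw [← mul_assoc, hcQ d hd.1.1 w hw.1, mul_assoc, hcW1 d hd.2 v hv, mul_assoc]
  have hxD : ∀ d ∈ D0, x * d * x⁻¹ = d := by
    intro d hd
    obtain ⟨w, hw, hwd⟩ := (memW1 d).mp hd.2
    have ca : a * d * a⁻¹ = d := by rw [hcQ a haQ d hd.1.1, mul_inv_cancel_right]
    have c1 : (x * a * x⁻¹) * d * (x * a * x⁻¹)⁻¹ = d := by
      rw [← hwd]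
      calc x * a * x⁻¹ * (x * w * x⁻¹) * (x * a * x⁻¹)⁻¹ = x * (a * w * a⁻¹) * x⁻¹ := by group
        _ = x * w * x⁻¹ := by rw [hcQ a haQ w hw.1, mul_inv_cancel_right]
    have c2 : (x * x * q1) * d * (x * x * q1)⁻¹ = d := by
      rw [← hgq']
      calc x * a * x⁻¹ * a⁻¹ * d * (x * a * x⁻¹ * a⁻¹)⁻¹
          = (x * a * x⁻¹) * (a⁻¹ * (a * d * a⁻¹) * a) * (x * a * x⁻¹)⁻¹ := by rw [ca]; group
        _ = (x * a * x⁻¹) * d * (x * a * x⁻¹)⁻¹ := by group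
        _ = d := c1
    have c3 : (x * x) * d * (x * x)⁻¹ = d := by
      calc (x * x) * d * (x * x)⁻¹ = (x * x) * (d * q1 * q1⁻¹) * (x * x)⁻¹ := by rw [mul_inv_cancel_right]
        _ = (x * x * q1) * d * (x * x * q1)⁻¹ := by rw [hDc d hd q1 hq1]; group
        _ = d := c2
    calc x * d * x⁻¹ = (x ^ 3 * x) * d * (x ^ 3 * x)⁻¹ := by rw [hx3, one_mul]
      _ = (x * x) * ((x * x) * d * (x * x)⁻¹) * (x * x)⁻¹ := by
          simp only [pow_succ, pow_zero, one_mul]; group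
      _ = d := by rw [c3, c3]
  have hyD : ∀ d ∈ D0, y * d * y⁻¹ ∈ D0 := fun d hd => ⟨hW0n y hy hyL d hd.1, hW1y d hd.2⟩
  -- the quotient by the intersection of the translates
  set Dq := D0.subgroupOf QL with hDq
  haveI : Dq.Normal := ⟨fun d hd g => by
    rw [hDq, Subgroup.mem_subgroupOf] at hd ⊢
    simp only [Subgroup.coe_mul, Subgroup.coe_inv]
    rwa [← hDc _ hd _ g.2, mul_inv_cancel_right]⟩
  set V := QL ⧸ Dq
  have hmk : ∀ t : QL, (t : V) = 1 ↔ (t : G) ∈ D0 := fun t => QuotientGroup.eq_one_iff t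
  let X : V →* V := QuotientGroup.map Dq Dq (conjOn (le_normalizer_core L hxL)) (fun d hd => by
    have e := hxD (d : G) hd
    show x * (d : G) * x⁻¹ ∈ D0
    rw [e]; exact hd)
  let Y : V →* V := QuotientGroup.map Dq Dq (conjOn (le_normalizer_core L hyL)) (fun d hd => hyD _ hd)
  have hXmk : ∀ t : QL, X (t : V) = ((⟨x * t * x⁻¹, nQL x hxL t t.2⟩ : QL) : V) := fun t => rfl
  have hYmk : ∀ t : QL, Y (t : V) = ((⟨y * t * y⁻¹, nQL y hyL t t.2⟩ : QL) : V) := fun t => rfl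
  have h2 : ∀ v : V, v * v = 1 := by
    intro v
    obtain ⟨t, rfl⟩ := QuotientGroup.mk_surjective v
    obtain ⟨w, hw, u, hu, e1⟩ := hcover t t.2
    rw [← QuotientGroup.mk_mul, hmk, Subgroup.coe_mul, e1]
    have hwi : w⁻¹ = w := inv_eq_of_mul_eq_one_left (hsqQ w hw.1)
    have hui : u⁻¹ = u := inv_eq_of_mul_eq_one_left (hsqW1 u hu)
    constructor
    · have := mul_mem hw (hQLn u (hW1QL hu) w hw)
      rwa [hui, show w * (u * w * u) = w * u * (w * u) by group] at this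
    · have := mul_mem (hW1n w hw.2 u hu) hu
      rwa [hwi, show w * u * w * u = w * u * (w * u) by group] at this
  have hcV : ∀ v w : V, v * w = w * v := fun v w => by
    calc v * w = (v * w)⁻¹ := eq_inv_of_mul_eq_one_left (h2 _)
      _ = w * v := by rw [mul_inv_rev, inv_eq_of_mul_eq_one_left (h2 v), inv_eq_of_mul_eq_one_left (h2 w)]
  have hX3 : ∀ v : V, X (X (X v)) = v := by
    intro v
    obtain ⟨t, rfl⟩ := QuotientGroup.mk_surjective v
    rw [hXmk, hXmk, hXmk]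
    refine congrArg _ (Subtype.ext ?_)
    calc x * (x * (x * (t : G) * x⁻¹) * x⁻¹) * x⁻¹ = x ^ 3 * t * (x ^ 3)⁻¹ := by
          simp only [pow_succ, pow_zero, one_mul]; group
      _ = (t : G) := by rw [hx3]; group
  have hXY : ∀ v : V, X (Y v) = Y (X v) := by
    intro v
    obtain ⟨t, rfl⟩ := QuotientGroup.mk_surjective v
    rw [hYmk, hXmk, hXmk, hYmk]
    set c := (x⁻¹ * y * x * y⁻¹ : G) with hc
    set m : QL := ⟨y * t * y⁻¹, nQL y hyL t t.2⟩
    have e1 : (((⟨c, hxy⟩ : QL) * m * (⟨c, hxy⟩ : QL)⁻¹ : QL) : V) = (m : V) := by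
      rw [QuotientGroup.mk_mul, QuotientGroup.mk_mul, QuotientGroup.mk_inv, hcV ((⟨c, hxy⟩ : QL) : V) (m : V),
        mul_inv_cancel_right]
    have e2 := congrArg X e1
    rw [hXmk, hXmk] at e2
    refine e2.symm.trans (congrArg _ (Subtype.ext ?_))
    simp only [Subgroup.coe_mul, Subgroup.coe_inv, hc, m]
    group
  set W := (W0.subgroupOf QL).map (QuotientGroup.mk' Dq) with hW
  have hWmem : ∀ t : QL, (t : V) ∈ W ↔ (t : G) ∈ W0 := by
    intro t
    constructor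
    · rintro ⟨w, hw, e1⟩
      have h1 := QuotientGroup.eq.mp e1
      rw [hDq, Subgroup.mem_subgroupOf, Subgroup.coe_mul, Subgroup.coe_inv] at h1
      have hw' : (w : G) ∈ W0 := hw
      have := mul_mem hw' (Subgroup.mem_inf.mp h1).1
      rwa [mul_inv_cancel_left] at this
    · intro ht; exact ⟨t, ht, rfl⟩
  have hYW : ∀ v ∈ W, Y v ∈ W := by
    rintro _ ⟨w, hw, rfl⟩
    rw [QuotientGroup.mk'_apply, hYmk, hWmem]
    exact hW0n y hy hyL _ hw
  have hind : ∀ v ∈ W, X v ∈ W → v = 1 := by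
    rintro _ ⟨w, hw, rfl⟩ h1
    rw [QuotientGroup.mk'_apply, hXmk, hWmem] at h1
    rw [QuotientGroup.mk'_apply, hmk]
    have hd : x * (w : G) * x⁻¹ ∈ D0 := ⟨h1, (memW1 _).mpr ⟨w, hw, rfl⟩⟩
    have e1 := hxD _ hd
    rw [mul_left_inj, mul_right_inj] at e1
    rwa [e1] at hd
  have hcoverV : ∀ v : V, ∃ p ∈ W, ∃ q ∈ W, v = p * X q := by
    intro v
    obtain ⟨t, rfl⟩ := QuotientGroup.mk_surjective v
    obtain ⟨w, hw, u, hu, e1⟩ := hcover t t.2
    obtain ⟨f, hf, hfu⟩ := (memW1 u).mp hu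
    refine ⟨((⟨w, hw.2⟩ : QL) : V), (hWmem _).mpr hw, ((⟨f, hf.2⟩ : QL) : V), (hWmem _).mpr hf, ?_⟩
    rw [hXmk, ← QuotientGroup.mk_mul]
    exact congrArg _ (Subtype.ext (by simp [e1, hfu]))
  have hN : ∀ v : V, v * Y v * Y (Y v) = 1 := by
    have hW1N : ∀ f : QL, (f : G) ∈ W0 → X (f : V) * Y (X (f : V)) * Y (Y (X (f : V))) = 1 := by
      intro f hf
      rw [hXmk, hYmk, hYmk, ← QuotientGroup.mk_mul, ← QuotientGroup.mk_mul, hmk]
      simp only [Subgroup.coe_mul]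
      have hu : x * (f : G) * x⁻¹ ∈ W1 := (memW1 _).mpr ⟨f, hf, rfl⟩
      refine ⟨⟨hnorm _ (hQLS (hW1QL hu)), ?_⟩, mul_mem (mul_mem hu (hW1y _ hu)) (hW1y _ (hW1y _ hu))⟩
      exact mul_mem (mul_mem (hW1QL hu) (nQL y hyL _ (hW1QL hu))) (nQL y hyL _ (nQL y hyL _ (hW1QL hu)))
    intro v
    obtain ⟨_, ⟨p, hp, rfl⟩, _, ⟨q, hq, rfl⟩, rfl⟩ := hcoverV v
    simp only [QuotientGroup.mk'_apply]
    have h1 := hW1N q hq
    have hp1 : (p : V) * Y (p : V) * Y (Y (p : V)) = 1 := by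
      have h3 := hW1N p hp
      rw [← hXY, ← hXY, ← map_mul, ← map_mul] at h3
      have h4 := congrArg (fun v => X (X v)) h3
      simp only [map_one] at h4
      rwa [hX3] at h4
    simp only [map_mul]
    calc (p : V) * X q * (Y p * Y (X q)) * (Y (Y p) * Y (Y (X q)))
        = (p : V) * Y p * Y (Y p) * (X q * Y (X q) * Y (Y (X q))) := by
          rw [mul_assoc ((p : V)) (X q), ← mul_assoc (X (q : V)), hcV (X (q : V)) (Y p), mul_assoc (Y (p : V)),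
            ← mul_assoc ((p : V)), mul_assoc ((p : V) * Y p), ← mul_assoc (X (q : V) * Y (X q)),
            hcV (X (q : V) * Y (X q)) (Y (Y p)), mul_assoc (Y (Y (p : V))), ← mul_assoc ((p : V) * Y p)]
      _ = 1 := by rw [hp1, h1, mul_one]
  have hW4 : ∀ v ∈ W, v ≠ 1 → ∀ w ∈ W, w = 1 ∨ w = v ∨ w = Y v ∨ w = Y (Y v) := by
    rintro _ ⟨p, hp, rfl⟩ hp1 _ ⟨q, hq, rfl⟩
    simp only [QuotientGroup.mk'_apply] at hp1 ⊢
    by_cases hqQ : x * (q : G) * x⁻¹ ∈ Q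
    · refine Or.inl (hind _ ((hWmem q).mpr hq) ?_)
      rw [hXmk, hWmem]; exact ⟨hqQ, nQL x hxL q q.2⟩
    have hpQ : x * (p : G) * x⁻¹ ∉ Q := fun hm => hp1 (hind _ ((hWmem p).mpr hp) (by
      rw [hXmk, hWmem]; exact ⟨hm, nQL x hxL p p.2⟩))
    have hp' : x * (p : G) * x⁻¹ ∈ W1 := (memW1 _).mpr ⟨p, hp, rfl⟩
    have hq' : x * (q : G) * x⁻¹ ∈ W1 := (memW1 _).mpr ⟨q, hq, rfl⟩
    obtain ⟨k, hk⟩ := horbit _ (hQLS (hW1QL hp')) hpQ _ (hQLS (hW1QL hq')) hqQ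
    have hin : ∀ u : QL, (u : G) ∈ W1 → (x * (q : G) * x⁻¹)⁻¹ * u ∈ Q → X (q : V) = (u : V) := by
      intro u hu hmem'
      rw [hXmk]
      refine QuotientGroup.eq.mpr ?_
      exact Subgroup.mem_inf.mpr ⟨Subgroup.mem_inf.mpr ⟨hmem', mul_mem (inv_mem (nQL x hxL q q.2)) u.2⟩,
        mul_mem (inv_mem hq') hu⟩
    have hinj : ∀ {u w : V}, X u = X w → u = w := fun {u w} e1 => by rw [← hX3 u, e1, hX3]
    fin_cases k
    · refine Or.inr (Or.inl (hinj ?_))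
      rw [hin ⟨_, nQL x hxL p p.2⟩ hp' (by simpa using hk), hXmk]
    · refine Or.inr (Or.inr (Or.inl (hinj ?_)))
      rw [hin ⟨_, nQL y hyL _ (nQL x hxL p p.2)⟩ (hW1y _ hp') (by simpa using hk), hXY, hXmk, hYmk]
    · refine Or.inr (Or.inr (Or.inr (hinj ?_)))
      rw [hin ⟨_, nQL y hyL _ (nQL y hyL _ (nQL x hxL p p.2))⟩ (hW1y _ (hW1y _ hp'))
        (by simpa [pow_two, mul_assoc] using hk), hXY, hXY, hXmk, hYmk, hYmk]
  -- the core of the overgroup is elementary abelian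
  have hsqL : ∀ t ∈ QL, t * t = 1 := by
    intro t ht
    have key := five_lines X Y W h2 hX3 hN hXY hYW hW4 hcoverV hind ((⟨t, ht⟩ : QL) : V)
    have conjsq : ∀ u : G, x * u * x⁻¹ * (x * u * x⁻¹) = 1 → u * u = 1 := fun u hu => by
      calc u * u = x⁻¹ * (x * u * x⁻¹ * (x * u * x⁻¹)) * x := by group
        _ = 1 := by rw [hu]; group
    rcases key with h1 | h1 | h1 | ⟨l, hl⟩
    · exact hsqQ t ((hWmem _).mp h1).1
    · rw [hXmk, hWmem] at h1
      exact conjsq t (hsqQ _ h1.1)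
    · rw [hXmk, hXmk, hWmem] at h1
      exact conjsq t (conjsq _ (hsqQ _ h1.1))
    -- fixed by a product of order three
    set z := y ^ l * x with hz
    have hzL : z ∈ L := mul_mem (pow_mem hyL l) hxL
    have hzV : ((⟨z * t * z⁻¹, nQL z hzL t ht⟩ : QL) : V) = ((⟨t, ht⟩ : QL) : V) := by
      refine Eq.trans ?_ hl
      rw [hXmk]
      have hpow : ∀ (n : ℕ) (u : QL), Y^[n] (u : V) =
          ((⟨y ^ n * u * (y ^ n)⁻¹, nQL _ (pow_mem hyL n) u u.2⟩ : QL) : V) := by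
        intro n
        induction n with
        | zero => intro u; simp
        | succ n ih =>
          intro u
          rw [Function.iterate_succ_apply', ih, hYmk]
          refine congrArg _ (Subtype.ext ?_)
          show y * (y ^ n * (u : G) * (y ^ n)⁻¹) * y⁻¹ = _
          simp only [pow_succ']; group
      rw [hpow]
      refine congrArg _ (Subtype.ext ?_)
      simp only [hz]; group
    haveI hLn : (QL.subgroupOf L).Normal := by rw [hQL, core_subgroupOf]; infer_instance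
    set π := QuotientGroup.mk' (QL.subgroupOf L) with hπ
    have hone : ∀ g : L, π g = 1 ↔ (g : G) ∈ QL := fun g => QuotientGroup.eq_one_iff g
    have heq : ∀ g g' : L, (g : G) * (g' : G)⁻¹ ∈ QL → π g = π g' := fun g g' hm => by
      rw [← mul_inv_eq_one, ← map_inv, ← map_mul, hone]; exact hm
    set η : L := ⟨y, hyL⟩
    set ξ : L := ⟨x, hxL⟩
    set α : L := ⟨a, haL⟩
    have hηξ : Commute (π η) (π ξ) := by
      show π η * π ξ = π ξ * π η
      rw [← map_mul, ← map_mul]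
      refine heq _ _ ?_
      have e1 : y * x * (x * y)⁻¹ = x * (x⁻¹ * y * x * y⁻¹) * x⁻¹ := by group
      show y * x * (x * y)⁻¹ ∈ QL
      rw [e1]; exact nQL x hxL _ hxy
    have hαη : π α * π η * (π α)⁻¹ = π η := by
      rw [← map_inv, ← map_mul, ← map_mul]
      refine heq _ _ ?_
      show a * y * a⁻¹ * y⁻¹ ∈ QL
      have := inv_mem hya
      rwa [show (y * a * y⁻¹ * a⁻¹)⁻¹ = a * y * a⁻¹ * y⁻¹ by group] at this
    have hαξ : π α * π ξ * (π α)⁻¹ = (π ξ)⁻¹ := by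
      refine eq_inv_of_mul_eq_one_left ?_
      rw [← map_inv, ← map_mul, ← map_mul, ← map_mul, hone]
      exact hax
    have hξ3 : π ξ ^ 3 = 1 := by
      rw [← map_pow, hone]
      show x ^ 3 ∈ QL
      rw [hx3]; exact one_mem _
    set ζ : L := ⟨z, hzL⟩
    have hζ : π ζ = π η ^ l * π ξ := by
      rw [← map_pow, ← map_mul]; rfl
    have hζ3 : π ζ ^ 3 = 1 := by
      have hη3 : π η ^ 3 = 1 := by
        rw [← map_pow, hone]
        show y ^ 3 ∈ QL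
        rw [← hy3, pow_orderOf_eq_one]; exact one_mem _
      rw [hζ, (hηξ.pow_left l).mul_pow, hξ3, ← pow_mul, mul_comm, pow_mul, hη3, one_pow, one_mul]
    have hζ1 : π ζ ≠ 1 := by
      intro h1
      rw [hζ] at h1
      have e1 : π ξ = (π η ^ l)⁻¹ := eq_inv_of_mul_eq_one_right h1
      have e2 : (π ξ)⁻¹ = π ξ := by
        calc (π ξ)⁻¹ = π α * π ξ * (π α)⁻¹ := hαξ.symm
          _ = ((π α * π η * (π α)⁻¹) ^ l)⁻¹ := by rw [e1, conj_pow]; group
          _ = π ξ := by rw [hαη, e1]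
      have e3 : π ξ * π ξ = 1 := by nth_rewrite 1 [← e2]; exact inv_mul_cancel _
      refine hxQL ((hone ξ).mp ?_)
      calc π ξ = π ξ ^ 3 * (π ξ * π ξ)⁻¹ := by simp [pow_succ, mul_assoc]
        _ = 1 := by rw [hξ3, e3, inv_one, mul_one]
    obtain ⟨w, hw, hw3⟩ := (h6.subgroup L).lift_three π (x := ζ) hζ3
    haveI : Fact (Nat.Prime 3) := ⟨Nat.prime_three⟩
    have hw31 : (w : G) ^ 3 = 1 := by rw [← Subgroup.coe_pow, hw3]; rfl
    have hwo : orderOf (w : G) = 3 := orderOf_eq_prime hw31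
      (fun e1 => hζ1 (by rw [← hw, show w = 1 from Subtype.ext e1, map_one]))
    have hq : z⁻¹ * (w : G) ∈ QL := by
      refine (hone (ζ⁻¹ * w)).mp ?_
      rw [map_mul, map_inv, hw, inv_mul_cancel]
    set q := z⁻¹ * (w : G) with hqd
    set d := (w : G) * t * (w : G)⁻¹ * t⁻¹ with hd'
    have hdD : d ∈ D0 := by
      have h1 : ((⟨q, hq⟩ : QL) * ⟨t, ht⟩ * (⟨q, hq⟩ : QL)⁻¹ : QL) = (⟨q * t * q⁻¹, mul_mem (mul_mem hq ht) (inv_mem hq)⟩ : QL) := rfl
      have h2' : ((⟨q * t * q⁻¹, mul_mem (mul_mem hq ht) (inv_mem hq)⟩ : QL) : V) = ((⟨t, ht⟩ : QL) : V) := by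
        rw [← h1, QuotientGroup.mk_mul, QuotientGroup.mk_mul, QuotientGroup.mk_inv,
          hcV ((⟨q, hq⟩ : QL) : V) ((⟨t, ht⟩ : QL) : V),
          mul_inv_cancel_right]
      have h3 := QuotientGroup.eq.mp h2'.symm
      rw [hDq, Subgroup.mem_subgroupOf, Subgroup.coe_mul, Subgroup.coe_inv] at h3
      have h4 := QuotientGroup.eq.mp hzV.symm
      rw [hDq, Subgroup.mem_subgroupOf, Subgroup.coe_mul, Subgroup.coe_inv] at h4
      have hzD : ∀ c ∈ D0, z * c * z⁻¹ ∈ D0 := by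
        intro c hc
        rw [hz, show y ^ l * x * c * (y ^ l * x)⁻¹ = y ^ l * (x * c * x⁻¹) * (y ^ l)⁻¹ by group, hxD c hc]
        induction l with
        | zero => simpa using hc
        | succ n ih =>
          rw [show y ^ (n + 1) * c * (y ^ (n + 1))⁻¹ = y * (y ^ n * c * (y ^ n)⁻¹) * y⁻¹ by rw [pow_succ']; group]
          exact hyD _ (by
            clear * - hc hyD
            induction n with
            | zero => simpa using hc
            | succ m ih' =>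
              rw [show y ^ (m + 1) * c * (y ^ (m + 1))⁻¹ = y * (y ^ m * c * (y ^ m)⁻¹) * y⁻¹ by rw [pow_succ']; group]
              exact hyD _ ih')
      have e1 : d = t * ((t⁻¹ * (z * t * z⁻¹)) * (z * (t⁻¹ * (q * t * q⁻¹)) * z⁻¹)) * t⁻¹ := by
        rw [hd', hqd]; group
      rw [e1, ← hDc _ (mul_mem h4 (hzD _ h3)) t ht, mul_inv_cancel_right]
      exact mul_mem h4 (hzD _ h3)
    have hdQ := hD0le hdD
    set d' := (w : G) * d * (w : G)⁻¹ with hd''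
    have hd'D : d' ∈ QL := nQL _ w.2 _ hdQ
    set u := t * ((w : G) * t * (w : G)⁻¹) * ((w : G) * ((w : G) * t * (w : G)⁻¹) * (w : G)⁻¹) with hu
    have hwt : (w : G) * t * (w : G)⁻¹ = d * t := by rw [hd']; group
    have hd'0 : d' ∈ D0 := by
      have hdd : ∀ c ∈ D0, (w : G) * c * (w : G)⁻¹ ∈ D0 := fun c hc => by
        have hwz : (w : G) = z * q := by rw [hqd]; group
        rw [hwz, show z * q * c * (z * q)⁻¹ = z * (q * c * q⁻¹) * z⁻¹ by group, ← hDc c hc q hq,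
          mul_inv_cancel_right, hz, show y ^ l * x * c * (y ^ l * x)⁻¹ = y ^ l * (x * c * x⁻¹) * (y ^ l)⁻¹ by group,
          hxD c hc]
        clear * - hc hyD
        induction l with
        | zero => simpa using hc
        | succ m ih' =>
          rw [show y ^ (m + 1) * c * (y ^ (m + 1))⁻¹ = y * (y ^ m * c * (y ^ m)⁻¹) * y⁻¹ by rw [pow_succ']; group]
          exact hyD _ ih'
      exact hdd d hdD
    have hu2 : u = t * t * t * d' := by
      have e1 : (w : G) * (d * t) * (w : G)⁻¹ = d' * (d * t) := by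
        calc (w : G) * (d * t) * (w : G)⁻¹ = d' * ((w : G) * t * (w : G)⁻¹) := by rw [hd'']; group
          _ = d' * (d * t) := by rw [hwt]
      have hd2 : d * d = 1 := hsqQ d hdD.1.1
      rw [hu, hwt, e1]
      have e2 : d * t * (d * t) = d * d * (t * t) := by
        calc d * t * (d * t) = d * (t * d) * t := by group
          _ = d * d * (t * t) := by rw [← hDc d hdD t ht]; group
      calc t * (d * t) * (d' * (d * t)) = t * ((d * t) * (d * t)) * d' := by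
            rw [hDc d' hd'0 _ (mul_mem hdQ ht)]; group
        _ = t * t * t * d' := by rw [e2, hd2, one_mul]; group
    have htu : t⁻¹ * u * t = u := by
      rw [hu2]
      calc t⁻¹ * (t * t * t * d') * t = t * t * (d' * t) := by group
        _ = t * t * t * d' := by rw [hDc d' hd'0 t ht]; group
    have hcu : Commute (w : G) u := by
      refine mul_inv_eq_iff_eq_mul.mp ?_
      calc (w : G) * u * (w : G)⁻¹ = t⁻¹ * u * ((w : G) ^ 3 * t * ((w : G) ^ 3)⁻¹) := by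
            rw [hu]; simp only [pow_succ, pow_zero, one_mul]; group
        _ = u := by rw [hw31, one_mul, inv_one, mul_one, htu]
    obtain ⟨j, hj⟩ := core_isPGroup L ⟨u, hu2 ▸ mul_mem (mul_mem (mul_mem ht ht) ht) hd'D⟩
    have h6u := h6.commute_three hwo hcu (congrArg Subtype.val hj)
    rw [hu2] at h6u
    have h4 := h6.pgroup_pow_four (core_isPGroup L) ht
    calc t * t = (t * t * t * d') * (t * t * t * d') * ((d' * d')⁻¹ * (t ^ 4)⁻¹) := by
          rw [mul_assoc (t * t * t) d', ← mul_assoc d' (t * t * t) d', hDc d' hd'0 _ (mul_mem (mul_mem ht ht) ht)]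
          simp only [pow_succ, pow_zero, one_mul]; group; simp [zpow_two, pow_two]
      _ = 1 := by rw [h6u, hsqQ d' hd'0.1.1, h4]; simp
  have hcL : ∀ u ∈ QL, ∀ v ∈ QL, u * v = v * u := fun u hu v hv => by
    haveI := isMulCommutative_of_sq hsqL
    exact congrArg Subtype.val (IsMulCommutative.is_comm.comm (⟨u, hu⟩ : QL) ⟨v, hv⟩)
  have hWfix : W0 ≤ fixC S P := by
    intro w hw
    refine mem_fixC.mpr ⟨hw.1, fun t ht => ?_⟩
    have : S ≤ Subgroup.centralizer {w} := by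
      rw [← hsup]
      refine sup_le (fun q hq => ?_) (fun q hq => ?_) <;> rw [Subgroup.mem_centralizer_singleton_iff]
      · exact hcQ q hq w hw.1
      · exact hcL q hq w hw.2
    exact Subgroup.mem_centralizer_singleton_iff.mp (this ht)
  -- counting
  set c := Nat.card ↥(Q ⊓ Subgroup.centralizer {t2}) with hc
  have hc2 : c * c = Nat.card Q := by rw [← pow_two]; exact (h.cent_card h6 (hQLS ht2L) ht2Q).2
  have hcW : c ≤ Nat.card W0 := by
    let f : Q →* W0 :=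
      { toFun := fun q => ⟨q * t2 * (q : G)⁻¹ * t2⁻¹,
          Subgroup.mem_inf.mpr ⟨by
            rw [mul_assoc (q : G), mul_assoc (q : G)]
            exact mul_mem q.2 (nQ t2 (hSP (hQLS ht2L)) _ (inv_mem q.2)),
          mul_mem (nQL _ (hF.le (hQS q.2)) _ ht2L) (inv_mem ht2L)⟩⟩
        map_one' := Subtype.ext (by simp)
        map_mul' := fun p q => Subtype.ext (by
          simp only [Subgroup.coe_mul]
          set A := (p : G) * t2 * (p : G)⁻¹ * t2⁻¹ with hA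
          set B := (q : G) * t2 * (q : G)⁻¹ * t2⁻¹ with hB
          have hBQ : B ∈ Q := by
            rw [hB, mul_assoc (q : G), mul_assoc (q : G)]
            exact mul_mem q.2 (nQ t2 (hSP (hQLS ht2L)) _ (inv_mem q.2))
          have hAQ : A ∈ Q := by
            rw [hA, mul_assoc (p : G), mul_assoc (p : G)]
            exact mul_mem p.2 (nQ t2 (hSP (hQLS ht2L)) _ (inv_mem p.2))
          calc (p : G) * q * t2 * ((p : G) * q)⁻¹ * t2⁻¹ = ((p : G) * B * (p : G)⁻¹) * A := by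
                rw [hA, hB]; group
            _ = A * B := by rw [hcQ _ p.2 B hBQ, mul_inv_cancel_right, hcQ B hBQ A hAQ]) }
    have hk : Nat.card f.ker ≤ c := Nat.card_le_card_of_injective
      (fun q => (⟨(q.1 : G), q.1.2, Subgroup.mem_centralizer_singleton_iff.mpr (by
        have := congrArg Subtype.val (MonoidHom.mem_ker.mp q.2)
        exact mul_inv_eq_iff_eq_mul.mp (mul_inv_eq_one.mp this))⟩ : ↥(Q ⊓ Subgroup.centralizer {t2})))
      (fun p q e1 => Subtype.ext (Subtype.ext (congrArg (fun z : ↥(Q ⊓ Subgroup.centralizer {t2}) => (z : G)) e1)))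
    have h1 : Nat.card Q = Nat.card f.ker * Nat.card f.range := by
      rw [← Subgroup.index_ker f]; exact (Subgroup.card_mul_index f.ker).symm
    have h3 := Subgroup.card_le_card_group f.range
    have h4 : c * c ≤ c * Nat.card W0 := by rw [hc2, h1]; exact Nat.mul_le_mul hk h3
    exact Nat.le_of_mul_le_mul_left h4 Nat.card_pos
  have hfc : Nat.card (fixC S P) ≤ c := Nat.mul_self_le_mul_self_iff.mp (by rw [hc2]; exact h.fixC_card_sq_le h6)
  have hWeq : W0 = fixC S P := Subgroup.eq_of_le_of_card_ge hWfix (hfc.trans hcW)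
  have hcf : Nat.card (fixC S P) = c := le_antisymm hfc (hWeq ▸ hcW)
  have hC : ∀ t ∈ S, t ∉ Q → Q ⊓ Subgroup.centralizer {t} ≤ fixC S P := by
    intro t ht htQ
    have hle : fixC S P ≤ Q ⊓ Subgroup.centralizer {t} := fun v hv =>
      ⟨hv.1, Subgroup.mem_centralizer_singleton_iff.mpr ((mem_fixC.mp hv).2 t ht).symm⟩
    refine (Subgroup.eq_of_le_of_card_ge hle (le_of_eq ?_)).ge
    have := (h.cent_card h6 ht htQ).2
    rw [← hQ, pow_two, ← hc2] at this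
    rw [hcf]; exact Nat.mul_self_inj.mp this
  obtain ⟨e0, he0, he01, hye0⟩ := h.exists_fixed h6 hy hyx (a := a) (by rw [hcf]; exact hc2)
    (fun v hv => by rw [← hWeq] at hv ⊢; exact hW0n y hy hyL v hv) haQ (fun hm => haQL (hWeq.ge hm).2)
    (hWeq ▸ Subgroup.mem_inf.mpr ⟨mul_mem (nQ y hy a haQ) (inv_mem haQ), hya⟩)
  exact he01 (h.point_fixed h6 hy hyx hC he0 hye0)

end CfsgLib.SpecSix
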