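import Cfsg.Agent.Lib.SpecSix.Five

/-!
Element orders at most six: solvable overgroups of the Sylow 2-subgroup inside a parabolic with top `A₅`.
-/

set_option autoImplicit false
set_option linter.unusedSectionVars false
set_option linter.style.haveILetI false

namespace CfsgLib.SpecSix

open Cfsg CfsgLib.SpecFive

universe u

local notation "A5" => alternatingGroup (Fin 5)

set_option maxRecDepth 4000 in
theorem generate_five : ∀ a : A5, (∀ p : Fin 4, ∃ q : Fin 4, a * AltFive.U p * a⁻¹ = AltFive.U q) ∨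
    ∃ p q : Fin 4, (AltFive.U p * (a * AltFive.U q * a⁻¹)) ^ 5 = 1 ∧ AltFive.U p * (a * AltFive.U q * a⁻¹) ≠ 1 := by
  decide +kernel

set_option maxRecDepth 4000 in
theorem generate_three : ∀ a : A5, (∀ p : Fin 4, ∃ q : Fin 4, a * AltFive.U p * a⁻¹ = AltFive.U q) ∨
    ∃ p q : Fin 4, (AltFive.U p * (a * AltFive.U q * a⁻¹)) ^ 3 = 1 ∧ AltFive.U p * (a * AltFive.U q * a⁻¹) ≠ 1 := by
  decide +kernel

/-- An element outside the normalizer of the four group generates `A₅` with it. -/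
theorem eq_top_of_not_normalizes {H : Subgroup A5} (hV : Vfour ≤ H) {a : A5} (ha : a ∈ H)
    (hn : ¬ ∀ p : Fin 4, ∃ q : Fin 4, a * AltFive.U p * a⁻¹ = AltFive.U q) : H = ⊤ := by
  have hU : ∀ p, AltFive.U p ∈ H := fun p => hV ⟨p, rfl⟩
  have hdvd : ∀ r : ℕ, r.Prime → (∃ p q : Fin 4, (AltFive.U p * (a * AltFive.U q * a⁻¹)) ^ r = 1 ∧
      AltFive.U p * (a * AltFive.U q * a⁻¹) ≠ 1) → r ∣ Nat.card H := by
    rintro r hr ⟨p, q, h1, h2⟩
    haveI := Fact.mk hr
    rw [← orderOf_eq_prime h1 h2]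
    exact Subgroup.orderOf_dvd_natCard H (mul_mem (hU p) (mul_mem (mul_mem ha (hU q)) (inv_mem ha)))
  have h5 := hdvd 5 (by norm_num) ((generate_five a).resolve_left hn)
  have h3 := hdvd 3 Nat.prime_three ((generate_three a).resolve_left hn)
  have h4 : 4 ∣ Nat.card H := card_Vfour ▸ Subgroup.card_dvd_of_le hV
  refine Subgroup.eq_top_of_card_eq H ?_
  rw [card_A5]
  refine Nat.dvd_antisymm (card_A5 ▸ Subgroup.card_subgroup_dvd_card H) ?_
  exact Nat.Coprime.mul_dvd_of_dvd_of_dvd (show Nat.Coprime (4 * 3) 5 by norm_num)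
    (Nat.Coprime.mul_dvd_of_dvd_of_dvd (by norm_num) h4 h3) h5

variable {G : Type u} [Group G] [Finite G] {T P : Subgroup G} {φ : P →* A5}

/-- A solvable overgroup of the Sylow 2-subgroup normalises it. -/
theorem Five.solvable_sub (h : Five T P φ) {H : Subgroup G} [hs : Group.IsSolvable H] (hTH : T ≤ H) (hHP : H ≤ P) :
    H ≤ Subgroup.normalizer (T : Set G) := by
  intro g hg
  by_contra hn
  have hVH : Vfour ≤ (H.subgroupOf P).map φ := fun v hv => by
    obtain ⟨a, rfl⟩ := h.surj v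
    exact ⟨a, hTH ((h.mem_T a).mpr hv), rfl⟩
  have htop : (H.subgroupOf P).map φ = ⊤ := by
    refine eq_top_of_not_normalizes hVH ⟨⟨g, hHP hg⟩, hg, rfl⟩ fun hall => hn ?_
    refine CfsgLib.JComp.mem_normalizer_of_conj_mem fun t ht => ?_
    obtain ⟨p, hp⟩ := mem_Vfour.mp ((h.mem_T ⟨t, h.frame.le ht⟩).mp ht)
    refine (h.mem_T (⟨g, hHP hg⟩ * ⟨t, h.frame.le ht⟩ * (⟨g, hHP hg⟩ : P)⁻¹)).mpr ?_
    rw [map_mul, map_mul, map_inv, hp]
    exact hall p
  let ψ : H →* A5 := φ.comp (Subgroup.inclusion hHP)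
  have hψ : Function.Surjective ψ := fun v => by
    obtain ⟨a, ha, rfl⟩ := (htop ▸ Subgroup.mem_top v : v ∈ (H.subgroupOf P).map φ)
    exact ⟨⟨a, ha⟩, rfl⟩
  haveI : Group.IsSolvable A5 := Group.isSolvable_of_surjective hψ
  exact Equiv.Perm.not_isSolvable_fin_5 (Group.isSolvable_of_ker_le_range (alternatingGroup (Fin 5)).subtype
    Equiv.Perm.sign (fun g hg => ⟨⟨g, Equiv.Perm.mem_alternatingGroup.mpr hg⟩, rfl⟩))

end CfsgLib.SpecSix
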