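import Cfsg.Agent.Lib.SpecSix.Cover
import Cfsg.Agent.Lib.SpecSix.LemmaY
import Cfsg.Agent.Lib.SpecSix.SolvableSub

/-!
Element orders at most six, the simple case: no parabolic has top `A₅`.
-/

set_option autoImplicit false
set_option linter.unusedSectionVars false
set_option linter.style.haveILetI false

namespace CfsgLib.SpecSix

open Cfsg CfsgLib.SpecFive
open scoped Pointwise

universe u

local notation "A5" => alternatingGroup (Fin 5)

theorem three_normalizing : ∀ v : A5, v ^ 3 = 1 → v ≠ 1 →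
    (∀ p : Fin 4, ∃ q : Fin 4, v * AltFive.U p * v⁻¹ = AltFive.U q) →
    ∃ q : Fin 4, ∃ k : Fin 3, k ≠ 0 ∧ v = AltFive.U q * AltFive.x ^ (k : ℕ) := by
  decide +kernel

variable {G : Type u} [Group G] [Finite G] {S : Sylow 2 G}

theorem Five.not_solvable {T P : Subgroup G} {φ : P →* A5} (h : Five T P φ) : ¬ Group.IsSolvable P := fun hs => by
  haveI := hs
  haveI : Group.IsSolvable A5 := Group.isSolvable_of_surjective h.surj
  exact Equiv.Perm.not_isSolvable_fin_5 (Group.isSolvable_of_ker_le_range (alternatingGroup (Fin 5)).subtype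
    Equiv.Perm.sign (fun g hg => ⟨⟨g, Equiv.Perm.mem_alternatingGroup.mpr hg⟩, rfl⟩))

theorem Five.exists_outside {T P : Subgroup G} {φ : P →* A5} (h : Five T P φ) :
    ∃ t ∈ T, t ∉ pCoreOf 2 P := by
  by_contra hno
  push Not at hno
  have := h.relIndex_T
  rw [Subgroup.relIndex_eq_one.mpr hno] at this
  omega

theorem Five.elementary {T P : Subgroup G} {φ : P →* A5} (h : Five T P φ) (h6 : Six G) :
    ∀ v ∈ pCoreOf 2 P, v * v = 1 := by
  obtain ⟨t, ht, htQ⟩ := h.exists_outside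
  exact (h.cent_card h6 ht htQ).1

theorem Five.card_core {T P : Subgroup G} {φ : P →* A5} (h : Five T P φ) :
    4 * Nat.card (pCoreOf 2 P) = Nat.card T := by
  rw [← h.frame.card_eq, h.relIndex_T, mul_comm]

theorem Five.core_big {T P : Subgroup G} {φ : P →* A5} (h : Five T P φ) (h6 : Six G) [Nontrivial G] :
    ¬ Nat.card (pCoreOf 2 P) ≤ 4 := fun hle => by
  obtain ⟨r, hr⟩ := h.surj rot
  refine h.frame.core_ne_bot (h6.five_small (core_isPGroup P)
    (h.orderOf_five h6 (a := r) (by rw [hr]; exact rot_five.1) ?_) (le_normalizer_core P r.2) hle)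
  rw [hr]; decide

/-- Next to a parabolic with top `A₅` every parabolic is one. -/
theorem Hyp.all_five (H : Hyp G) {P : Subgroup G} {φ : P →* A5} (h : Five (S : Subgroup G) P φ)
    {P' : Subgroup G} (hP' : Parab (S : Subgroup G) P') : ∃ φ' : P' →* A5, Five (S : Subgroup G) P' φ' := by
  haveI := H.nontrivial
  by_cases hs : Group.IsSolvable P'
  swap
  · exact H.exists_five hP'.toFrame hs
  exfalso
  obtain ⟨y, hyP, hy3, hyS, -, _, hyx⟩ := h.exists_y H.six
  -- no characteristic subgroup is normal in the solvable parabolic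
  have hchar : ∀ C : Subgroup G, C ≠ ⊥ → C ≤ (S : Subgroup G) → P' ≤ Subgroup.normalizer (C : Set G) →
      Subgroup.normalizer ((S : Subgroup G) : Set G) ≤ Subgroup.normalizer (C : Set G) → False := by
    intro C hC1 hCS hPC hNC
    have hF : Frame (S : Subgroup G) (Subgroup.normalizer (C : Set G)) :=
      H.frame_over S (S.isPGroup'.to_le hCS) hC1 (hP'.le.trans hPC) le_rfl
    refine hP'.not_normal ?_
    by_cases hN : Group.IsSolvable (Subgroup.normalizer (C : Set G))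
    · exact hPC.trans (h.lemma_y H.six hyP hyx hy3 (hNC hyS) hF)
    · obtain ⟨ψ, hψ⟩ := H.exists_five hF hN
      exact hψ.solvable_sub hP'.le hPC
  have hel : ∀ v ∈ pCoreOf 2 P', v * v = 1 := by
    rcases hP'.index_solvable H.six with h6 | h10
    · rcases hP'.char_or_elementary H.six h6 with ⟨C, hC1, hCS, hPC, hNC⟩ | hel
      · exact (hchar C hC1 hCS hPC hNC).elim
      · exact hel
    · obtain ⟨-, x, hxP, t, ht, hxo, -, -, -, hinv, -⟩ := hP'.di H.six (p := 5) (Or.inr rfl) h10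
      exact (hP'.toFrame.five_inverted H.six ht hxP hxo hinv).1
  have hidx : (pCoreOf 2 P').relIndex (S : Subgroup G) = 2 := by
    rcases hP'.index_solvable H.six with h6 | h10
    · exact (hP'.di H.six (p := 3) (Or.inl rfl) h6).1
    · exact (hP'.di H.six (p := 5) (Or.inr rfl) h10).1
  set Q := pCoreOf 2 P with hQ
  set Q' := pCoreOf 2 P' with hQ'
  have hcQ : 4 * Nat.card Q = Nat.card (S : Subgroup G) := h.card_core
  have hcQ' : Nat.card Q' * 2 = Nat.card (S : Subgroup G) := by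
    rw [← hP'.toFrame.card_eq, ← hQ', hidx]
  have hQpos := Nat.card_pos (α := Q)
  obtain ⟨a, ha, haQ⟩ : ∃ a ∈ Q', a ∉ Q := SetLike.not_le_iff_exists.mp fun hle => by
    have := Subgroup.card_le_of_le hle
    omega
  have hn : Q ≤ Subgroup.normalizer (Q' : Set G) :=
    h.frame.core_le_T.trans (hP'.le.trans (le_normalizer_core P'))
  have hsum := CfsgLib.JComp.card_sup_mul_card_inf hn
  have hsupS : Nat.card ↥(Q ⊔ Q') ≤ Nat.card (S : Subgroup G) :=
    Subgroup.card_le_of_le (sup_le h.frame.core_le_T hP'.core_le_T)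
  have hD : Q ⊓ Q' ≤ Q ⊓ Subgroup.centralizer {a} := fun d hd => ⟨hd.1, by
    refine Subgroup.mem_centralizer_singleton_iff.mpr ?_
    haveI := isMulCommutative_of_sq hel
    exact congrArg Subtype.val (IsMulCommutative.is_comm.comm (⟨d, hd.2⟩ : Q') ⟨a, ha⟩)⟩
  have hc := (h.cent_card H.six (hP'.core_le_T ha) haQ).2
  rw [← hQ] at hc
  have hD' := Subgroup.card_le_of_le hD
  have hQ'pos := Nat.card_pos (α := Q')
  have hle2 : Nat.card Q ≤ 2 * Nat.card ↥(Q ⊓ Q') := by
    refine Nat.le_of_mul_le_mul_left ?_ hQ'pos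
    calc Nat.card Q' * Nat.card Q = Nat.card ↥(Q ⊔ Q') * Nat.card ↥(Q ⊓ Q') := by rw [hsum, mul_comm]
      _ ≤ (Nat.card Q' * 2) * Nat.card ↥(Q ⊓ Q') := Nat.mul_le_mul_right _ (by omega)
      _ = Nat.card Q' * (2 * Nat.card ↥(Q ⊓ Q')) := by ring
  have hpos := Nat.card_pos (α := ↥(Q ⊓ Subgroup.centralizer {a}))
  exact h.core_big H.six (by nlinarith)

/-- Two different cores of parabolics with top `A₅`. -/
theorem Hyp.two_five (H : Hyp G) {P P2 : Subgroup G} {φ : P →* A5} {φ2 : P2 →* A5}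
    (h : Five (S : Subgroup G) P φ) (h2 : Five (S : Subgroup G) P2 φ2) (hne : pCoreOf 2 P2 ≠ pCoreOf 2 P) :
    Nat.card (pCoreOf 2 P) = 16 ∧ Nat.card ↥(pCoreOf 2 P ⊓ pCoreOf 2 P2) = 4 ∧
      fixC (S : Subgroup G) P = pCoreOf 2 P ⊓ pCoreOf 2 P2 ∧
      (∀ t ∈ (S : Subgroup G), t ∉ pCoreOf 2 P →
        pCoreOf 2 P ⊓ Subgroup.centralizer {t} ≤ fixC (S : Subgroup G) P) ∧
      ∀ w ∈ (S : Subgroup G), w * w = 1 → w ∈ pCoreOf 2 P ∨ w ∈ pCoreOf 2 P2 := by
  haveI := H.nontrivial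
  set Q := pCoreOf 2 P with hQ
  set Q2 := pCoreOf 2 P2 with hQ2
  have hcQ : 4 * Nat.card Q = Nat.card (S : Subgroup G) := h.card_core
  have hcQ2 : 4 * Nat.card Q2 = Nat.card (S : Subgroup G) := h2.card_core
  have hel := h.elementary H.six
  have hel2 := h2.elementary H.six
  have hc2 : ∀ a ∈ Q2, ∀ b ∈ Q2, a * b = b * a := fun a ha b hb => by
    haveI := isMulCommutative_of_sq hel2
    exact congrArg Subtype.val (IsMulCommutative.is_comm.comm (⟨a, ha⟩ : Q2) ⟨b, hb⟩)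
  have hc1 : ∀ a ∈ Q, ∀ b ∈ Q, a * b = b * a := fun a ha b hb => by
    haveI := isMulCommutative_of_sq hel
    exact congrArg Subtype.val (IsMulCommutative.is_comm.comm (⟨a, ha⟩ : Q) ⟨b, hb⟩)
  obtain ⟨t0, ht0, ht0Q⟩ : ∃ t ∈ Q2, t ∉ Q := SetLike.not_le_iff_exists.mp fun hle =>
    hne (Subgroup.eq_of_le_of_card_ge hle (by omega))
  have hn : Q ≤ Subgroup.normalizer (Q2 : Set G) :=
    h.frame.core_le_T.trans (h2.frame.le.trans (le_normalizer_core P2))
  have hsum := CfsgLib.JComp.card_sup_mul_card_inf hn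
  have hQS : Q ⊔ Q2 ≤ (S : Subgroup G) := sup_le h.frame.core_le_T h2.frame.core_le_T
  have hsupS := Subgroup.card_le_of_le hQS
  have hle : ∀ a ∈ Q2, Q ⊓ Q2 ≤ Q ⊓ Subgroup.centralizer {a} := fun a ha d hd =>
    ⟨hd.1, Subgroup.mem_centralizer_singleton_iff.mpr (hc2 d hd.2 a ha)⟩
  have h4 : Nat.card Q ≤ 4 * Nat.card ↥(Q ⊓ Q2) := by
    have hQQ : Nat.card Q2 = Nat.card Q := by omega
    refine Nat.le_of_mul_le_mul_left ?_ (Nat.card_pos (α := Q))
    calc Nat.card Q * Nat.card Q = Nat.card ↥(Q ⊔ Q2) * Nat.card ↥(Q ⊓ Q2) := by rw [hsum, hQQ]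
      _ ≤ (4 * Nat.card Q) * Nat.card ↥(Q ⊓ Q2) := Nat.mul_le_mul_right _ (by omega)
      _ = Nat.card Q * (4 * Nat.card ↥(Q ⊓ Q2)) := by ring
  have hbig := h.core_big H.six
  rw [← hQ] at hbig
  have hcard : ∀ a ∈ Q2, a ∉ Q → Nat.card Q = 16 ∧ Nat.card ↥(Q ⊓ Subgroup.centralizer {a}) = 4 ∧
      Nat.card ↥(Q ⊓ Q2) = 4 := by
    intro a ha haQ
    have hcle := Subgroup.card_le_of_le (hle a ha)
    have hc := (h.cent_card H.six (h2.frame.core_le_T ha) haQ).2
    rw [← hQ] at hc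
    set c := Nat.card ↥(Q ⊓ Subgroup.centralizer {a}) with hcd
    have hc4 : c ≤ 4 := by nlinarith
    obtain ⟨n, hn'⟩ := IsPGroup.iff_card.mp (core_isPGroup P)
    rw [← hQ] at hn'
    interval_cases c
    · omega
    · omega
    · omega
    · exfalso
      rw [← hc] at hn'
      have : 3 ∣ 2 := Nat.Prime.dvd_of_dvd_pow Nat.prime_three (hn' ▸ (by norm_num : 3 ∣ 3 ^ 2))
      omega
    · norm_num at hc
      exact ⟨hc.symm, rfl, by omega⟩
  obtain ⟨h16, -, hD⟩ := hcard t0 ht0 ht0Q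
  have htop : Q ⊔ Q2 = (S : Subgroup G) := by
    refine Subgroup.eq_of_le_of_card_ge hQS ?_
    rw [hD, h16] at hsum
    omega
  have hDfix : Q ⊓ Q2 ≤ fixC (S : Subgroup G) P := fun d hd => by
    refine mem_fixC.mpr ⟨hd.1, fun t ht => ?_⟩
    have : (S : Subgroup G) ≤ Subgroup.centralizer {d} := by
      rw [← htop]
      refine sup_le (fun q hq => ?_) (fun q hq => ?_) <;> rw [Subgroup.mem_centralizer_singleton_iff]
      · exact hc1 q hq d hd.1
      · exact hc2 q hq d hd.2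
    exact Subgroup.mem_centralizer_singleton_iff.mp (this ht)
  have hfix4 : Nat.card (fixC (S : Subgroup G) P) ≤ 4 := by
    have := h.fixC_card_sq_le H.six
    rw [← hQ, h16] at this
    nlinarith
  have heq : fixC (S : Subgroup G) P = Q ⊓ Q2 :=
    (Subgroup.eq_of_le_of_card_ge hDfix (by rw [hD]; exact hfix4)).symm
  refine ⟨h16, hD, heq, fun t ht htQ => ?_, fun w hw hw2 => ?_⟩
  · have hle' : fixC (S : Subgroup G) P ≤ Q ⊓ Subgroup.centralizer {t} := fun v hv =>
      ⟨hv.1, Subgroup.mem_centralizer_singleton_iff.mpr ((mem_fixC.mp hv).2 t ht).symm⟩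
    refine (Subgroup.eq_of_le_of_card_ge hle' ?_).ge
    have := (h.cent_card H.six ht htQ).2
    rw [← hQ, h16] at this
    rw [heq, hD]; nlinarith
  · rw [← htop] at hw
    have hw' : w ∈ (Q : Set G) * (Q2 : Set G) := by
      rw [← Subgroup.coe_mul_of_left_le_normalizer_right _ _ hn]; exact hw
    obtain ⟨q, hq, a, ha, rfl⟩ := Set.mem_mul.mp hw'
    by_cases haQ : a ∈ Q
    · exact Or.inl (mul_mem hq haQ)
    obtain ⟨-, hca, hD'⟩ := hcard a ha haQ
    have e := Subgroup.eq_of_le_of_card_ge (hle a ha) (by rw [hca, hD'])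
    refine Or.inr (mul_mem (e.ge ⟨hq, Subgroup.mem_centralizer_singleton_iff.mpr ?_⟩).2 ha)
    calc q * a = q⁻¹ * a⁻¹ := by
          rw [inv_eq_of_mul_eq_one_left (hel q hq), inv_eq_of_mul_eq_one_left (hel2 a ha)]
      _ = q⁻¹ * (q * a * (q * a)) * a⁻¹ := by rw [hw2, mul_one]
      _ = a * q := by group

/-- An element of order six of a group with two such cores gives one of order three centralising a common point. -/
theorem Hyp.three_fixes (H : Hyp G) {P P2 : Subgroup G} {φ : P →* A5} {φ2 : P2 →* A5}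
    (h : Five (S : Subgroup G) P φ) (h2 : Five (S : Subgroup G) P2 φ2) (hne : pCoreOf 2 P2 ≠ pCoreOf 2 P) :
    ∃ z ∈ fixC (S : Subgroup G) P, z ≠ 1 ∧ ∃ g : G, orderOf g = 3 ∧ Commute g z := by
  haveI : Fact (Nat.Prime 2) := ⟨Nat.prime_two⟩
  obtain ⟨h16, hD, heq, -, hinv⟩ := H.two_five h h2 hne
  obtain ⟨h16', -, heq', -, -⟩ := H.two_five h2 h hne.symm
  have heq2 : fixC (S : Subgroup G) P2 = fixC (S : Subgroup G) P := by rw [heq, heq', inf_comm]
  have h4 : Nat.card (fixC (S : Subgroup G) P) = 4 := by rw [heq, hD]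
  obtain ⟨⟨z, hz⟩, hz1⟩ : ∃ z : fixC (S : Subgroup G) P, z ≠ 1 := by
    refine Subgroup.ne_bot_iff_exists_ne_one.mp fun e => ?_
    rw [e, Subgroup.card_bot] at h4
    omega
  have hz1' : z ≠ 1 := fun e => hz1 (Subtype.ext e)
  obtain ⟨g, hg⟩ := H.order_six
  obtain ⟨S', hS'⟩ := (IsPGroup.of_card (n := 1) (by
      rw [Nat.card_zpowers, orderOf_pow' g (by norm_num), hg]; norm_num) :
    IsPGroup 2 (Subgroup.zpowers (g ^ 3))).exists_le_sylow
  obtain ⟨l, hl⟩ := MulAction.exists_smul_eq G S' S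
  have htS : l * g ^ 3 * l⁻¹ ∈ (S : Subgroup G) := by
    rw [← hl]; exact ⟨_, hS' (Subgroup.mem_zpowers _), rfl⟩
  set t := l * g ^ 3 * l⁻¹ with ht
  have ht2 : t * t = 1 := by
    calc t * t = l * g ^ 6 * l⁻¹ := by rw [ht]; simp only [pow_succ, pow_zero, one_mul]; group
      _ = 1 := by rw [← hg, pow_orderOf_eq_one]; group
  have ht1 : t ≠ 1 := fun e => by
    rw [ht, conj_eq_one_iff] at e
    have := Nat.le_of_dvd (by norm_num) (hg ▸ orderOf_dvd_of_pow_eq_one e)
    omega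
  obtain ⟨k, hk⟩ : ∃ k : G, k * z * k⁻¹ = t := by
    rcases hinv t htS ht2 with hm | hm
    · obtain ⟨k, -, hk⟩ := h.natural H.six h16 h4 t hm ht1 z hz hz1'
      exact ⟨k, hk⟩
    · obtain ⟨k, -, hk⟩ := h2.natural H.six h16' (by rw [heq2]; exact h4) t hm ht1 z (heq2 ▸ hz) hz1'
      exact ⟨k, hk⟩
  set g' := (k⁻¹ * l) * g * (k⁻¹ * l)⁻¹ with hg'
  have hz3 : g' ^ 3 = z := by
    calc g' ^ 3 = k⁻¹ * (l * g ^ 3 * l⁻¹) * k := by rw [hg', conj_pow]; group
      _ = z := by rw [← ht, ← hk]; group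
  refine ⟨z, hz, hz1', g' ^ 2, ?_, hz3 ▸ (Commute.refl g').pow_pow 2 3⟩
  rw [orderOf_pow' g' (by norm_num), hg', show (k⁻¹ * l) * g * (k⁻¹ * l)⁻¹ = MulAut.conj (k⁻¹ * l) g from rfl,
    MulEquiv.orderOf_eq, hg]
  norm_num

/-- **No parabolic has top `A₅`.** -/
theorem Hyp.five_world (H : Hyp G) {P : Subgroup G} (hP : Parab (S : Subgroup G) P) {φ : P →* A5}
    (h : Five (S : Subgroup G) P φ) : False := by
  haveI := H.nontrivial
  haveI : Fact (Nat.Prime 3) := ⟨Nat.prime_three⟩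
  set Q := pCoreOf 2 P with hQ
  by_cases hsame : ∀ P' : Subgroup G, Parab (S : Subgroup G) P' → pCoreOf 2 P' = Q
  · refine H.no_cover S (H.normalizer_ne_top (core_isPGroup P) h.frame.core_ne_bot) (fun n hn => ?_)
      (fun P' hP' => ?_)
    · refine CfsgLib.Local.mem_normalizer_of_map_conj_eq ?_
      rw [← core_map_conj]
      exact hsame _ (hP.conj_sylow hn)
    · have := le_normalizer_core P'
      rwa [hsame P' hP'] at this
  push Not at hsame
  obtain ⟨P2, hP2, hne⟩ := hsame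
  obtain ⟨φ2, h2⟩ := H.all_five h hP2
  obtain ⟨-, -, -, hC, hinv⟩ := H.two_five h h2 hne
  obtain ⟨z, hz, hz1, g, hg, hgz⟩ := H.three_fixes h h2 hne
  set Z := Subgroup.zpowers z with hZ
  have hzQ : z ∈ Q := hz.1
  have hZ2 : IsPGroup 2 Z := (core_isPGroup P).to_le (Subgroup.zpowers_le.mpr hzQ)
  have hZ1 : Z ≠ ⊥ := fun e => hz1 (Subgroup.mem_bot.mp (e ▸ Subgroup.mem_zpowers z))
  have hCN : Subgroup.centralizer ({z} : Set G) ≤ Subgroup.normalizer (Z : Set G) := fun c hc =>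
    CfsgLib.JComp.mem_normalizer_of_conj_mem fun v hv => by
      obtain ⟨i, rfl⟩ := Subgroup.mem_zpowers_iff.mp hv
      have hcz : Commute c z := Subgroup.mem_centralizer_singleton_iff.mp hc
      rw [(hcz.zpow_right i).eq, mul_inv_cancel_right]
      exact Subgroup.zpow_mem_zpowers z i
  have hSC : (S : Subgroup G) ≤ Subgroup.centralizer {z} := fun s hs =>
    Subgroup.mem_centralizer_singleton_iff.mpr ((mem_fixC.mp hz).2 s hs)
  -- the centraliser of the common point normalises the Sylow subgroup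
  have hgS : g ∈ Subgroup.normalizer ((S : Subgroup G) : Set G) := by
    refine le_of_parab (M := Subgroup.normalizer ((S : Subgroup G) : Set G)) hSC
      (fun K hK hKC => H.frame_over S hZ2 hZ1 hK (hKC.trans hCN)) inf_le_right ?_
      (Subgroup.mem_centralizer_singleton_iff.mpr hgz.eq)
    intro P3 hP3C hP3
    exfalso
    obtain ⟨φ3, h3⟩ := H.all_five h hP3
    have hz3 : z ∈ fixC (S : Subgroup G) P3 := mem_fixC.mpr ⟨h3.frame.cent fun v hv =>
        Subgroup.mem_centralizer_singleton_iff.mp (hP3C (core_le P3 hv)), (mem_fixC.mp hz).2⟩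
    obtain ⟨w, hw⟩ := h3.surj AltFive.s
    have hd := h3.fixed_disjoint H.six (g := w) (by rw [hw]; exact s_five)
    have hmem : z ∈ fixC (S : Subgroup G) P3 ⊓
        (fixC (S : Subgroup G) P3).map (MulAut.conj (w : G)).toMonoidHom := by
      refine ⟨hz3, z, hz3, ?_⟩
      show (w : G) * z * (w : G)⁻¹ = z
      rw [Subgroup.mem_centralizer_singleton_iff.mp (hP3C w.2), mul_inv_cancel_right]
    rw [hd, Subgroup.mem_bot] at hmem
    exact hz1 hmem
  -- it fixes both cores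
  have hcores : ∀ P' : Subgroup G, Parab (S : Subgroup G) P' →
      pCoreOf 2 P' = Q ∨ pCoreOf 2 P' = pCoreOf 2 P2 := by
    intro P' hP'
    obtain ⟨φ', h'⟩ := H.all_five h hP'
    have hcc := h'.card_core
    have hcQ := h.card_core
    have hcQ2 := h2.card_core
    rw [← hQ] at hcQ
    have hmem : ∀ v ∈ pCoreOf 2 P', v ∈ Q ∨ v ∈ pCoreOf 2 P2 := fun v hv =>
      hinv v (h'.frame.core_le_T hv) (h'.elementary H.six v hv)
    by_cases hle : pCoreOf 2 P' ≤ Q
    · exact Or.inl (Subgroup.eq_of_le_of_card_ge hle (by omega))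
    · obtain ⟨v, hv, hvQ⟩ := SetLike.not_le_iff_exists.mp hle
      refine Or.inr (Subgroup.eq_of_le_of_card_ge (fun w hw => ?_) (by omega))
      rcases hmem w hw with hwQ | hw2
      · rcases hmem _ (mul_mem hv hw) with h1 | h1
        · exact absurd (by simpa using mul_mem h1 (inv_mem hwQ)) hvQ
        · have := mul_mem (inv_mem ((hmem v hv).resolve_left hvQ)) h1
          rwa [inv_mul_cancel_left] at this
      · exact hw2
  have hgQ : g ∈ Subgroup.normalizer (Q : Set G) := by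
    refine CfsgLib.Local.mem_normalizer_of_map_conj_eq ?_
    rcases hcores _ (hP.conj_sylow hgS) with e | e <;> rw [core_map_conj] at e
    · exact e
    exfalso
    have himg : ∀ A B : Subgroup G, A.map (MulAut.conj g).toMonoidHom = B →
        ∀ v, v ∈ A ↔ g * v * g⁻¹ ∈ B := fun A B hAB v => by
      rw [← hAB]
      exact ⟨fun hv => ⟨v, hv, rfl⟩, fun ⟨w, hw, hwv⟩ => ((MulAut.conj g).injective hwv) ▸ hw⟩
    rcases hcores _ (hP2.conj_sylow hgS) with e2 | e2 <;> rw [core_map_conj] at e2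
    · refine hne (Subgroup.ext fun v => ?_)
      have h3 : g * g * g = 1 := by rw [← pow_orderOf_eq_one g, hg, pow_succ, pow_two]
      rw [himg _ _ e2 v, himg _ _ e (g * v * g⁻¹), himg _ _ e2 (g * (g * v * g⁻¹) * g⁻¹)]
      rw [show g * (g * (g * v * g⁻¹) * g⁻¹) * g⁻¹ = (g * g * g) * v * (g * g * g)⁻¹ by group, h3, one_mul,
        inv_one, mul_one]
    · exact hne (Subgroup.map_injective (MulAut.conj g).injective (e2.trans e.symm))
  have hNF : Frame (S : Subgroup G) (Subgroup.normalizer (Q : Set G)) :=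
    H.frame_over S (core_isPGroup P) h.frame.core_ne_bot (h.frame.le.trans (le_normalizer_core P)) le_rfl
  have hNs : ¬ Group.IsSolvable (Subgroup.normalizer (Q : Set G)) := fun hs => h.not_solvable (by
    haveI := hs
    exact Group.isSolvable_of_isSolvable_injective (Subgroup.inclusion_injective (le_normalizer_core P)))
  obtain ⟨ψ, hψ⟩ := H.exists_five hNF hNs
  have hPN : P = Subgroup.normalizer (Q : Set G) := by
    refine Subgroup.eq_of_le_of_card_ge (le_normalizer_core P) ?_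
    rw [← core_card_mul P, ← core_card_mul (Subgroup.normalizer (Q : Set G)), h.relIndex_P, hψ.relIndex_P]
    have := h.card_core
    have := hψ.card_core
    omega
  have hgP : g ∈ P := hPN ▸ hgQ
  obtain ⟨y, hyP, hy3, hyS, -, _, hyx⟩ := h.exists_y H.six
  have hv1 : φ ⟨g, hgP⟩ ≠ 1 := fun e => by
    obtain ⟨j, hj⟩ := core_isPGroup P ⟨g, (h.mem_core ⟨g, hgP⟩).mpr e⟩
    have hd := hg ▸ orderOf_dvd_of_pow_eq_one (congrArg Subtype.val hj)
    have := Nat.Prime.dvd_of_dvd_pow Nat.prime_three hd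
    omega
  have hv3 : φ ⟨g, hgP⟩ ^ 3 = 1 := by
    rw [← map_pow, show (⟨g, hgP⟩ : P) ^ 3 = 1 from Subtype.ext (hg ▸ pow_orderOf_eq_one g), map_one]
  obtain ⟨q, k, hk, hqk⟩ := three_normalizing _ hv3 hv1 fun p => by
    obtain ⟨w, hw⟩ := h.surj (AltFive.U p)
    have hwS : (w : G) ∈ (S : Subgroup G) := (h.mem_T w).mpr (hw ▸ ⟨p, rfl⟩)
    obtain ⟨r, hr⟩ := mem_Vfour.mp ((h.mem_T (⟨g, hgP⟩ * w * (⟨g, hgP⟩ : P)⁻¹)).mp
      ((Subgroup.mem_normalizer_iff.mp hgS w).mp hwS))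
    exact ⟨r, by rw [← hw, ← map_inv, ← map_mul, ← map_mul]; exact hr⟩
  obtain ⟨w, hw⟩ := h.surj (AltFive.U q)
  have hwS : (w : G) ∈ (S : Subgroup G) := (h.mem_T w).mpr (hw ▸ ⟨q, rfl⟩)
  have e1 := h.act_congr H.six (a := ⟨g, hgP⟩) (b := w * ⟨y, hyP⟩ ^ (k : ℕ))
    (by simp only [map_mul, map_pow, hw, hyx]; exact hqk) hzQ
  simp only [Subgroup.coe_mul, Subgroup.coe_pow] at e1
  rw [hgz.eq, mul_inv_cancel_right] at e1
  have e2 : y ^ (k : ℕ) * z * (y ^ (k : ℕ))⁻¹ = z := by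
    calc y ^ (k : ℕ) * z * (y ^ (k : ℕ))⁻¹
        = (w : G)⁻¹ * ((w : G) * y ^ (k : ℕ) * z * ((w : G) * y ^ (k : ℕ))⁻¹) * w := by group
      _ = (w : G)⁻¹ * z * w := by rw [← e1]
      _ = z := by rw [mul_assoc, ← (mem_fixC.mp hz).2 _ hwS, inv_mul_cancel_left]
  have hk3 : Nat.Coprime (k : ℕ) 3 := by
    fin_cases k
    · exact absurd rfl hk
    · decide
    · decide
  obtain ⟨m, hm⟩ := exists_pow_eq_self_of_coprime (x := y) (n := (k : ℕ)) (by rw [hy3]; exact hk3)
  have hcy : Commute (y ^ (k : ℕ)) z := mul_inv_eq_iff_eq_mul.mp e2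
  exact hz1 (h.point_fixed H.six hyP hyx hC hz (hm ▸ hcy.pow_left m))

end CfsgLib.SpecSix
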