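import Cfsg.Agent.Lib.SpecSix.Basic
import Cfsg.Agent.Lib.CoprimeGen
import Cfsg.Agent.Lib.CoprimeSeries

/-!
Element orders at most six: an element of order three cycling the involutions of a four group cannot act on a
self-centralising 3-group.
-/

set_option autoImplicit false
set_option linter.unusedSectionVars false

namespace CfsgLib.SpecSix

universe u

variable {K : Type u} [Group K] [Finite K]

/-- An element of order three conjugating `r` to its inverse is impossible unless `r` is trivial. -/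
theorem eq_one_of_three_inverts {r s : K} (hr : r ^ 3 = 1) (hs : s ^ 3 = 1) (h : s⁻¹ * r * s = r⁻¹) : r = 1 := by
  have e2 : s⁻¹ * (s⁻¹ * r * s) * s = r := by
    calc s⁻¹ * (s⁻¹ * r * s) * s = s⁻¹ * r⁻¹ * s := by rw [h]
      _ = (s⁻¹ * r * s)⁻¹ := by group
      _ = r := by rw [h, inv_inv]
  have e3 : r = r⁻¹ := by
    calc r = (s ^ 3)⁻¹ * r * s ^ 3 := by rw [hs]; simp
      _ = s⁻¹ * (s⁻¹ * (s⁻¹ * r * s) * s) * s := by simp [pow_succ, mul_assoc]
      _ = r⁻¹ := by rw [e2, h]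
  have : r * r = 1 := by
    nth_rewrite 2 [e3]; exact mul_inv_cancel r
  calc r = r * (r * r) := by rw [this, mul_one]
    _ = 1 := by rw [← hr]; simp [pow_succ, mul_assoc]

/-- An element of order three cycling the involutions of a four group on a self-centralising 3-group. -/
theorem Six.no_cycle (h : Six K) (R : Subgroup K) [R.Normal] (hR : IsPGroup 3 R)
    (hC : Subgroup.centralizer (R : Set K) ≤ R) {a b y : K} (ha : a * a = 1) (hb : b * b = 1) (hab : Commute a b)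
    (ha1 : a ≠ 1) (hy : y ^ 3 = 1) (h1 : y * a * y⁻¹ = b) (h2 : y * b * y⁻¹ = a * b) : False := by
  classical
  haveI : Fact (Nat.Prime 3) := ⟨Nat.prime_three⟩
  have hexp : ∀ r ∈ R, r ^ 3 = 1 := fun r hr => by
    obtain ⟨j, hj⟩ := hR ⟨r, hr⟩
    exact h.pow_eq_one (Or.inl rfl) (congrArg Subtype.val hj)
  have hn : ∀ (g : K) {r : K}, r ∈ R → g * r * g⁻¹ ∈ R := fun g r hr => Subgroup.Normal.conj_mem ‹_› r hr g
  have ai : a⁻¹ = a := inv_eq_of_mul_eq_one_left ha
  have bi : b⁻¹ = b := inv_eq_of_mul_eq_one_left hb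
  have hyab : y * (a * b) * y⁻¹ = a := by
    calc y * (a * b) * y⁻¹ = (y * a * y⁻¹) * (y * b * y⁻¹) := by group
      _ = b * (a * b) := by rw [h1, h2]
      _ = a * (b * b) := by rw [← mul_assoc, ← hab.eq, mul_assoc]
      _ = a := by rw [hb, mul_one]
  -- nothing in the centraliser of `a` is inverted by `b`
  have key : ∀ r ∈ R, a * r * a⁻¹ = r → b * r * b⁻¹ = r⁻¹ → r = 1 := by
    intro r hr hra hrb
    set r1 := y * r * y⁻¹ with hr1
    set r2 := y * r1 * y⁻¹ with hr2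
    have hr1R : r1 ∈ R := hn y hr
    have hr2R : r2 ∈ R := hn y hr1R
    have hab' : (a * b) * r * (a * b)⁻¹ = r⁻¹ := by
      calc (a * b) * r * (a * b)⁻¹ = a * (b * r * b⁻¹) * a⁻¹ := by group
        _ = (a * r * a⁻¹)⁻¹ := by rw [hrb]; group
        _ = r⁻¹ := by rw [hra]
    have hb1 : b * r1 * b⁻¹ = r1 := by
      calc b * r1 * b⁻¹ = (y * a * y⁻¹) * (y * r * y⁻¹) * (y * a * y⁻¹)⁻¹ := by rw [h1, hr1]
        _ = y * (a * r * a⁻¹) * y⁻¹ := by group
        _ = r1 := by rw [hra]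
    have ha1' : a * r1 * a⁻¹ = r1⁻¹ := by
      calc a * r1 * a⁻¹ = (y * (a * b) * y⁻¹) * (y * r * y⁻¹) * (y * (a * b) * y⁻¹)⁻¹ := by rw [hyab, hr1]
        _ = y * ((a * b) * r * (a * b)⁻¹) * y⁻¹ := by group
        _ = r1⁻¹ := by rw [hab', hr1]; group
    have ha2' : a * r2 * a⁻¹ = r2⁻¹ := by
      calc a * r2 * a⁻¹ = (y * (a * b) * y⁻¹) * (y * r1 * y⁻¹) * (y * (a * b) * y⁻¹)⁻¹ := by rw [hyab, hr2]
        _ = y * (a * (b * r1 * b⁻¹) * a⁻¹) * y⁻¹ := by group
        _ = r2⁻¹ := by rw [hb1, ha1', hr2]; group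
    have hprod : r * r1 * r2 = 1 := by
      have e : (r * y) ^ 3 = r * r1 * r2 := by
        calc (r * y) ^ 3 = r * r1 * r2 * y ^ 3 := by
              rw [hr2, hr1]; simp only [pow_succ, pow_zero, one_mul]; group
          _ = r * r1 * r2 := by rw [hy, mul_one]
      rw [← e]
      refine h.pow_eq_one (Or.inl rfl) (k := 2) ?_
      rw [show (3 : ℕ) ^ 2 = 3 * 3 by norm_num, pow_mul, e]
      exact hexp _ (mul_mem (mul_mem hr hr1R) hr2R)
    have e2 : r2 = (r * r1)⁻¹ := eq_inv_of_mul_eq_one_right hprod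
    have e3 : r * r1 = r1 * r⁻¹ := by
      calc r * r1 = r2⁻¹ := by rw [e2, inv_inv]
        _ = a * r2 * a⁻¹ := ha2'.symm
        _ = ((a * r * a⁻¹) * (a * r1 * a⁻¹))⁻¹ := by rw [e2]; group
        _ = r1 * r⁻¹ := by rw [hra, ha1']; group
    refine eq_one_of_three_inverts (hexp r hr) (hexp r1 hr1R) ?_
    calc r1⁻¹ * r * r1 = r1⁻¹ * (r * r1) := by group
      _ = r⁻¹ := by rw [e3]; group
  -- so the centraliser of `a` is that of the four group
  have hAB : ∀ r ∈ R, a * r * a⁻¹ = r → b * r * b⁻¹ = r := by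
    intro r hr hra
    have e := key (r⁻¹ * (b * r * b⁻¹)) (mul_mem (inv_mem hr) (hn b hr)) ?_ ?_
    · exact (inv_mul_eq_one.mp e).symm
    · calc a * (r⁻¹ * (b * r * b⁻¹)) * a⁻¹
          = (a * r * a⁻¹)⁻¹ * ((a * b) * r * (a * b)⁻¹) := by group
        _ = r⁻¹ * ((b * a) * r * (b * a)⁻¹) := by rw [hra, hab.eq]
        _ = r⁻¹ * (b * (a * r * a⁻¹) * b⁻¹) := by group
        _ = r⁻¹ * (b * r * b⁻¹) := by rw [hra]
    · calc b * (r⁻¹ * (b * r * b⁻¹)) * b⁻¹
          = (b * r * b⁻¹)⁻¹ * ((b * b) * r * (b * b)⁻¹) := by group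
        _ = (b * r * b⁻¹)⁻¹ * r := by rw [hb]; simp
        _ = (r⁻¹ * (b * r * b⁻¹))⁻¹ := by group
  have hBA : ∀ r ∈ R, b * r * b⁻¹ = r → a * r * a⁻¹ = r := by
    intro r hr hrb
    set r0 := y⁻¹ * r * y with hr0
    have hr0R : r0 ∈ R := by simpa using hn y⁻¹ hr
    have hy0 : r = y * r0 * y⁻¹ := by rw [hr0]; group
    have e0 : a * r0 * a⁻¹ = r0 := by
      calc a * r0 * a⁻¹ = y⁻¹ * ((y * a * y⁻¹) * r * (y * a * y⁻¹)⁻¹) * y := by rw [hr0]; group
        _ = r0 := by rw [h1, hrb]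
    have e1 := hAB r0 hr0R e0
    calc a * r * a⁻¹ = (y * (a * b) * y⁻¹) * (y * r0 * y⁻¹) * (y * (a * b) * y⁻¹)⁻¹ := by rw [hyab, ← hy0]
      _ = y * (a * (b * r0 * b⁻¹) * a⁻¹) * y⁻¹ := by group
      _ = r := by rw [e1, e0, ← hy0]
  have hCA : ∀ r ∈ R, (a * b) * r * (a * b)⁻¹ = r → a * r * a⁻¹ = r := by
    intro r hr hrc
    set r1 := y * r * y⁻¹ with hr1
    have hr1R : r1 ∈ R := hn y hr
    have e0 : a * r1 * a⁻¹ = r1 := by
      calc a * r1 * a⁻¹ = (y * (a * b) * y⁻¹) * (y * r * y⁻¹) * (y * (a * b) * y⁻¹)⁻¹ := by rw [hyab, hr1]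
        _ = y * ((a * b) * r * (a * b)⁻¹) * y⁻¹ := by group
        _ = r1 := by rw [hrc, hr1]
    have e1 := hAB r1 hr1R e0
    calc a * r * a⁻¹ = y⁻¹ * ((y * a * y⁻¹) * r1 * (y * a * y⁻¹)⁻¹) * y := by rw [hr1]; group
      _ = r := by rw [h1, e1, hr1]; group
  let A : Subgroup K :=
    { carrier := {g | g = 1 ∨ g = a ∨ g = b ∨ g = a * b}
      one_mem' := Or.inl rfl
      mul_mem' := by
        have eb : b * a = a * b := hab.eq.symm
        have c1 : a * (a * b) = b := by rw [← mul_assoc, ha, one_mul]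
        have c2 : b * (a * b) = a := by rw [← mul_assoc, eb, mul_assoc, hb, mul_one]
        have c3 : a * b * a = b := by rw [mul_assoc, eb, c1]
        have c4 : a * b * b = a := by rw [mul_assoc, hb, mul_one]
        have c5 : a * b * (a * b) = 1 := by rw [mul_assoc, c2, ha]
        rintro g g' (rfl | rfl | rfl | rfl) (rfl | rfl | rfl | rfl) <;>
          simp [ha, hb, eb, c1, c2, c3, c4, c5]
      inv_mem' := by
        rintro g (rfl | rfl | rfl | rfl) <;> simp [ai, bi, hab.eq.symm] }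
  have hA : ∀ {g : K}, g ∈ A ↔ g = 1 ∨ g = a ∨ g = b ∨ g = a * b := Iff.rfl
  haveI : IsMulCommutative A := ⟨⟨fun g g' => Subtype.ext (by
    have c : ∀ g ∈ A, Commute g a ∧ Commute g b := by
      rintro g (rfl | rfl | rfl | rfl)
      · exact ⟨Commute.one_left _, Commute.one_left _⟩
      · exact ⟨Commute.refl _, hab⟩
      · exact ⟨hab.symm, Commute.refl _⟩
      · exact ⟨(Commute.refl a).mul_left hab.symm, hab.mul_left (Commute.refl b)⟩
    obtain ⟨ca, cb⟩ := c g g.2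
    show (g : K) * g' = g' * g
    rcases hA.mp g'.2 with e | e | e | e <;> rw [e]
    · simp
    · exact ca.eq
    · exact cb.eq
    · exact (ca.mul_right cb).eq)⟩⟩
  have hb1 : b ≠ 1 := fun e => ha1 (conj_eq_one_iff.mp (h1.trans e))
  have hne : a ≠ b := fun e => by
    subst e
    rw [ha] at h2
    exact ha1 (conj_eq_one_iff.mp h2)
  have hsq : ∀ g ∈ A, g * g = 1 := by
    rintro g (rfl | rfl | rfl | rfl)
    · simp
    · exact ha
    · exact hb
    · rw [← mul_assoc, mul_assoc a b a, hab.eq.symm, ← mul_assoc, ha, one_mul, hb]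
  have hcyc : ¬ IsCyclic A := by
    intro hc
    obtain ⟨g, hg⟩ := hc.exists_ofOrder_eq_natCard (α := A)
    have h2' : Nat.card A ≤ 2 := by
      rw [← hg, ← Subgroup.orderOf_coe]
      exact Nat.le_of_dvd (by norm_num) (orderOf_dvd_of_pow_eq_one (by rw [pow_two]; exact hsq g g.2))
    have hz : Subgroup.zpowers a = A := Subgroup.eq_of_le_of_card_ge
      (Subgroup.zpowers_le.mpr (hA.mpr (Or.inr (Or.inl rfl))))
      (by rw [Nat.card_zpowers, orderOf_eq_prime (p := 2) (by rw [pow_two]; exact ha) ha1]; exact h2')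
    obtain ⟨i, hi⟩ := Subgroup.mem_zpowers_iff.mp (hz.ge (hA.mpr (Or.inr (Or.inr (Or.inl rfl)))))
    rw [← zpow_mod_orderOf, orderOf_eq_prime (p := 2) (by rw [pow_two]; exact ha) ha1] at hi
    rcases Int.emod_two_eq i with e | e
    · rw [show ((2 : ℕ) : ℤ) = 2 from rfl, e, zpow_zero] at hi; exact hb1 hi.symm
    · rw [show ((2 : ℕ) : ℤ) = 2 from rfl, e, zpow_one] at hi; exact hne hi
  have hcop : (Nat.card A).Coprime (Nat.card R) := by
    have hA2 : IsPGroup 2 A := fun g => ⟨1, Subtype.ext (by rw [pow_one, pow_two]; exact hsq g g.2)⟩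
    haveI : Fact (Nat.Prime 2) := ⟨Nat.prime_two⟩
    obtain ⟨i, hi⟩ := IsPGroup.iff_card.mp hA2
    obtain ⟨j, hj⟩ := IsPGroup.iff_card.mp hR
    rw [hi, hj]; exact Nat.Coprime.pow _ _ (by norm_num)
  have hgen := coprime_generated_by_centralizers (A := A) (K := R) hcyc
    (by rw [Subgroup.normalizer_eq_top]; exact le_top) hcop
  have haC : a ∈ Subgroup.centralizer (R : Set K) := by
    rw [Subgroup.mem_centralizer_iff]
    suffices R ≤ Subgroup.centralizer {a} from fun r hr => Subgroup.mem_centralizer_singleton_iff.mp (this hr)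
    rw [← hgen]
    refine iSup₂_le fun g hg => ?_
    rintro r ⟨hr, hrg⟩
    rw [Subgroup.mem_centralizer_singleton_iff]
    have hc : g * r * g⁻¹ = r := by
      rw [← Subgroup.mem_centralizer_singleton_iff.mp hrg, mul_inv_cancel_right]
    have e : a * r * a⁻¹ = r := by
      rcases hA.mp hg.1 with e | e | e | e
      · exact absurd e hg.2
      · rwa [e] at hc
      · exact hBA r hr (e ▸ hc)
      · exact hCA r hr (e ▸ hc)
    exact (mul_inv_eq_iff_eq_mul.mp e).symm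
  refine ha1 ?_
  calc a = a * (a * a) := by rw [ha, mul_one]
    _ = a ^ 3 := by simp [pow_succ, mul_assoc]
    _ = 1 := hexp a (hC haC)

end CfsgLib.SpecSix
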