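import Cfsg.Agent.Lib.SpecSix.Top

/-!
Element orders at most six: the action of the top on the Frattini quotient of the 2-core.
-/

set_option autoImplicit false
set_option linter.unusedSectionVars false
set_option linter.style.haveILetI false

namespace CfsgLib.SpecSix

open scoped IsMulCommutative

universe u

variable {G : Type u} [Group G] [Finite G]

instance frat_normal_instance (Q : Subgroup G) [Q.Normal] : (frat Q).Normal := frat_normal Q

/-- A normal subgroup modulo its Frattini subgroup, in the quotient of the whole group. -/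
def fratV (Q : Subgroup G) [Q.Normal] : Subgroup (G ⧸ frat Q) := Q.map (QuotientGroup.mk' (frat Q))

instance fratV_normal (Q : Subgroup G) [Q.Normal] : (fratV Q).Normal :=
  (inferInstance : Q.Normal).map _ (QuotientGroup.mk'_surjective _)

theorem fratV_sq {Q : Subgroup G} [Q.Normal] (hQ : IsPGroup 2 Q) : ∀ v ∈ fratV Q, v * v = 1 := by
  haveI : Fact (Nat.Prime 2) := ⟨Nat.prime_two⟩
  rintro _ ⟨q, hq, rfl⟩
  rw [← map_mul]
  refine (QuotientGroup.eq_one_iff _).mpr ⟨⟨q, hq⟩ ^ 2, pow_mem_frattini_pGroup hQ _, ?_⟩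
  simp [pow_two]

theorem fratV_comm {Q : Subgroup G} [Q.Normal] (hQ : IsPGroup 2 Q) :
    ∀ n ∈ fratV Q, ∀ v ∈ fratV Q, n * v = v * n := by
  intro n hn v hv
  haveI := isMulCommutative_of_sq (fratV_sq hQ)
  exact congrArg Subtype.val (IsMulCommutative.is_comm.comm (⟨n, hn⟩ : fratV Q) ⟨v, hv⟩)

theorem fratV_two {Q : Subgroup G} [Q.Normal] (hQ : IsPGroup 2 Q) (a : Additive (fratV Q)) : a + a = 0 :=
  Additive.toMul.injective (Subtype.ext (fratV_sq hQ _ a.toMul.2))

/-- The action of the top on the Frattini quotient. -/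
noncomputable def fratAct (Q : Subgroup G) [Q.Normal] (k : G ⧸ Q) : Additive (fratV Q) →+ Additive (fratV Q) :=
  actAdd (fratV Q) (QuotientGroup.mk' (frat Q) k.out)

theorem fratAct_mk {Q : Subgroup G} [Q.Normal] (hQ : IsPGroup 2 Q) (x : G) (a : Additive (fratV Q)) :
    fratAct Q (x : G ⧸ Q) a = actAdd (fratV Q) (QuotientGroup.mk' (frat Q) x) a :=
  actAdd_congr (fratV Q) (fratV_comm hQ) (by
    rw [← map_inv, ← map_mul]
    exact Subgroup.mem_map_of_mem _ (QuotientGroup.eq.mp (QuotientGroup.out_eq' _).symm)) a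

theorem fratAct_mul {Q : Subgroup G} [Q.Normal] (hQ : IsPGroup 2 Q) (k l : G ⧸ Q) (a : Additive (fratV Q)) :
    fratAct Q (k * l) a = fratAct Q k (fratAct Q l a) := by
  obtain ⟨x, rfl⟩ := QuotientGroup.mk_surjective k
  obtain ⟨y, rfl⟩ := QuotientGroup.mk_surjective l
  rw [← QuotientGroup.mk_mul, fratAct_mk hQ, fratAct_mk hQ, fratAct_mk hQ, map_mul, actAdd_mul]

theorem fratAct_one {Q : Subgroup G} [Q.Normal] (hQ : IsPGroup 2 Q) (a : Additive (fratV Q)) :
    fratAct Q 1 a = a := by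
  rw [← QuotientGroup.mk_one, fratAct_mk hQ, map_one, actAdd_one]

/-- An element of odd order of the top acting trivially on the Frattini quotient is trivial. -/
theorem fratAct_faithful {Q : Subgroup G} [Q.Normal] (hQ : IsPGroup 2 Q)
    (hC : Subgroup.centralizer (Q : Set G) ≤ Q) {k : G ⧸ Q} (hodd : Odd (orderOf k))
    (htriv : ∀ a, fratAct Q k a = a) : k = 1 := by
  haveI : Fact (Nat.Prime 2) := ⟨Nat.prime_two⟩
  obtain ⟨x, rfl⟩ := QuotientGroup.mk_surjective k
  set n := orderOf (x : G ⧸ Q) with hn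
  have hxn : x ^ n ∈ Q := by
    rw [← QuotientGroup.eq_one_iff, QuotientGroup.mk_pow]; exact pow_orderOf_eq_one _
  obtain ⟨j, hj⟩ := hQ ⟨x ^ n, hxn⟩
  have hj' : x ^ (n * 2 ^ j) = 1 := by rw [pow_mul]; exact congrArg Subtype.val hj
  have hcop : Nat.Coprime (2 ^ j) n := Nat.Coprime.pow_left j (Nat.coprime_two_left.mpr hodd)
  obtain ⟨m, hm⟩ : ∃ m : ℕ, (x : G ⧸ Q) ^ (2 ^ j * m) = (x : G ⧸ Q) := by
    obtain ⟨m, hm⟩ := exists_pow_eq_self_of_coprime (x := (x : G ⧸ Q)) hcop
    exact ⟨m, by rw [pow_mul]; exact hm⟩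
  set u0 := x ^ (2 ^ j * m) with hu0
  have hu0Q : (u0 : G ⧸ Q) = x := by rw [hu0, QuotientGroup.mk_pow]; exact hm
  have hord : u0 ^ n = 1 := by
    rw [hu0, ← pow_mul, show 2 ^ j * m * n = n * 2 ^ j * m by ring, pow_mul, hj', one_pow]
  have hcent : Subgroup.zpowers u0 ≤ Subgroup.centralizer (Q : Set G) := by
    apply centralize_of_trivial_mod_frattini
    · rw [Subgroup.normalizer_eq_top]; exact le_top
    · obtain ⟨i, hi⟩ := IsPGroup.iff_card.mp (hQ.to_subgroup (frattini Q))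
      rw [hi, Nat.card_zpowers]
      exact ((Nat.coprime_two_right.mpr hodd).coprime_dvd_left (orderOf_dvd_of_pow_eq_one hord)).pow_right i
    · intro a ha q hq
      refine (QuotientGroup.eq_one_iff (N := frat Q) _).mp ?_
      obtain ⟨i, rfl⟩ := Subgroup.mem_zpowers_iff.mp ha
      set π := QuotientGroup.mk' (frat Q)
      show π (u0 ^ i * q * (u0 ^ i)⁻¹ * q⁻¹) = 1
      have hv : π q ∈ fratV Q := Subgroup.mem_map_of_mem π hq
      have hcom : Commute (π u0) (π q) := by
        have e := congrArg (fun b : Additive (fratV Q) => ((b.toMul : fratV Q) : G ⧸ frat Q))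
          (htriv (Additive.ofMul ⟨π q, hv⟩))
        simp only [← hu0Q, fratAct_mk hQ, actAdd_apply] at e
        exact mul_inv_eq_iff_eq_mul.mp e
      rw [map_mul, map_mul, map_mul, map_inv, map_inv, map_zpow, (hcom.zpow_left i).eq]
      group
  rw [← hu0Q]
  exact (QuotientGroup.eq_one_iff u0).mpr (hC (hcent (Subgroup.mem_zpowers u0)))

/-- A kernel of odd order acted on fixed point freely by a complement with vanishing norm acts trivially. -/
theorem frob_fix {V : Type*} [AddCommGroup V] {A : Type*} [CommGroup A] [Fintype A] (ρ : A → V →+ V)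
    (hone : ∀ v : V, ρ 1 v = v) (hmul : ∀ a b : A, ∀ v : V, ρ (a * b) v = ρ a (ρ b v)) (μ : V →+ V)
    (σ : A →* A) (hσ : ∀ a : A, ∀ v : V, μ (ρ a v) = ρ (σ a) (μ v)) {p : ℕ} (hp : p.Prime)
    (hσp : ∀ a : A, σ^[p] a = a) (hfix : ∀ a : A, σ a = a → a = 1)
    (hT : ∀ v : V, ∑ i ∈ Finset.range p, μ^[i] v = 0) (h2 : ∀ v : V, v + v = 0) (hodd : Odd (Fintype.card A))
    (c : A) (v : V) : ρ c v = v := by
  have hit : ∀ (i : ℕ) (a : A) (w : V), μ^[i] (ρ a w) = ρ (σ^[i] a) (μ^[i] w) := by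
    intro i
    induction i with
    | zero => intro a w; rfl
    | succ i ih =>
      intro a w
      rw [Function.iterate_succ_apply', ih, hσ, ← Function.iterate_succ_apply' σ,
        ← Function.iterate_succ_apply' μ]
  have hfixi : ∀ i, 0 < i → i < p → ∀ a : A, σ^[i] a = a → a = 1 := by
    intro i hi hip a ha
    refine hfix a ?_
    have hcop : Nat.Coprime i p :=
      (hp.coprime_iff_not_dvd.mpr (fun hd => absurd (Nat.le_of_dvd hi hd) (by omega))).symm
    have hper : Function.IsPeriodicPt σ (Nat.gcd i p) a :=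
      Function.IsPeriodicPt.gcd (show Function.IsPeriodicPt σ i a from ha) (hσp a)
    rw [hcop.gcd_eq_one] at hper
    exact hper
  set S : V → V := fun w => ∑ b : A, ρ b w with hS
  have hSfix : ∀ w, ρ c (S w) = S w := by
    intro w
    simp only [hS, map_sum, ← hmul]
    exact Fintype.sum_equiv (Equiv.mulLeft c) _ _ (fun b => rfl)
  have key : ∀ i ∈ Finset.range p, i ≠ 0 →
      (∑ a : A, ρ a (μ^[i] (ρ a⁻¹ v))) = S (μ^[i] v) := by
    intro i hi hi0
    simp only [hit, ← hmul, hS]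
    refine Fintype.sum_bijective (fun a => a * σ^[i] a⁻¹) ?_ _ _ (fun a => rfl)
    rw [← Finite.injective_iff_bijective]
    intro a b hab
    have hm : ∀ x y : A, σ^[i] (x * y) = σ^[i] x * σ^[i] y := iterate_map_mul σ i
    have : σ^[i] (a⁻¹ * b) = a⁻¹ * b := by
      rw [hm]
      have hbinv : σ^[i] b = (σ^[i] b⁻¹)⁻¹ := by
        rw [eq_inv_iff_mul_eq_one, ← hm, mul_inv_cancel, iterate_map_one σ i]
      rw [hbinv]
      simp only at hab
      calc σ^[i] a⁻¹ * (σ^[i] b⁻¹)⁻¹ = a⁻¹ * (a * σ^[i] a⁻¹) * (σ^[i] b⁻¹)⁻¹ := by group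
        _ = a⁻¹ * (b * σ^[i] b⁻¹) * (σ^[i] b⁻¹)⁻¹ := by rw [hab]
        _ = a⁻¹ * b := by group
    exact inv_mul_eq_one.mp (hfixi i (Nat.pos_of_ne_zero hi0) (Finset.mem_range.mp hi) _ this)
  have hsum : (∑ a : A, ρ a (∑ i ∈ Finset.range p, μ^[i] (ρ a⁻¹ v))) = 0 := by
    simp [hT]
  simp only [map_sum] at hsum
  rw [Finset.sum_comm, ← Finset.add_sum_erase _ _ (Finset.mem_range.mpr hp.pos)] at hsum
  have h0 : (∑ a : A, ρ a (μ^[0] (ρ a⁻¹ v))) = v := by
    simp only [Function.iterate_zero, id_eq, ← hmul, mul_inv_cancel, hone, Finset.sum_const, Finset.card_univ]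
    obtain ⟨m, hm⟩ := hodd
    rw [hm, add_nsmul, one_nsmul, two_mul, add_nsmul, ← nsmul_add, h2, nsmul_zero, zero_add]
  rw [h0] at hsum
  have hv : v = -∑ i ∈ (Finset.range p).erase 0, S (μ^[i] v) := by
    rw [eq_neg_iff_add_eq_zero, ← hsum]
    congr 1
    refine Finset.sum_congr rfl fun i hi => (key i ?_ ?_).symm
    · exact Finset.mem_of_mem_erase hi
    · exact Finset.ne_of_mem_erase hi
  rw [hv, map_neg, map_sum, Finset.sum_congr rfl fun i _ => hSfix _]

end CfsgLib.SpecSix
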