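import Cfsg.Agent.Lib.SpecSix.AmalgamBase
import Cfsg.Agent.Lib.SpecSix.Lists
import Cfsg.Agent.S2858
import Cfsg.Agent.S3309
import Cfsg.Agent.Lib.JComp.Comp

/-!
Element orders at most six, the simple case: two parabolics with top `S₃` and trivial common core cannot both move
the central involutions of their Sylow 2-subgroup.
-/

set_option autoImplicit false
set_option linter.unusedSectionVars false
set_option linter.style.haveILetI false

namespace CfsgLib.SpecSix

open Cfsg

universe u

/-- The four-cycle used for the dihedral subgroup of `S₄`. -/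
def cycleFour : Equiv.Perm (Fin 4) := ⟨![1, 2, 3, 0], ![3, 0, 1, 2], by decide, by decide⟩

/-- A reflection of the square. -/
def flipFour : Equiv.Perm (Fin 4) := ⟨![0, 3, 2, 1], ![0, 3, 2, 1], by decide, by decide⟩

/-- The dihedral group of order eight in `S₄`. -/
def dihFour : DihedralGroup 4 →* Equiv.Perm (Fin 4) :=
  MonoidHom.mk' (fun d => match d with
    | .r i => cycleFour ^ i.val
    | .sr i => flipFour * cycleFour ^ i.val) (by decide +kernel)

theorem dihFour_inj : ∀ d, dihFour d = 1 → d = 1 := by decide +kernel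

/-- A group `2 × S₄` has Sylow 2-subgroups `2 × D₈`. -/
theorem two_times_dihedral {K : Type u} [Group K] [Finite K]
    (e : K ≃* Multiplicative (ZMod 2) × Equiv.Perm (Fin 4)) (R : Subgroup K) (hR : Nat.card R = 16) :
    Nonempty (R ≃* Multiplicative (ZMod 2) × DihedralGroup 4) := by
  haveI : Fact (Nat.Prime 2) := ⟨Nat.prime_two⟩
  let f : Multiplicative (ZMod 2) × DihedralGroup 4 →* Multiplicative (ZMod 2) × Equiv.Perm (Fin 4) :=
    (MonoidHom.id _).prodMap dihFour
  have hf : Function.Injective f := by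
    rw [injective_iff_map_eq_one]
    rintro ⟨a, d⟩ h
    have h' : (a, dihFour d) = (1, 1) := h
    obtain ⟨ha, hd⟩ := Prod.mk.inj h'
    exact Prod.ext ha (dihFour_inj d hd)
  let g : Multiplicative (ZMod 2) × DihedralGroup 4 →* K := e.symm.toMonoidHom.comp f
  have hg : Function.Injective g := e.symm.injective.comp hf
  have hK : Nat.card K = 48 := by
    rw [Nat.card_congr e.toEquiv, Nat.card_prod, Nat.card_perm, Nat.card_fin]
    norm_num [Nat.factorial]
  have hD : Nat.card g.range = 16 := by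
    rw [← Nat.card_congr (MonoidHom.ofInjective hg).toEquiv, Nat.card_prod, DihedralGroup.nat_card]
    simp
  have syl : ∀ U : Subgroup K, Nat.card U = 16 → ∃ Y : Sylow 2 K, (Y : Subgroup K) = U := by
    intro U hU
    have hidx : ¬ 2 ∣ U.index := by
      have := Subgroup.card_mul_index U
      rw [hU, hK] at this
      omega
    exact ⟨(IsPGroup.of_card (n := 4) (by rw [hU]; norm_num) : IsPGroup 2 U).toSylow hidx, rfl⟩
  obtain ⟨Y1, hY1⟩ := syl R hR
  obtain ⟨Y2, hY2⟩ := syl g.range hD
  exact ⟨((MulEquiv.subgroupCongr hY1.symm).trans ((Y1.equiv Y2).trans (MulEquiv.subgroupCongr hY2))).trans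
    (MonoidHom.ofInjective hg).symm⟩

variable {G : Type u} [Group G] [Finite G]

/-- A subgroup of a subgroup has the top of its image. -/
theorem top_subgroupOf {L P : Subgroup G} (hP : P ≤ L)
    (e : P ⧸ pCore 2 P ≃* Equiv.Perm (Fin 3)) :
    Nonempty (↥(P.subgroupOf L) ⧸ pCore 2 ↥(P.subgroupOf L) ≃* Equiv.Perm (Fin 3)) :=
  ⟨(QuotientGroup.congr _ _ (Subgroup.subgroupOfEquivOfLe hP)
    (CfsgLib.pCore_map_equiv 2 (Subgroup.subgroupOfEquivOfLe hP))).trans e⟩

/-- Two parabolics with top `S₃` and trivial common core do not both move the central involutions. -/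
theorem Hyp.no_movers_pair (H : Hyp G) (S : Sylow 2 G) {P1 P : Subgroup G}
    (hF1 : Frame (S : Subgroup G) P1) (hF : Frame (S : Subgroup G) P)
    (hi1 : (pCoreOf 2 P1).relIndex P1 = 6) (hi : (pCoreOf 2 P).relIndex P = 6)
    (hinf : P1 ⊓ P = S)
    (hcore : ∀ N : Subgroup G, N ≤ S → P1 ≤ Subgroup.normalizer (N : Set G) →
      P ≤ Subgroup.normalizer (N : Set G) → N = ⊥)
    (hm1 : ¬ P1 ≤ Subgroup.centralizer (omegaCenterOf (S : Subgroup G) : Set G))
    (hm : ¬ P ≤ Subgroup.centralizer (omegaCenterOf (S : Subgroup G) : Set G)) : False := by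
  haveI : Fact (Nat.Prime 2) := ⟨Nat.prime_two⟩
  haveI := H.simple
  obtain ⟨x1, h1⟩ := Half.of_frame H.six hF1 hi1
  obtain ⟨x, h2⟩ := Half.of_frame H.six hF hi
  set L := P1 ⊔ P with hL
  set T := (S : Subgroup G).subgroupOf L with hT
  have hP1L : P1 ≤ L := le_sup_left
  have hPL : P ≤ L := le_sup_right
  have hSL : (S : Subgroup G) ≤ L := h1.le.trans hP1L
  have key : ∀ {R : Subgroup G} {y : G}, Half (S : Subgroup G) R y → R ≤ L →
      ¬ R ≤ Subgroup.centralizer (omegaCenterOf (S : Subgroup G) : Set G) →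
      (R.subgroupOf L ⊓ Subgroup.centralizer (pCoreOf 2 (R.subgroupOf L) : Set L) ≤ pCoreOf 2 (R.subgroupOf L)) ∧
      (∃ Y : Sylow 2 ↥(R.subgroupOf L), (Y : Subgroup ↥(R.subgroupOf L)) = T.subgroupOf (R.subgroupOf L)) ∧
      Nonempty (↥(R.subgroupOf L) ⧸ pCore 2 ↥(R.subgroupOf L) ≃* Equiv.Perm (Fin 3)) ∧
      ¬ R.subgroupOf L ≤ Subgroup.centralizer (omegaOne 2 (T ⊓ Subgroup.centralizer (T : Set L)) : Set L) := by
    intro R y hR hRL hmove
    have hmap : (R.subgroupOf L).map L.subtype = R := Subgroup.map_subgroupOf_eq_of_le hRL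
    have hcoreR : pCoreOf 2 R = (pCoreOf 2 (R.subgroupOf L)).map L.subtype := by
      conv_lhs => rw [← hmap]
      exact JComp.pCoreOf_map L.subtype L.subtype_injective _
    refine ⟨?_, ?_, ?_, ?_⟩
    · rintro c ⟨-, hc⟩
      have hc' : (c : G) ∈ pCoreOf 2 R := hR.frame.cent (by
        rw [hcoreR]
        rintro _ ⟨q, hq, rfl⟩
        exact congrArg Subtype.val (hc q hq))
      rw [hcoreR] at hc'
      obtain ⟨d, hd, e⟩ := hc'
      rwa [L.subtype_injective e] at hd
    · have hT2 : IsPGroup 2 (T.subgroupOf (R.subgroupOf L)) :=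
        (S.2.comap_of_injective L.subtype L.subtype_injective).comap_of_injective _
          (R.subgroupOf L).subtype_injective
      refine ⟨hT2.toSylow ?_, rfl⟩
      intro hd
      have e : (T.subgroupOf (R.subgroupOf L)).index = (S : Subgroup G).relIndex R := by
        show T.relIndex (R.subgroupOf L) = _
        rw [hT, ← Subgroup.relIndex_map_map_of_injective _ _ L.subtype_injective,
          Subgroup.map_subgroupOf_eq_of_le hSL, hmap]
      rw [e] at hd
      exact Nat.not_even_iff_odd.mpr hR.frame.odd (even_iff_two_dvd.mpr hd)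
    · obtain ⟨e⟩ := hR.top
      exact top_subgroupOf hRL e
    · intro hle
      refine hmove fun g hg => ?_
      have e : omegaCenterOf (S : Subgroup G) = (omegaCenterOf T).map L.subtype := by
        conv_lhs => rw [← Subgroup.map_subgroupOf_eq_of_le hSL]
        exact JComp.omegaCenterOf_map L.subtype L.subtype_injective _
      rw [e]
      rintro _ ⟨v, hv, rfl⟩
      exact congrArg Subtype.val (hle (show (⟨g, hRL hg⟩ : L) ∈ R.subgroupOf L from hg) v hv)
  obtain ⟨a1, a2, a3, a4⟩ := key h1 hP1L hm1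
  obtain ⟨b1, b2, b3, b4⟩ := key h2 hPL hm
  have two : ∀ {p : Subgroup L → Prop}, p (P1.subgroupOf L) → p (P.subgroupOf L) →
      ∀ R ∈ ({P1.subgroupOf L, P.subgroupOf L} : Set (Subgroup L)), p R := by
    intro p hp1 hp2 R hR
    rcases hR with rfl | rfl
    · exact hp1
    · exact hp2
  have hTT : T = P1.subgroupOf L ⊓ P.subgroupOf L := by
    rw [hT, ← hinf]; rfl
  have hgen : P1.subgroupOf L ⊔ P.subgroupOf L = ⊤ := by
    rw [← Subgroup.subgroupOf_sup hP1L hPL, ← hL, Subgroup.subgroupOf_self]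
  have hnorm : ∀ N : Subgroup L, N.Normal → N ≤ T → N = ⊥ := by
    intro N hN hNT
    have hle : L ≤ Subgroup.normalizer ((N.map L.subtype : Subgroup G) : Set G) := fun g hg => by
      refine mem_normalizer_of_cj_le ?_
      rintro _ ⟨v, hv, rfl⟩
      exact ⟨⟨g, hg⟩ * v * (⟨g, hg⟩ : L)⁻¹, hN.conj_mem v hv _, rfl⟩
    have hNS : N.map L.subtype ≤ (S : Subgroup G) := by
      rintro _ ⟨v, hv, rfl⟩
      exact hNT hv
    exact (Subgroup.map_eq_bot_iff_of_injective _ L.subtype_injective).mp
      (hcore _ hNS (hP1L.trans hle) (hPL.trans hle))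
  have hcases := Cfsg.Agent.S2858.result (P1.subgroupOf L) (P.subgroupOf L) hgen T hTT
    (two a1 b1) (two a2 b2) hnorm (two a3 b3) (two a4 b4)
  have hmul : Nat.card (S : Subgroup G) * 3 = Nat.card P1 := by
    have := h1.frame.relIndex_eq
    rw [h1.idx, hi1] at this
    rw [← CfsgLib.Products.card_mul_relIndex_of_le h1.le]
    congr 1
    omega
  have hcard : Nat.card ↥(P1.subgroupOf L) = Nat.card P1 :=
    Nat.card_congr (Subgroup.subgroupOfEquivOfLe hP1L).toEquiv
  have hna : ¬ IsMulCommutative G := fun hc => H.nonsolvable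
    (Group.isSolvable_of_comm fun a b => hc.is_comm.comm a b)
  rcases hcases with ⟨⟨e⟩, -⟩ | ⟨⟨e⟩, -⟩
  · -- order eight: the 2-rank is at most two
    rw [Nat.card_congr e.toEquiv, Nat.card_perm, Nat.card_fin] at hcard
    have h8 : Nat.card (S : Subgroup G) = 8 := by
      norm_num [Nat.factorial] at hcard; omega
    have hr : PRankLE 2 2 G := by
      intro A hA h2a
      by_contra hgt
      push Not at hgt
      have hA2 : IsPGroup 2 A := fun v => ⟨1, Subtype.ext (by simpa using h2a v v.2)⟩
      obtain ⟨S', hS'⟩ := hA2.exists_le_sylow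
      have hS8 : Nat.card (S' : Subgroup G) = 8 := by
        rw [Nat.card_congr (S'.equiv S).toEquiv, h8]
      obtain ⟨k, hk⟩ := IsPGroup.iff_card.mp hA2
      have hle := Subgroup.card_le_of_le hS'
      rw [hS8, hk] at hle
      rw [hk] at hgt
      have hk3 : k = 3 := by
        have h1' : 2 ^ k ≤ 2 ^ 3 := hle
        have := (Nat.pow_le_pow_iff_right (le_refl 2)).mp h1'
        have := (Nat.pow_lt_pow_iff_right (le_refl 2)).mp hgt
        omega
      have hAS : A = (S' : Subgroup G) := Subgroup.eq_of_le_of_card_ge hS' (by rw [hS8, hk, hk3]; norm_num)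
      obtain ⟨t, ht, htQ⟩ := h1.exists_out
      refine htQ (hF1.cent fun q hq => ?_)
      have eS := S.equiv S'
      have hcomm : ∀ a b : (S : Subgroup G), a * b = b * a := fun a b => by
        refine eS.injective ?_
        rw [map_mul, map_mul]
        refine Subtype.ext ?_
        have mem : ∀ c : (S : Subgroup G), (eS c : G) ∈ A := fun c => by rw [hAS]; exact (eS c).2
        have e := congrArg Subtype.val (hA.is_comm.comm (⟨_, mem a⟩ : A) ⟨_, mem b⟩)
        exact e
      exact congrArg Subtype.val (hcomm ⟨q, h1.qle hq⟩ ⟨t, ht⟩)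
    obtain ⟨g, hg⟩ := H.order_six
    exact H.six.rank_two_no_six hna hr g hg
  · -- order sixteen: the Sylow 2-subgroup is 2 × D₈
    rw [Nat.card_congr e.toEquiv, Nat.card_prod, Nat.card_perm, Nat.card_fin] at hcard
    have h16 : Nat.card (S : Subgroup G) = 16 := by
      norm_num [Nat.factorial] at hcard; omega
    obtain ⟨e'⟩ := two_times_dihedral ((Subgroup.subgroupOfEquivOfLe hP1L).symm.trans e)
      ((S : Subgroup G).subgroupOf P1)
      (by rw [Nat.card_congr (Subgroup.subgroupOfEquivOfLe h1.le).toEquiv, h16])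
    exact Cfsg.Agent.S3309.result S ⟨(Subgroup.subgroupOfEquivOfLe h1.le).symm.trans e'⟩ hna

end CfsgLib.SpecSix
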