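import Cfsg.Agent.Lib.SpecSix.PairTop
import Cfsg.Agent.Lib.SpecSix.Amalgam
import Cfsg.Agent.Lib.SpecSix.MoversPair

/-!
Element orders at most six: there is no simple group of characteristic 2 type with an element of order six.
-/

set_option autoImplicit false
set_option linter.unusedSectionVars false
set_option linter.style.haveILetI false

namespace CfsgLib.SpecSix

open Cfsg

universe u

variable {G : Type u} [Group G] [Finite G]

/-- Two parabolics with different cores have a common nontrivial normal 2-subgroup. -/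
theorem Hyp.common_core (H : Hyp G) (S : Sylow 2 G) {P P' : Subgroup G} (hP : Parab (S : Subgroup G) P)
    (hP' : Parab (S : Subgroup G) P') (hne : pCoreOf 2 P' ≠ pCoreOf 2 P) :
    ∃ N : Subgroup G, N ≠ ⊥ ∧ N ≤ (S : Subgroup G) ∧ P ≤ Subgroup.normalizer (N : Set G) ∧
      P' ≤ Subgroup.normalizer (N : Set G) := by
  have hi := H.index_six S hP
  have hi' := H.index_six S hP'
  by_contra hno
  have hcore : ∀ N : Subgroup G, N ≤ (S : Subgroup G) → P ≤ Subgroup.normalizer (N : Set G) →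
      P' ≤ Subgroup.normalizer (N : Set G) → N = ⊥ := fun N h1 h2 h3 =>
    by_contra fun hN => hno ⟨N, hN, h1, h2, h3⟩
  obtain ⟨x, hx⟩ := Half.of_frame H.six hP.toFrame hi
  obtain ⟨x', hx'⟩ := Half.of_frame H.six hP'.toFrame hi'
  have hinf : P ⊓ P' = (S : Subgroup G) := by
    have hle : (S : Subgroup G) ≤ P ⊓ P' := le_inf hP.le hP'.le
    have h1 := Subgroup.relIndex_mul_relIndex (S : Subgroup G) (P ⊓ P') P hle inf_le_left
    have h2 := hP.toFrame.relIndex_eq
    rw [hi, hx.idx] at h2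
    have h3 : (S : Subgroup G).relIndex P = 3 := by omega
    rw [h3] at h1
    rcases (Nat.dvd_prime Nat.prime_three).mp (Dvd.intro _ h1) with e | e
    · exact le_antisymm (Subgroup.relIndex_eq_one.mp e) hle
    · exfalso
      rw [e] at h1
      have hPP' : P ≤ P' := (Subgroup.relIndex_eq_one.mp (by omega : (P ⊓ P').relIndex P = 1)).trans inf_le_right
      have hcard : Nat.card P' ≤ Nat.card P := by
        rw [← core_card_mul P, ← core_card_mul P', hi, hi']
        have h4 := hx.card_two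
        have h5 := hx'.card_two
        omega
      exact hne (by rw [Subgroup.eq_of_le_of_card_ge hPP' hcard])
  set Z := omegaCenterOf (S : Subgroup G) with hZ
  have hZn : ∀ P0 : Subgroup G, P0 ≤ Subgroup.centralizer (Z : Set G) →
      P0 ≤ Subgroup.normalizer (Z : Set G) := fun P0 h0 g hg =>
    CfsgLib.JComp.mem_normalizer_of_conj_mem fun v hv => by
      rw [← Subgroup.mem_centralizer_iff.mp (h0 hg) v hv, mul_inv_cancel_right]
      exact hv
  by_cases hf : P ≤ Subgroup.centralizer (Z : Set G) <;> by_cases hf' : P' ≤ Subgroup.centralizer (Z : Set G)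
  · refine hno ⟨Z, ?_, ?_, hZn P hf, hZn P' hf'⟩
    · rw [hZ, omegaCenterOf_eq]; exact centralInvol_ne_bot S.isPGroup' (H.sylow_ne_bot S)
    · rw [hZ, omegaCenterOf_eq]; exact fun v hv => hv.1
  · exact H.six.no_center_amalgam hP'.toFrame hP.toFrame hi' hi (by rw [inf_comm]; exact hinf)
      (fun N h1 h2 h3 => hcore N h1 h3 h2) hf' hf
  · exact H.six.no_center_amalgam hP.toFrame hP'.toFrame hi hi' hinf hcore hf hf'
  · exact H.no_movers_pair S hP.toFrame hP'.toFrame hi hi' hinf hcore hf hf'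

/-- The element of order three of a parabolic with another core permutes the elements of order three. -/
theorem Hyp.swap_core (H : Hyp G) (S : Sylow 2 G) {P P' : Subgroup G} {x' : G} (hP : Parab (S : Subgroup G) P)
    (hP' : Parab (S : Subgroup G) P') (hx' : Half (S : Subgroup G) P' x')
    (hne : pCoreOf 2 P' ≠ pCoreOf 2 P) : ∀ g ∈ P, g ^ 3 = 1 → x' * g * x'⁻¹ ∈ P := by
  obtain ⟨x, hx⟩ := Half.of_frame H.six hP.toFrame (H.index_six S hP)
  obtain ⟨N, hN1, hNS, hPN, hP'N⟩ := H.common_core S hP hP' hne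
  have hF : Frame (S : Subgroup G) (Subgroup.normalizer (N : Set G)) :=
    H.frame_over S (S.isPGroup'.to_le hNS) hN1 (hP.le.trans hPN) le_rfl
  by_cases hs : Group.IsSolvable (Subgroup.normalizer (N : Set G))
  · exact hx.swap_three H.six hx' hF hPN hP'N hne
  · obtain ⟨ψ, hψ⟩ := H.exists_five hF hs
    haveI := hx.solvable H.six
    exact absurd (hψ.solvable_sub hP.le hPN) hP.not_normal

/-- **There is no such simple group.** -/
theorem no_hyp (G : Type u) [Group G] [Finite G] (H : Hyp G) : False := by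
  haveI := H.nontrivial
  haveI := H.simple
  obtain ⟨S⟩ : Nonempty (Sylow 2 G) := inferInstance
  by_cases hnone : ∀ P : Subgroup G, ¬ Parab (S : Subgroup G) P
  · exact H.no_cover S (H.normalizer_ne_top S.isPGroup' (H.sylow_ne_bot S)) le_rfl
      fun P hP => absurd hP (hnone P)
  push Not at hnone
  obtain ⟨P0, hP0⟩ := hnone
  obtain ⟨x0, hx0⟩ := Half.of_frame H.six hP0.toFrame (H.index_six S hP0)
  set B : Subgroup G → Subgroup G := fun Q =>
    Subgroup.closure {g | ∃ P, Parab (S : Subgroup G) P ∧ pCoreOf 2 P = Q ∧ g ∈ P ∧ g ^ 3 = 1} with hB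
  set F := Subgroup.closure {g | ∃ P, Parab (S : Subgroup G) P ∧ g ∈ P ∧ g ^ 3 = 1} with hF
  have hcube : ∀ (a g : G), g ^ 3 = 1 → (a * g * a⁻¹) ^ 3 = 1 := fun a g hg => by rw [conj_pow, hg]; simp
  -- each part is normalised by every parabolic
  have hBn : ∀ (Q : Subgroup G) (P' : Subgroup G), Parab (S : Subgroup G) P' →
      P' ≤ Subgroup.normalizer (B Q : Set G) := by
    intro Q P' hP'
    obtain ⟨x', hx'⟩ := Half.of_frame H.six hP'.toFrame (H.index_six S hP')
    have hgen : ∀ a : G, (∀ g, (∃ P, Parab (S : Subgroup G) P ∧ pCoreOf 2 P = Q ∧ g ∈ P ∧ g ^ 3 = 1) →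
        a * g * a⁻¹ ∈ B Q) → a ∈ Subgroup.normalizer (B Q : Set G) := fun a ha =>
      CfsgLib.JComp.mem_normalizer_of_conj_mem fun v hv => by
        have h1 : v ∈ (B Q).comap (MulAut.conj a).toMonoidHom :=
          (Subgroup.closure_le _).mpr (fun g hg => ha g hg) hv
        exact h1
    rw [← hx'.gen]
    refine sup_le (fun s hs => hgen s ?_) (Subgroup.zpowers_le.mpr (hgen x' ?_))
    · rintro g ⟨P, hP, hPQ, hgP, hg3⟩
      exact Subgroup.subset_closure
        ⟨P, hP, hPQ, mul_mem (mul_mem (hP.le hs) hgP) (inv_mem (hP.le hs)), hcube s g hg3⟩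
    · rintro g ⟨P, hP, hPQ, hgP, hg3⟩
      by_cases hc : pCoreOf 2 P' = Q
      · have hxB : x' ∈ B Q := Subgroup.subset_closure
          ⟨P', hP', hc, hx'.mem, hx'.order ▸ pow_orderOf_eq_one x'⟩
        exact mul_mem (mul_mem hxB (Subgroup.subset_closure ⟨P, hP, hPQ, hgP, hg3⟩)) (inv_mem hxB)
      · exact Subgroup.subset_closure ⟨P, hP, hPQ,
          H.swap_core S hP hP' hx' (fun e => hc (e.trans hPQ)) g hgP hg3, hcube x' g hg3⟩
  have hBF : ∀ Q, B Q ≤ F := fun Q => Subgroup.closure_mono fun g ⟨P, hP, _, hgP, hg3⟩ => ⟨P, hP, hgP, hg3⟩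
  have hFB : ∀ Q, F ≤ Subgroup.normalizer (B Q : Set G) := fun Q =>
    (Subgroup.closure_le _).mpr fun g ⟨P, hP, hgP, _⟩ => hBn Q P hP hgP
  have hx1 : x0 ≠ 1 := fun e => by
    have h1 := hx0.order
    rw [e, orderOf_one] at h1
    omega
  have hx03 : x0 ^ 3 = 1 := hx0.order ▸ pow_orderOf_eq_one x0
  by_cases hFtop : F = ⊤
  · haveI : (B (pCoreOf 2 P0)).Normal := Subgroup.normalizer_eq_top_iff.mp (top_le_iff.mp (hFtop ▸ hFB _))
    rcases IsSimpleGroup.eq_bot_or_eq_top_of_normal (B (pCoreOf 2 P0)) inferInstance with e | e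
    · have hm : x0 ∈ B (pCoreOf 2 P0) := Subgroup.subset_closure ⟨P0, hP0, rfl, hx0.mem, hx03⟩
      rw [e, Subgroup.mem_bot] at hm
      exact hx1 hm
    · refine H.normalizer_ne_top (core_isPGroup P0) hP0.toFrame.core_ne_bot (top_le_iff.mp ?_)
      rw [← e]
      refine (Subgroup.closure_le _).mpr fun g ⟨P, _, hPQ, hgP, _⟩ => ?_
      exact hPQ ▸ le_normalizer_core P hgP
  · have hNF : Subgroup.normalizer (F : Set G) ≠ ⊤ := fun e => by
      haveI : F.Normal := Subgroup.normalizer_eq_top_iff.mp e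
      rcases IsSimpleGroup.eq_bot_or_eq_top_of_normal F inferInstance with e' | e'
      · have hm : x0 ∈ F := Subgroup.subset_closure ⟨P0, hP0, hx0.mem, hx03⟩
        rw [e', Subgroup.mem_bot] at hm
        exact hx1 hm
      · exact hFtop e'
    have hgen : ∀ a : G, (∀ g, (∃ P, Parab (S : Subgroup G) P ∧ g ∈ P ∧ g ^ 3 = 1) → a * g * a⁻¹ ∈ F) →
        a ∈ Subgroup.normalizer (F : Set G) := fun a ha =>
      CfsgLib.JComp.mem_normalizer_of_conj_mem fun v hv => by
        have h1 : v ∈ F.comap (MulAut.conj a).toMonoidHom :=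
          (Subgroup.closure_le _).mpr (fun g hg => ha g hg) hv
        exact h1
    refine H.no_cover S hNF (fun n hn => hgen n ?_) (fun P' hP' a ha => hgen a ?_)
    · rintro g ⟨P, hP, hgP, hg3⟩
      exact Subgroup.subset_closure
        ⟨_, hP.conj_sylow hn, ⟨g, hgP, rfl⟩, hcube n g hg3⟩
    · rintro g ⟨P, hP, hgP, hg3⟩
      refine hBF (pCoreOf 2 P) ((Subgroup.mem_normalizer_iff.mp (hBn _ P' hP' ha) g).mp ?_)
      exact Subgroup.subset_closure ⟨P, hP, rfl, hgP, hg3⟩

end CfsgLib.SpecSix
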