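import Cfsg.Agent.Lib.SpecSix.Defs
import Cfsg.Agent.Lib.JComp.Straddle

/-!
Element orders at most six: 2-cores of local subgroups and frames.
-/

set_option autoImplicit false
set_option linter.unusedSectionVars false
set_option linter.style.haveILetI false

namespace CfsgLib.SpecSix

open Cfsg

universe u

variable {G : Type u} [Group G] [Finite G]

theorem core_le (P : Subgroup G) : pCoreOf 2 P ≤ P := Subgroup.map_subtype_le _

theorem core_isPGroup (P : Subgroup G) : IsPGroup 2 (pCoreOf 2 P) := (CfsgLib.isPGroup_pCore 2).map _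

theorem le_normalizer_core (P : Subgroup G) : P ≤ Subgroup.normalizer (pCoreOf 2 P : Set G) :=
  CfsgLib.JComp.le_normalizer_pCoreOf' P

theorem le_core {P N : Subgroup G} (hNP : N ≤ P) (hn : P ≤ Subgroup.normalizer (N : Set G))
    (hN : IsPGroup 2 N) : N ≤ pCoreOf 2 P := by
  haveI : (N.subgroupOf P).Normal := (Subgroup.normal_subgroupOf_iff_le_normalizer hNP).mpr hn
  have h := CfsgLib.le_pCore (p := 2) (N := N.subgroupOf P)
    (hN.comap_of_injective P.subtype P.subtype_injective)
  rw [← Subgroup.map_subgroupOf_eq_of_le hNP]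
  exact Subgroup.map_mono h

theorem core_subgroupOf (P : Subgroup G) : (pCoreOf 2 P).subgroupOf P = pCore 2 P :=
  Subgroup.comap_map_eq_self_of_injective P.subtype_injective _

theorem core_relIndex (P : Subgroup G) : (pCoreOf 2 P).relIndex P = Nat.card (P ⧸ pCore 2 P) := by
  rw [Subgroup.relIndex, core_subgroupOf, Subgroup.index_eq_card]

theorem core_card_mul (P : Subgroup G) :
    Nat.card (pCoreOf 2 P) * (pCoreOf 2 P).relIndex P = Nat.card P :=
  CfsgLib.Products.card_mul_relIndex_of_le (core_le P)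

theorem core_map_conj (g : G) (P : Subgroup G) :
    pCoreOf 2 (P.map (MulAut.conj g).toMonoidHom) = (pCoreOf 2 P).map (MulAut.conj g).toMonoidHom :=
  CfsgLib.JComp.pCoreOf_map (MulAut.conj g).toMonoidHom (MulAut.conj g).injective P

/-- A 2-subgroup normalised by a Sylow 2-subgroup lies in it. -/
theorem le_sylow_of_normalized {T P N : Subgroup G} (hT : T ≤ P) (hT2 : IsPGroup 2 T)
    (hodd : Odd (T.relIndex P)) (hN : IsPGroup 2 N) (hNP : N ≤ P)
    (hn : T ≤ Subgroup.normalizer (N : Set G)) : N ≤ T := by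
  have h2 : IsPGroup 2 ↥(T ⊔ N) := hT2.to_sup_of_normal_right' hN hn
  haveI : Fact (Nat.Prime 2) := ⟨Nat.prime_two⟩
  have hle : T ⊔ N ≤ P := sup_le hT hNP
  obtain ⟨i, hi⟩ := IsPGroup.iff_card.mp h2
  have hd : T.relIndex (T ⊔ N) ∣ 2 ^ i := hi ▸ Subgroup.relIndex_dvd_card T (T ⊔ N)
  have hd' : T.relIndex (T ⊔ N) ∣ T.relIndex P := Dvd.intro _ (Subgroup.relIndex_mul_relIndex _ _ _ le_sup_left hle)
  have h1 : T.relIndex (T ⊔ N) = 1 := by
    obtain ⟨j, -, hj⟩ := (Nat.dvd_prime_pow Nat.prime_two).mp hd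
    rcases Nat.eq_zero_or_pos j with rfl | hj0
    · simpa using hj
    · exact absurd (even_iff_two_dvd.mpr ((dvd_pow_self 2 hj0.ne').trans (hj ▸ hd')))
        (Nat.not_even_iff_odd.mpr hodd)
  exact le_sup_right.trans (Subgroup.relIndex_eq_one.mp h1)

variable {T P : Subgroup G}

theorem Frame.core_le_T (h : Frame T P) : pCoreOf 2 P ≤ T :=
  le_sylow_of_normalized h.le h.two h.odd (core_isPGroup P) (core_le P) (h.le.trans (le_normalizer_core P))

theorem Frame.cent_group (h : Frame T P) :
    Subgroup.centralizer (pCore 2 P : Set P) ≤ pCore 2 P := by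
  intro c hc
  rw [← core_subgroupOf]
  refine h.cent ?_
  rintro _ ⟨q, hq, rfl⟩
  exact congrArg Subtype.val (hc q hq)

theorem Frame.core_ne_bot [Nontrivial G] (h : Frame T P) : pCoreOf 2 P ≠ ⊥ :=
  CfsgLib.JComp.pCoreOf_ne_bot h.cent

/-- In a group of characteristic 2 type, an overgroup of a Sylow 2-subgroup of a 2-local has a frame. -/
theorem Frame.of_char2 (hc : IsCharacteristicTwoType G) {R T P : Subgroup G} (hR : IsPGroup 2 R)
    (hR1 : R ≠ ⊥) (hP : P ≤ Subgroup.normalizer (R : Set G)) (hT : T ≤ P) (hT2 : IsPGroup 2 T)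
    (hodd : Odd (T.relIndex (Subgroup.normalizer (R : Set G)))) : Frame T P := by
  set N := Subgroup.normalizer (R : Set G) with hN
  have hO : pCoreOf 2 N ≤ T := le_sylow_of_normalized (hT.trans hP) hT2 hodd (core_isPGroup N) (core_le N)
    ((hT.trans hP).trans (le_normalizer_core N))
  have hOP : pCoreOf 2 N ≤ pCoreOf 2 P :=
    le_core (hO.trans hT) (hP.trans (le_normalizer_core N)) (core_isPGroup N)
  refine ⟨hT, hT2, ?_, ?_⟩
  · obtain ⟨k, hk⟩ := hodd
    have hmul := Subgroup.relIndex_mul_relIndex T P N hT hP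
    rw [← Nat.not_even_iff_odd]
    intro hev
    exact Nat.not_even_iff_odd.mpr ⟨k, hk⟩ (hmul ▸ hev.mul_right _)
  · refine (Subgroup.centralizer_le hOP).trans (le_trans ?_ hOP)
    have hRN : R ≤ pCoreOf 2 N := le_core Subgroup.le_normalizer le_rfl hR
    intro c hcc
    have hcN : c ∈ N := by
      rw [hN, Subgroup.mem_normalizer_iff]
      intro r
      constructor
      · intro hr
        have e : r * c = c * r := hcc r (hRN hr)
        rwa [← e, mul_inv_cancel_right]
      · intro hr
        have e : c * r * c⁻¹ * c = c * (c * r * c⁻¹) := hcc _ (hRN hr)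
        have : c * r * c⁻¹ = r := by
          calc c * r * c⁻¹ = c⁻¹ * (c * (c * r * c⁻¹)) := by group
            _ = c⁻¹ * (c * r * c⁻¹ * c) := by rw [e]
            _ = r := by group
        rwa [this] at hr
    have h2 := hc.2 R hR hR1
    have : (⟨c, hcN⟩ : N) ∈ pCore 2 N := h2 (fun q hq => Subtype.ext (hcc q ⟨q, hq, rfl⟩))
    exact ⟨_, this, rfl⟩

/-- A conjugate of a frame is a frame. -/
theorem Frame.conj (h : Frame T P) (g : G) :
    Frame (T.map (MulAut.conj g).toMonoidHom) (P.map (MulAut.conj g).toMonoidHom) := by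
  have hi : Function.Injective (MulAut.conj g).toMonoidHom := (MulAut.conj g).injective
  refine ⟨Subgroup.map_mono h.le, h.two.map _, ?_, ?_⟩
  · rw [Subgroup.relIndex_map_map_of_injective _ _ hi]; exact h.odd
  · rw [core_map_conj]
    intro c hc
    refine ⟨g⁻¹ * c * g, h.cent fun q hq => ?_, by simp [mul_assoc]⟩
    have e := hc _ ⟨q, hq, rfl⟩
    simp only [MulEquiv.coe_toMonoidHom, MulAut.conj_apply] at e
    calc q * (g⁻¹ * c * g) = g⁻¹ * ((g * q * g⁻¹) * c) * g := by group
      _ = g⁻¹ * (c * (g * q * g⁻¹)) * g := by rw [e]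
      _ = g⁻¹ * c * g * q := by group

end CfsgLib.SpecSix
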