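import Cfsg.Agent.Lib.SpecSix.Shape
import Cfsg.Agent.Lib.SpecSix.FourThree
import Cfsg.Agent.Lib.SpecSix.ParabTop

/-!
Element orders at most six: a solvable top without elements of order five is its 3-core extended by its Sylow
2-subgroup.
-/

set_option autoImplicit false
set_option linter.unusedSectionVars false
set_option linter.style.haveILetI false

namespace CfsgLib.SpecSix

open Cfsg

universe u

variable {K : Type u} [Group K] [Finite K]

/-- **Every element of order three of the top lies in its 3-core.** -/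
theorem Six.three_mem_core (h : Six K) [Group.IsSolvable K] (S : Subgroup K)
    (hS2 : IsPGroup 2 S) (hodd : ¬ 2 ∣ S.index) (hsq : ∀ s ∈ S, s * s = 1) (h5 : ¬ 5 ∣ Nat.card K)
    (hcent : Subgroup.centralizer (pCore 3 K : Set K) ≤ pCore 3 K) :
    ∀ k : K, k ^ 3 = 1 → k ∈ pCore 3 K := by
  haveI : Fact (Nat.Prime 2) := ⟨Nat.prime_two⟩
  haveI : Fact (Nat.Prime 3) := ⟨Nat.prime_three⟩
  set R := pCore 3 K with hRd
  have hR3 : IsPGroup 3 R := isPGroup_pCore _
  haveI : R.Normal := by rw [hRd]; infer_instance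
  set O := pCore 2 (K ⧸ R) with hOd
  haveI : O.Normal := by rw [hOd]; infer_instance
  set π := QuotientGroup.mk' R with hπ
  set N := O.comap π with hN
  haveI : N.Normal := by rw [hN]; infer_instance
  have hRN : R ≤ N := fun r hr => by
    rw [hN, Subgroup.mem_comap, hπ, QuotientGroup.mk'_apply, (QuotientGroup.eq_one_iff r).mpr hr]; exact one_mem _
  obtain ⟨i, hi⟩ := IsPGroup.iff_card.mp (isPGroup_pCore (G := K ⧸ R) 2)
  have hcardN : Nat.card N = Nat.card R * 2 ^ i := by
    rw [hN, hOd, CfsgLib.card_comap_mk, hi]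
  have hcop : (Nat.card R).Coprime 2 := by
    obtain ⟨j, hj⟩ := IsPGroup.iff_card.mp hR3
    rw [hj]; exact Nat.Coprime.pow_left j (by norm_num)
  -- a Sylow 2-subgroup of the preimage inside `S`
  have hrel : ¬ 2 ∣ S.relIndex N := fun hd => hodd (hd.trans (by
    have h1 := CfsgLib.JComp.card_sup_mul_card_inf (A := S) (B := N)
      (by rw [Subgroup.normalizer_eq_top]; exact le_top)
    have h2 := CfsgLib.Products.card_mul_relIndex_of_le (le_sup_left : S ≤ S ⊔ N)
    have h3 := CfsgLib.Products.card_inf_mul_relIndex S N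
    have e : S.relIndex N = S.relIndex (S ⊔ N) := by
      rw [← h2, ← h3, mul_assoc] at h1
      have h1' := Nat.eq_of_mul_eq_mul_left Nat.card_pos h1
      rw [mul_comm] at h1'
      exact (Nat.eq_of_mul_eq_mul_left Nat.card_pos h1').symm
    rw [e]
    exact Dvd.intro _ (Subgroup.relIndex_mul_index le_sup_left)))
  let P : Sylow 2 N :=
    (hS2.comap_of_injective N.subtype N.subtype_injective : IsPGroup 2 (S.subgroupOf N)).toSylow hrel
  set V := S ⊓ N with hV
  have hPmap : (P : Subgroup N).map N.subtype = V := Subgroup.subgroupOf_map_subtype S N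
  have hfr := Sylow.normalizer_sup_eq_top P
  rw [hPmap] at hfr
  have hNV : N ≤ R ⊔ V := by
    intro n hn
    have hd : ¬ 2 ∣ (R ⊔ V).relIndex N := fun hd => hrel (hd.trans (by
      rw [← Subgroup.inf_relIndex_right S N]
      exact Subgroup.relIndex_dvd_of_le_left N le_sup_right))
    have hdv : (R ⊔ V).relIndex N ∣ R.relIndex N := Subgroup.relIndex_dvd_of_le_left N le_sup_left
    have hcard : R.relIndex N = 2 ^ i := by
      have h1 := CfsgLib.Products.card_mul_relIndex_of_le hRN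
      rw [hcardN] at h1
      exact Nat.eq_of_mul_eq_mul_left Nat.card_pos h1
    obtain ⟨j, -, hj⟩ := (Nat.dvd_prime_pow Nat.prime_two).mp (hcard ▸ hdv)
    have hj0 : j = 0 := by
      by_contra hj0
      exact hd (hj ▸ dvd_pow_self 2 hj0)
    rw [hj0, pow_zero] at hj
    exact Subgroup.relIndex_eq_one.mp hj hn
  -- elements of order three normalising `V` centralise it
  have hVc : ∀ y : K, y ∈ Subgroup.normalizer (V : Set K) → y ^ 3 = 1 → ∀ v ∈ V, y * v * y⁻¹ = v := by
    intro y hy hy3 v hv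
    by_contra hne
    have hcomm : ∀ a ∈ V, ∀ b ∈ V, a * b = b * a := fun a ha b hb => by
      calc a * b = (a * b)⁻¹ := eq_inv_of_mul_eq_one_left (hsq _ (mul_mem ha.1 hb.1))
        _ = b * a := by rw [mul_inv_rev, inv_eq_of_mul_eq_one_left (hsq a ha.1),
            inv_eq_of_mul_eq_one_left (hsq b hb.1)]
    set v1 := y * v * y⁻¹ with hv1
    set v2 := y * v1 * y⁻¹ with hv2
    have h1 : v1 ∈ V := (Subgroup.mem_normalizer_iff.mp hy v).mp hv
    have h2 : v2 ∈ V := (Subgroup.mem_normalizer_iff.mp hy v1).mp h1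
    have hvi : v⁻¹ = v := inv_eq_of_mul_eq_one_left (hsq v hv.1)
    have h1i : v1⁻¹ = v1 := inv_eq_of_mul_eq_one_left (hsq v1 h1.1)
    have e3 : y * v2 * y⁻¹ = v := by
      calc y * v2 * y⁻¹ = y ^ 3 * v * (y ^ 3)⁻¹ := by
            rw [hv2, hv1]; simp only [pow_succ, pow_zero, one_mul]; group
        _ = v := by rw [hy3]; group
    refine h.no_cycle R hR3 hcent (a := v * v1) (b := v1 * v2) (y := y)
      (hsq _ (mul_mem hv.1 h1.1)) (hsq _ (mul_mem h1.1 h2.1))
      (hcomm _ (mul_mem hv h1) _ (mul_mem h1 h2)) ?_ hy3 ?_ ?_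
    · intro e
      exact hne (by rw [eq_inv_of_mul_eq_one_right e, hvi])
    · calc y * (v * v1) * y⁻¹ = (y * v * y⁻¹) * (y * v1 * y⁻¹) := by group
        _ = v1 * v2 := by rw [← hv1, ← hv2]
    · calc y * (v1 * v2) * y⁻¹ = (y * v1 * y⁻¹) * (y * v2 * y⁻¹) := by group
        _ = v2 * v := by rw [← hv2, e3]
        _ = v * (v1 * v1) * v2 := by rw [hsq v1 h1.1, mul_one, hcomm v hv v2 h2]
        _ = _ := by simp only [mul_assoc]
  -- the Fitting subgroup of the quotient
  have hK3 : pCore 3 (K ⧸ R) = ⊥ := by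
    have hp : IsPGroup 3 ((pCore 3 (K ⧸ R)).comap π) := by
      refine (isPGroup_pCore (G := K ⧸ R) 3).comap_of_ker_isPGroup _ ?_
      rw [hπ, QuotientGroup.ker_mk']; exact hR3
    have hle := CfsgLib.le_pCore hp
    refine (Subgroup.eq_bot_iff_forall _).mpr fun a ha => ?_
    obtain ⟨y, rfl⟩ := QuotientGroup.mk'_surjective R a
    exact (QuotientGroup.eq_one_iff y).mpr (hle ha)
  have hF : fittingSubgroup (K ⧸ R) ≤ O := by
    rw [fittingSubgroup_eq_iSup_pCore]
    refine iSup_le fun q => ?_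
    by_cases hq : pCore (q : ℕ) (K ⧸ R) = ⊥
    · rw [hq]; exact bot_le
    haveI := Fact.mk q.2
    obtain ⟨n, hn⟩ := IsPGroup.iff_card.mp (isPGroup_pCore (G := K ⧸ R) (q : ℕ))
    have hn0 : n ≠ 0 := fun e => hq (Subgroup.card_eq_one.mp (by rw [hn, e, pow_zero]))
    have hqd : (q : ℕ) ∣ Nat.card (K ⧸ R) := (hn ▸ dvd_pow_self _ hn0).trans (Subgroup.card_subgroup_dvd_card _)
    rcases h.prime_cases q.2 (hqd.trans (Subgroup.card_quotient_dvd_card R)) with e | e | e
    · rw [e]
    · exact absurd (e ▸ hK3) hq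
    · exact absurd (e ▸ hqd.trans (Subgroup.card_quotient_dvd_card R)) h5
  have hCO : Subgroup.centralizer (O : Set (K ⧸ R)) ≤ O :=
    (Subgroup.centralizer_le hF).trans (centralizer_fitting_le.trans hF)
  intro k hk
  obtain ⟨n, hn, m, hm, rfl⟩ : ∃ n ∈ Subgroup.normalizer (V : Set K), ∃ m ∈ R, k = n * m := by
    have hle : Subgroup.normalizer (V : Set K) ⊔ R = ⊤ := by
      refine top_le_iff.mp (hfr ▸ sup_le le_sup_left (hNV.trans (sup_le le_sup_right ?_)))
      exact Subgroup.le_normalizer.trans le_sup_left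
    have hk' : k ∈ Subgroup.normalizer (V : Set K) ⊔ R := hle ▸ Subgroup.mem_top k
    rw [← SetLike.mem_coe, Subgroup.mul_normal] at hk'
    obtain ⟨n, hn, m, hm, e⟩ := Set.mem_mul.mp hk'
    exact ⟨n, hn, m, hm, e.symm⟩
  -- the 3-part of `n`
  have hnk : π n = π (n * m) := by
    rw [map_mul, show π m = 1 from (QuotientGroup.eq_one_iff m).mpr hm, mul_one]
  have hn3R : n ^ 3 ∈ R := by
    refine (QuotientGroup.eq_one_iff (N := R) _).mp ?_
    show π (n ^ 3) = 1
    rw [map_pow, hnk, ← map_pow, hk, map_one]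
  obtain ⟨j, hj⟩ := hR3 ⟨n ^ 3, hn3R⟩
  have hn9 : n ^ (3 : ℕ) ^ (j + 1) = 1 := by
    rw [pow_succ', pow_mul]; exact congrArg Subtype.val hj
  have hn3 : n ^ 3 = 1 := h.pow_eq_one (Or.inl rfl) hn9
  have hnO : π n ∈ O := by
    refine hCO (Subgroup.mem_centralizer_iff.mpr fun o ho => ?_)
    obtain ⟨w, rfl⟩ := QuotientGroup.mk'_surjective R o
    have hw : w ∈ R ⊔ V := hNV ho
    rw [sup_comm, ← SetLike.mem_coe, Subgroup.mul_normal] at hw
    obtain ⟨v, hv, r, hr, rfl⟩ := Set.mem_mul.mp hw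
    have hc : n * v = v * n := mul_inv_eq_iff_eq_mul.mp (hVc n hn hn3 v hv)
    show π (v * r) * π n = π n * π (v * r)
    rw [map_mul, show π r = 1 from (QuotientGroup.eq_one_iff r).mpr hr, mul_one, ← map_mul, ← map_mul, hc]
  obtain ⟨l, hl⟩ := (isPGroup_pCore (G := K ⧸ R) 2) ⟨π n, hnO⟩
  have h1 : π n ^ 2 ^ l = 1 := congrArg Subtype.val hl
  have h2 : π n ^ 3 = 1 := by rw [← map_pow, hn3, map_one]
  have hn1 : π n = 1 := by
    have e := pow_gcd_eq_one.mpr ⟨h1, h2⟩
    rwa [Nat.Coprime.gcd_eq_one (Nat.Coprime.pow_left l (by norm_num)), pow_one] at e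
  refine (QuotientGroup.eq_one_iff (n * m)).mp ?_
  show π (n * m) = 1
  rw [← hnk]; exact hn1

end CfsgLib.SpecSix
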