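import Cfsg.Agent.Lib.SpecSix.ElemCore
import Cfsg.Agent.Lib.SpecSix.TopSplit
import Cfsg.Agent.Lib.SpecSix.CommuteTop

/-!
Element orders at most six, the simple case: two parabolics with different cores in one local permute each other's
elements of order three.
-/

set_option autoImplicit false
set_option linter.unusedSectionVars false
set_option linter.style.haveILetI false

namespace CfsgLib.SpecSix

open Cfsg
open scoped Pointwise

universe u

variable {G : Type u} [Group G] [Finite G]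

theorem Half.solvable {S P : Subgroup G} {x : G} (hp : Half S P x) (h : Six G) : Group.IsSolvable P := by
  haveI : Fact (Nat.Prime 2) := ⟨Nat.prime_two⟩
  refine (h.subgroup P).solvable_of_not_five fun hd => ?_
  rw [← core_card_mul P, hp.index] at hd
  obtain ⟨n, hn⟩ := IsPGroup.iff_card.mp (core_isPGroup P)
  rcases (Nat.Prime.dvd_mul (by norm_num : Nat.Prime 5)).mp hd with h5 | h5
  · have := Nat.Prime.dvd_of_dvd_pow (by norm_num : Nat.Prime 5) (hn ▸ h5)
    omega
  · omega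

/-- In a common local the element of order three of one parabolic permutes the elements of order three of the
other. -/
theorem Half.swap_three (h6 : Six G) {S P P' L : Subgroup G} {x x' : G} (hp : Half S P x) (hp' : Half S P' x')
    (hF : Frame S L) [Group.IsSolvable L] (hPL : P ≤ L) (hP'L : P' ≤ L) (hne : pCoreOf 2 P' ≠ pCoreOf 2 P) :
    ∀ g ∈ P, g ^ 3 = 1 → x' * g * x'⁻¹ ∈ P := by
  classical
  haveI : Fact (Nat.Prime 2) := ⟨Nat.prime_two⟩
  haveI : Fact (Nat.Prime 3) := ⟨Nat.prime_three⟩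
  have hL6 : Six L := h6.subgroup L
  set K := pCore 2 L with hK
  have hK2 : IsPGroup 2 K := CfsgLib.isPGroup_pCore 2
  haveI : K.Normal := by rw [hK]; infer_instance
  have hC := hF.cent_group
  have hO : pCore 2 (L ⧸ K) = ⊥ := CfsgLib.ZJ.pCore_quotient_pCore_eq_bot
  have hX6 : Six (L ⧸ K) := hL6.quotient K
  have hKP : ∀ P0 : Subgroup G, S ≤ P0 → P0 ≤ L → pCoreOf 2 L ≤ pCoreOf 2 P0 := fun P0 hSP0 hP0L =>
    le_core (hF.core_le_T.trans hSP0) (hP0L.trans (le_normalizer_core L)) (core_isPGroup L)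
  set π := QuotientGroup.mk' K with hπ
  have hone : ∀ g : L, π g = 1 ↔ (g : G) ∈ pCoreOf 2 L := fun g => by
    rw [hπ, QuotientGroup.mk'_apply, QuotientGroup.eq_one_iff, hK, ← core_subgroupOf]; rfl
  set ξ : L := ⟨x, hPL hp.mem⟩ with hξ
  set ξ' : L := ⟨x', hP'L hp'.mem⟩ with hξ'
  have hx1 : π ξ ≠ 1 := fun e => hp.notin (hF.core_le_T ((hone ξ).mp e))
  have hξ3 : π ξ ^ 3 = 1 := by
    rw [← map_pow, show ξ ^ 3 = 1 from Subtype.ext (hp.order ▸ pow_orderOf_eq_one x), map_one]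
  have hξ'3 : π ξ' ^ 3 = 1 := by
    rw [← map_pow, show ξ' ^ 3 = 1 from Subtype.ext (hp'.order ▸ pow_orderOf_eq_one x'), map_one]
  rcases hL6.top_shape hK2 hC hO with ⟨-, h10⟩ | ⟨h5, hcent⟩
  · exfalso
    have hd := (orderOf_dvd_natCard (π ξ)).trans h10
    rw [orderOf_eq_prime hξ3 hx1] at hd
    omega
  set R := pCore 3 (L ⧸ K) with hR
  have hR3 : IsPGroup 3 R := isPGroup_pCore _
  haveI : R.Normal := by rw [hR]; infer_instance
  have hexp : ∀ r ∈ R, r ^ 3 = 1 := fun r hr => by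
    obtain ⟨j, hj⟩ := hR3 ⟨r, hr⟩
    exact hX6.pow_eq_one (Or.inl rfl) (congrArg Subtype.val hj)
  set T0 := S.subgroupOf L with hT0
  have hT02 : IsPGroup 2 T0 := hF.two.comap_of_injective L.subtype L.subtype_injective
  have hodd0 : ¬ 2 ∣ T0.index := fun hd => Nat.not_even_iff_odd.mpr hF.odd (even_iff_two_dvd.mpr hd)
  have hsq : ∀ v : L, (v : G) ∈ S → π v * π v = 1 := fun v hv => by
    obtain ⟨j, hj⟩ := hF.two ⟨(v : G), hv⟩
    rw [← map_mul]
    exact (QuotientGroup.eq_one_iff _).mpr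
      (hL6.sq_mem K hK2 hC hO (g := v) (k := j) (Subtype.ext (by simpa using congrArg Subtype.val hj)))
  have hthree : ∀ k : L ⧸ K, k ^ 3 = 1 → k ∈ R :=
    hX6.three_mem_core (T0.map π) (hT02.map π)
      (fun hd => hodd0 (hd.trans (Subgroup.index_map_dvd T0 (QuotientGroup.mk'_surjective K))))
      (by rintro _ ⟨v, hv, rfl⟩; exact hsq v hv) h5 hcent
  -- an element of the Sylow subgroup mapping into the 3-core maps to the identity
  have hzero : ∀ v : L, (v : G) ∈ S → π v ∈ R → π v = 1 := fun v hv hvR => by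
    have e := pow_gcd_eq_one.mpr ⟨(by rw [pow_two]; exact hsq v hv : π v ^ 2 = 1), hexp _ hvR⟩
    rwa [show Nat.gcd 2 3 = 1 from rfl, pow_one] at e
  have hxR := hthree _ hξ3
  have hx'R := hthree _ hξ'3
  have hout : ∀ {P0 : Subgroup G} {x0 : G} (hp0 : Half S P0 x0) (hx0L : x0 ∈ L), π ⟨x0, hx0L⟩ ∈ R →
      ∀ v : L, (v : G) ∈ S → (v : G) ∉ pCoreOf 2 P0 → π v * π ⟨x0, hx0L⟩ * (π v)⁻¹ = (π ⟨x0, hx0L⟩)⁻¹ := by
    intro P0 x0 hp0 hx0L hx0R v hv hvQ
    refine eq_inv_of_mul_eq_one_left ?_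
    rw [← map_inv, ← map_mul, ← map_mul, ← map_mul]
    refine hzero _ (hp0.qle (hp0.inv v hv hvQ)) ?_
    rw [map_mul, map_mul, map_mul, map_inv]
    exact mul_mem (Subgroup.Normal.conj_mem ‹_› _ hx0R _) hx0R
  have hin : ∀ v : L, (v : G) ∈ pCoreOf 2 P → Commute (π v) (π ξ) := by
    intro v hv
    refine mul_inv_eq_iff_eq_mul.mp (mul_inv_eq_one.mp ?_)
    rw [← map_inv, ← map_inv, ← map_mul, ← map_mul, ← map_mul]
    refine hzero _ (hp.qle ?_) ?_
    · show (v : G) * x * (v : G)⁻¹ * x⁻¹ ∈ pCoreOf 2 P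
      rw [mul_assoc (v : G), mul_assoc (v : G)]
      exact mul_mem hv (hp.conjQ hp.mem (inv_mem hv))
    · rw [map_mul, map_mul, map_mul, map_inv, map_inv]
      exact mul_mem (Subgroup.Normal.conj_mem ‹_› _ hxR _) (inv_mem hxR)
  -- the two elements of order three commute in the top
  obtain ⟨e, heQ, heQ'⟩ : ∃ e ∈ pCoreOf 2 P, e ∉ pCoreOf 2 P' := SetLike.not_le_iff_exists.mp fun hle =>
    hne (Subgroup.eq_of_le_of_card_ge hle (by have h1 := hp.card_two; have h2 := hp'.card_two; omega)).symm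
  set ε : L := ⟨e, hF.le (hp.qle heQ)⟩ with hε
  have hc : Commute (π ξ) (π ξ') :=
    hL6.commute_top hK2 hC hexp hxR hx'R (hsq ε (hp.qle heQ)) (hin ε heQ)
      (hout hp' (hP'L hp'.mem) hx'R ε (hp.qle heQ) heQ')
  -- the elements of order three of `P`
  have hSn : T0.map π ≤ Subgroup.normalizer (Subgroup.zpowers (π ξ) : Set (L ⧸ K)) := by
    rintro _ ⟨v, hv, rfl⟩
    refine CfsgLib.JComp.mem_normalizer_of_conj_mem fun w hw => ?_
    obtain ⟨i, rfl⟩ := Subgroup.mem_zpowers_iff.mp hw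
    rw [← conj_zpow]
    by_cases hvQ : (v : G) ∈ pCoreOf 2 P
    · rw [(hin v hvQ).eq, mul_inv_cancel_right]; exact Subgroup.zpow_mem_zpowers _ i
    · rw [hout hp (hPL hp.mem) hxR v hv hvQ, inv_zpow]; exact inv_mem (Subgroup.zpow_mem_zpowers _ i)
  intro g hg hg3
  set γ : L := ⟨g, hPL hg⟩ with hγ
  have hgi : ∃ i : ℤ, π γ = π ξ ^ i := by
    have hmem : π γ ∈ T0.map π ⊔ Subgroup.zpowers (π ξ) := by
      have hP : P.subgroupOf L ≤ T0 ⊔ Subgroup.zpowers ξ := by
        have e1 : (T0 ⊔ Subgroup.zpowers ξ).map L.subtype = P := by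
          rw [Subgroup.map_sup, hT0, Subgroup.map_subgroupOf_eq_of_le hF.le, MonoidHom.map_zpowers]
          exact hp.gen
        rw [← e1]
        exact (Subgroup.comap_map_eq_self_of_injective L.subtype_injective _).le
      rw [← MonoidHom.map_zpowers, ← Subgroup.map_sup]
      exact Subgroup.mem_map_of_mem π (hP hg)
    rw [← SetLike.mem_coe, Subgroup.coe_mul_of_left_le_normalizer_right _ _ hSn] at hmem
    obtain ⟨_, ⟨v, hv, rfl⟩, w, hw, e1⟩ := Set.mem_mul.mp hmem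
    obtain ⟨i, rfl⟩ := Subgroup.mem_zpowers_iff.mp hw
    have hγR : π γ ∈ R := hthree _ (by rw [← map_pow, show γ ^ 3 = 1 from Subtype.ext hg3, map_one])
    have hvR : π v ∈ R := by
      have : π v = π γ * (π ξ ^ i)⁻¹ := by rw [← e1, mul_inv_cancel_right]
      rw [this]; exact mul_mem hγR (inv_mem (zpow_mem hxR i))
    exact ⟨i, by rw [← e1, hzero v hv hvR, one_mul]⟩
  obtain ⟨i, hi⟩ := hgi
  have he : π (ξ' * γ * ξ'⁻¹ * (ξ ^ i)⁻¹) = 1 := by
    rw [map_mul, map_mul, map_mul, map_inv, map_inv, map_zpow, hi, ← (hc.zpow_left i).eq, mul_inv_cancel_right,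
      mul_inv_cancel]
  have hm := hKP P hp.le hPL ((hone _).mp he)
  have := mul_mem (core_le P hm) (zpow_mem hp.mem i)
  simpa [hξ, hξ', hγ] using this

end CfsgLib.SpecSix
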