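import Cfsg.Agent.Lib.SpecSix.Defs
import Cfsg.Agent.Lib.SpecSix.Eight
import Cfsg.Agent.Lib.SpecSix.Lists
import Cfsg.Agent.Lib.SpecSix.Nonsolvable
import Cfsg.Agent.Lib.MinSimpleOdd.Basic
import Cfsg.Agent.S3109
import Cfsg.Agent.S0505

/-!
Element orders at most six: the simple groups, reduced to the case of characteristic 2 type with an element of
order six.
-/

set_option autoImplicit false
set_option linter.unusedSectionVars false
set_option linter.style.haveILetI false

namespace CfsgLib.SpecSix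

open Cfsg

universe u

/-- In a nilpotent group a normal abelian subgroup lies in a self-centralising one. -/
theorem exists_scn_over {G : Type u} [Group G] [Finite G] [Group.IsNilpotent G] (F : Subgroup G)
    (hFn : F.Normal) (hFc : ∀ x ∈ F, ∀ y ∈ F, x * y = y * x) :
    ∃ A : Subgroup G, F ≤ A ∧ A.Normal ∧ (∀ x ∈ A, ∀ y ∈ A, x * y = y * x) ∧
      Subgroup.centralizer (A : Set G) = A := by
  obtain ⟨A, ⟨hFA, hAn, hAc⟩, hmax⟩ := (Set.toFinite
    {A : Subgroup G | F ≤ A ∧ A.Normal ∧ ∀ x ∈ A, ∀ y ∈ A, x * y = y * x}).exists_maximal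
      ⟨F, le_rfl, hFn, hFc⟩
  refine ⟨A, hFA, hAn, hAc, le_antisymm ?_ fun x hx y hy => hAc y hy x hx⟩
  by_contra hle
  haveI := hAn
  set C := Subgroup.centralizer (A : Set G) with hC
  set φ := QuotientGroup.mk' A
  haveI : (C.map φ).Normal :=
    Subgroup.Normal.map inferInstance φ (QuotientGroup.mk'_surjective A)
  have hne : C.map φ ≠ ⊥ := by
    rw [Ne, Subgroup.map_eq_bot_iff, QuotientGroup.ker_mk']; exact hle
  obtain ⟨q, hq, hq1⟩ := (Subgroup.bot_or_exists_ne_one _).resolve_left
    (CfsgLib.inf_center_ne_bot_of_nilpotent hne)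
  obtain ⟨⟨y, hy, rfl⟩, hyz⟩ := Subgroup.mem_inf.1 hq
  have hyA : y ∉ A := fun h => hq1 ((QuotientGroup.eq_one_iff y).2 h)
  set B := A ⊔ Subgroup.zpowers y with hB
  have hyB : y ∈ B := Subgroup.mem_sup_right (Subgroup.mem_zpowers y)
  have hBc : ∀ a ∈ B, ∀ b ∈ B, a * b = b * a := by
    have h1 : B ≤ Subgroup.centralizer (A : Set G) :=
      sup_le (fun a ha b hb => hAc b hb a ha) (Subgroup.zpowers_le.mpr hy)
    have h2 : B ≤ Subgroup.centralizer ({y} : Set G) :=
      sup_le (fun a ha => Subgroup.mem_centralizer_singleton_iff.mpr (hy a ha))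
        (Subgroup.zpowers_le.mpr (Subgroup.mem_centralizer_singleton_iff.mpr rfl))
    intro a ha b hb
    have h3 : B ≤ Subgroup.centralizer ({a} : Set G) :=
      sup_le (fun k hk => Subgroup.mem_centralizer_singleton_iff.mpr (h1 ha k hk))
        (Subgroup.zpowers_le.mpr (Subgroup.mem_centralizer_singleton_iff.mpr
          (Subgroup.mem_centralizer_singleton_iff.mp (h2 ha)).symm))
    exact (Subgroup.mem_centralizer_singleton_iff.mp (h3 hb)).symm
  have hBn : B.Normal := by
    refine ⟨fun b hb g => ?_⟩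
    have h1 : g * y * g⁻¹ ∈ B := by
      have h1 : g * y * g⁻¹ * y⁻¹ ∈ A := by
        have h2 : φ (g * y * g⁻¹ * y⁻¹) = 1 := by
          rw [map_mul, map_mul, map_mul, map_inv, map_inv,
            Subgroup.mem_center_iff.1 hyz (φ g), mul_inv_cancel_right, mul_inv_cancel]
        exact (QuotientGroup.eq_one_iff _).1 h2
      have := mul_mem (Subgroup.mem_sup_left h1 : g * y * g⁻¹ * y⁻¹ ∈ B) hyB
      rwa [inv_mul_cancel_right] at this
    exact (sup_le (fun a ha => Subgroup.mem_sup_left (hAn.conj_mem a ha g)) (Subgroup.zpowers_le.mpr h1) :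
      B ≤ B.comap (MulAut.conj g).toMonoidHom) hb
  exact hyA (hmax ⟨hFA.trans le_sup_left, hBn, hBc⟩ le_sup_left hyB)

/-- The simple case reduces to the hypothesis `Hyp`. -/
theorem simple_up_to (hno : ∀ (G : Type u) [Group G] [Finite G], Hyp G → False) :
    ∀ M, SimpleUpTo.{u} M := by
  intro M
  induction M using Nat.strong_induction_on with
  | _ M ih =>
  intro G _ _ hs h hns hM
  haveI := hs
  have hG : ¬ IsMulCommutative G := fun hc => hns (Group.isSolvable_of_comm fun a b => hc.is_comm.comm a b)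
  by_cases hno6 : ∀ g : G, orderOf g ≠ 6
  · exact h.small_of_no_six hG hno6
  exfalso
  push Not at hno6
  obtain ⟨g6, hg6⟩ := hno6
  haveI : Fact (Nat.Prime 2) := ⟨Nat.prime_two⟩
  have small : ∀ (T : Type u) [Group T] [Finite T], IsSimpleGroup T → Six T → ¬ Group.IsSolvable T →
      Nat.card T < Nat.card G →
      Nonempty (T ≃* alternatingGroup (Fin 5)) ∨ Nonempty (T ≃* alternatingGroup (Fin 6)) :=
    fun T _ _ a b c hlt => ih (Nat.card T) (lt_of_lt_of_le hlt hM) T a b c le_rfl
  have heven : Even (Nat.card G) := even_iff_two_dvd.mpr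
    (dvd_trans (by rw [hg6]; norm_num) (orderOf_dvd_natCard g6))
  have hsolv : ∀ t : G, orderOf t = 2 → Group.IsSolvable (Subgroup.centralizer ({t} : Set G)) :=
    fun t ht => h.solvable_centralizer ht
  obtain ⟨S⟩ : Nonempty (Sylow 2 G) := inferInstance
  have hr : ¬ PRankLE 2 2 G := fun hr => h.rank_two_no_six hG hr g6 hg6
  -- an elementary subgroup of order at least eight in the Sylow subgroup
  obtain ⟨E, hE, hE8⟩ : ∃ E : Subgroup (S : Subgroup G), (∀ v ∈ E, v * v = 1) ∧ 8 ≤ Nat.card E := by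
    unfold PRankLE at hr
    push Not at hr
    obtain ⟨A, -, hA, hA4⟩ := hr
    have hA2 : IsPGroup 2 A := fun v => ⟨1, Subtype.ext (by simpa using hA v v.2)⟩
    obtain ⟨S', hS'⟩ := hA2.exists_le_sylow
    refine ⟨(A.subgroupOf (S' : Subgroup G)).map (S'.equiv S).toMonoidHom, ?_, ?_⟩
    · rintro _ ⟨v, hv, rfl⟩
      rw [← map_mul]
      have : v * v = 1 := Subtype.ext (by simpa [pow_two] using hA v hv)
      rw [this, map_one]
    · rw [Subgroup.card_map_of_injective (S'.equiv S).injective,
        Nat.card_congr (Subgroup.subgroupOfEquivOfLe hS').toEquiv]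
      obtain ⟨k, hk⟩ := IsPGroup.iff_card.mp hA2
      rw [hk] at hA4 ⊢
      have := (Nat.pow_lt_pow_iff_right (le_refl 2)).mp hA4
      exact le_trans (by norm_num) (Nat.pow_le_pow_right (by norm_num) this)
  obtain ⟨F, hFn, hF, hF8⟩ := exists_normal_eight S.2 (fun v => Subtype.ext
    (h.pgroup_pow_four S.2 v.2)) hE hE8
  haveI : Group.IsNilpotent (S : Subgroup G) := S.2.isNilpotent
  obtain ⟨A, hFA, hAn, hAc, hAC⟩ := exists_scn_over F hFn fun a ha b hb => by
    calc a * b = (a * b)⁻¹ := eq_inv_of_mul_eq_one_left (hF _ (mul_mem ha hb))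
      _ = b * a := by
        rw [mul_inv_rev, inv_eq_of_mul_eq_one_left (hF b hb), inv_eq_of_mul_eq_one_left (hF a ha)]
  have hA3 : ¬ PRankLE 2 2 ↥A := by
    intro hr'
    have hcomm : IsMulCommutative ↥(F.subgroupOf A) :=
      ⟨⟨fun a b => Subtype.ext (Subtype.ext (hAc _ a.1.2 _ b.1.2))⟩⟩
    have := hr' (F.subgroupOf A) hcomm fun a ha => Subtype.ext (by simpa [pow_two] using hF _ ha)
    rw [Nat.card_congr (Subgroup.subgroupOfEquivOfLe hFA).toEquiv] at this
    omega
  have h2c : ∀ T : Subgroup G, IsPGroup 2 T → T ≠ ⊥ →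
      IsPConstrained 2 ↥(Subgroup.normalizer (T : Set G)) := by
    intro T hT hT1
    by_cases hsol : Group.IsSolvable ↥(Subgroup.normalizer (T : Set G))
    · exact MinSimpleOdd.isPConstrained_of_solvable 2
    set N := Subgroup.normalizer (T : Set G) with hN
    have hlt : Nat.card N < Nat.card G := by
      refine lt_of_le_of_ne (Subgroup.card_le_card_group N) fun e => ?_
      have hNtop := Subgroup.eq_top_of_card_eq N e
      haveI : T.Normal := Subgroup.normalizer_eq_top_iff.mp hNtop
      rcases IsSimpleGroup.eq_bot_or_eq_top_of_normal T inferInstance with e' | e'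
      · exact hT1 e'
      · subst e'
        haveI := solvable_of_isPGroup hT
        exact hns (Group.isSolvable_of_isSolvable_injective (G' := (⊤ : Subgroup G))
          (f := (Subgroup.topEquiv (G := G)).symm.toMonoidHom) (MulEquiv.injective _))
    have hQ1 : pCore 2 N ≠ ⊥ := by
      intro e
      refine hT1 ?_
      haveI : (T.subgroupOf N).Normal :=
        (Subgroup.normal_subgroupOf_iff_le_normalizer Subgroup.le_normalizer).mpr le_rfl
      have := CfsgLib.le_pCore (p := 2) (N := T.subgroupOf N)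
        (hT.comap_of_injective N.subtype N.subtype_injective)
      rw [e, le_bot_iff, Subgroup.subgroupOf_eq_bot, disjoint_iff, inf_eq_left.mpr Subgroup.le_normalizer] at this
      exact this
    have hrad := Six.radical_two (ih (Nat.card N) (lt_of_lt_of_le hlt hM)) _ N rfl le_rfl (h.subgroup N) hsol
    have hO : pPrimeCore 2 N = ⊥ := by
      have hs' : Group.IsSolvable ↥(pPrimeCore 2 N) :=
        ((h.subgroup N).subgroup _).solvable_of_not_dvd (Or.inl rfl)
          (Nat.prime_two.coprime_iff_not_dvd.mp (CfsgLib.card_pPrimeCore_coprime 2).symm)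
      have h2 := hrad _ inferInstance hs'
      refine Subgroup.eq_bot_of_card_eq _ ?_
      obtain ⟨k, hk⟩ := IsPGroup.iff_card.mp h2
      have hc := (CfsgLib.card_pPrimeCore_coprime (G := N) 2)
      rw [hk] at hc
      rcases k with _ | k
      · rw [hk, pow_zero]
      · exact absurd hc (fun hc' => by
          have := Nat.Coprime.coprime_dvd_left (dvd_pow_self 2 k.succ_ne_zero) hc'
          norm_num at this)
    have hC : Subgroup.centralizer (pCore 2 N : Set N) ≤ pCore 2 N := by
      set C := Subgroup.centralizer (pCore 2 N : Set N) with hC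
      by_cases hCs : Group.IsSolvable C
      · exact CfsgLib.le_pCore (hrad C inferInstance hCs)
      exfalso
      obtain ⟨u, hu⟩ := ((h.subgroup N).subgroup C).exists_five hCs
      obtain ⟨q, hq, hq1⟩ := (Subgroup.bot_or_exists_ne_one _).resolve_left hQ1
      obtain ⟨k, hk⟩ := CfsgLib.isPGroup_pCore (G := N) 2 ⟨q, hq⟩
      exact hq1 ((h.subgroup N).five_fixes (u := (u : N)) (by rw [Subgroup.orderOf_coe, hu])
        (u.2 q hq).symm (p := 2) (by norm_num) (congrArg Subtype.val hk))
    refine PLocal.isPConstrained_of_quotient fun y hy => ?_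
    obtain ⟨x, rfl⟩ := QuotientGroup.mk'_surjective _ y
    let e : N ≃* N ⧸ pPrimeCore 2 N := MulEquiv.ofBijective (QuotientGroup.mk' (pPrimeCore 2 N))
      ⟨by rw [← MonoidHom.ker_eq_bot_iff, QuotientGroup.ker_mk', hO], QuotientGroup.mk'_surjective _⟩
    rw [← CfsgLib.pCore_map_equiv 2 e] at hy ⊢
    refine ⟨x, hC fun q hq => e.injective ?_, rfl⟩
    rw [map_mul, map_mul]
    exact hy _ ⟨q, hq, rfl⟩
  have hcore := Cfsg.Agent.S3109.result hG h2c S A hAn ⟨⟨fun a b => Subtype.ext (hAc _ a.2 _ b.2)⟩⟩ hAC hA3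
  have hchar := Cfsg.Agent.S0505.result heven hsolv fun t ht =>
    (Subgroup.map_eq_bot_iff_of_injective _ (Subgroup.centralizer ({t} : Set G)).subtype_injective).mp (hcore t ht)
  exact hno G ⟨h, hs, hns, ⟨g6, hg6⟩, hchar, small⟩

end CfsgLib.SpecSix
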