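import Cfsg.Agent.Lib.SpecSix.FratAct

/-!
Element orders at most six: the shape of a solvable top over a self-centralising 2-core.
-/

set_option autoImplicit false
set_option linter.unusedSectionVars false
set_option linter.style.haveILetI false

namespace CfsgLib.SpecSix

open scoped IsMulCommutative

universe u

variable {G : Type u} [Group G] [Finite G]

/-- A five element of the top does not normalise a nontrivial elementary abelian 3-subgroup of it. -/
theorem Six.five_fixes_three (h : Six G) {Q : Subgroup G} [Q.Normal] (hQ : IsPGroup 2 Q)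
    (hC : Subgroup.centralizer (Q : Set G) ≤ Q) {Z : Subgroup (G ⧸ Q)} [IsMulCommutative Z]
    (hZ : ∀ a ∈ Z, a ^ 3 = 1) {k : G ⧸ Q} (hk : orderOf k = 5) (hn : ∀ a ∈ Z, k * a * k⁻¹ ∈ Z) : Z = ⊥ := by
  classical
  haveI : Fintype Z := Fintype.ofFinite Z
  haveI := isMulCommutative_of_sq (fratV_sq hQ)
  let σ : Z →* Z :=
    { toFun := fun a => ⟨k * a * k⁻¹, hn _ a.2⟩
      map_one' := Subtype.ext (by simp)
      map_mul' := fun a b => Subtype.ext (by simp [mul_assoc]) }
  have hσi : ∀ (i : ℕ) (a : Z), ((σ^[i] a : Z) : G ⧸ Q) = k ^ i * a * (k ^ i)⁻¹ := by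
    intro i
    induction i with
    | zero => intro a; simp
    | succ i ih =>
      intro a
      rw [Function.iterate_succ_apply']
      show k * ((σ^[i] a : Z) : G ⧸ Q) * k⁻¹ = _
      rw [ih, pow_succ', mul_inv_rev]; simp only [mul_assoc]
  have h3 : ∀ a : Z, a ≠ 1 → orderOf (a : G ⧸ Q) = 3 := fun a ha => by
    haveI : Fact (Nat.Prime 3) := ⟨Nat.prime_three⟩
    exact orderOf_eq_prime (hZ _ a.2) (fun e => ha (Subtype.ext e))
  have hodd : Odd (Fintype.card Z) := by
    haveI : Fact (Nat.Prime 3) := ⟨Nat.prime_three⟩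
    have hp : IsPGroup 3 Z := fun a => ⟨1, Subtype.ext (by simpa using hZ _ a.2)⟩
    obtain ⟨n, hn'⟩ := IsPGroup.iff_card.mp hp
    rw [← Nat.card_eq_fintype_card, hn']
    exact (by decide : Odd 3).pow
  obtain ⟨x, hx⟩ := QuotientGroup.mk_surjective k
  set π := QuotientGroup.mk' (frat Q) with hπ
  have h1 : Six (G ⧸ frat Q) := h.quotient _
  have hμ : ∀ (i : ℕ) (v : Additive (fratV Q)), (fratAct Q k)^[i] v = fratAct Q (k ^ i) v := by
    intro i
    induction i with
    | zero => intro v; simp [fratAct_one hQ]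
    | succ i ih => intro v; rw [Function.iterate_succ_apply', ih, ← fratAct_mul hQ, pow_succ']
  have hk5 : k ^ 5 = 1 := hk ▸ pow_orderOf_eq_one k
  have htriv : ∀ (a : Z) (v : Additive (fratV Q)), fratAct Q (a : G ⧸ Q) v = v := by
    let ρ : Z → Additive (fratV Q) →+ Additive (fratV Q) := fun a => fratAct Q (a : G ⧸ Q)
    have hρ1 : ∀ v : Additive (fratV Q), ρ 1 v = v := fun v => by
      show fratAct Q ((1 : Z) : G ⧸ Q) v = v
      rw [Subgroup.coe_one]; exact fratAct_one hQ v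
    have hρm : ∀ a b : Z, ∀ v : Additive (fratV Q), ρ (a * b) v = ρ a (ρ b v) := fun a b v => by
      show fratAct Q ((a * b : Z) : G ⧸ Q) v = _
      rw [Subgroup.coe_mul]; exact fratAct_mul hQ _ _ v
    refine frob_fix (V := Additive (fratV Q)) ρ hρ1 hρm (fratAct Q k) σ (fun a v => ?_) (p := 5) (by norm_num)
      (fun a => Subtype.ext (by rw [hσi, hk5]; simp)) (fun a ha => ?_) (fun v => ?_) (fratV_two hQ) hodd
    · show fratAct Q k (fratAct Q (a : G ⧸ Q) v) = fratAct Q (k * a * k⁻¹) (fratAct Q k v)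
      rw [← fratAct_mul hQ, ← fratAct_mul hQ]
      congr 2
      group
    · by_contra ha1
      refine (h.quotient Q).not_commute (a := k) (b := (a : G ⧸ Q)) ?_ hk (h3 a ha1) (by norm_num) (by norm_num)
      exact mul_inv_eq_iff_eq_mul.mp (congrArg Subtype.val ha)
    · set w := ∑ i ∈ Finset.range 5, (fratAct Q k)^[i] v with hw
      have hfix : fratAct Q k w = w := by
        rw [hw, map_sum]
        simp only [hμ, ← fratAct_mul hQ, ← pow_succ', Finset.sum_range_succ, Finset.sum_range_zero,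
          Nat.reduceAdd, hk5, pow_zero]
        abel
      have hord : orderOf (π x) = 5 := by
        have hle := h1 (π x)
        have hdvd : 5 ∣ orderOf (π x) := by
          let f : G ⧸ frat Q →* G ⧸ Q :=
            QuotientGroup.lift (frat Q) (QuotientGroup.mk' Q) (fun y hy => by
              rw [MonoidHom.mem_ker, QuotientGroup.mk'_apply, QuotientGroup.eq_one_iff]
              exact Subgroup.map_subtype_le _ hy)
          have e : f (π x) = k := hx
          have := orderOf_map_dvd f (π x)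
          rwa [e, hk] at this
        have := orderOf_pos (π x)
        obtain ⟨c, hc⟩ := hdvd
        omega
      have hcom : Commute (π x) ((w.toMul : fratV Q) : G ⧸ frat Q) := by
        have e := congrArg (fun b : Additive (fratV Q) => ((b.toMul : fratV Q) : G ⧸ frat Q)) hfix
        simp only [← hx, fratAct_mk hQ, actAdd_apply] at e
        exact mul_inv_eq_iff_eq_mul.mp e
      have h0 := h1.five_fixes hord hcom (p := 2) (by norm_num) (k := 1)
        (by rw [pow_one, pow_two]; exact fratV_sq hQ _ w.toMul.2)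
      exact Additive.toMul.injective (Subtype.ext h0)
  refine (Subgroup.eq_bot_iff_forall _).mpr fun a ha => ?_
  refine fratAct_faithful hQ hC ?_ (htriv ⟨a, ha⟩)
  by_cases ha1 : a = 1
  · simp [ha1]
  · have e := h3 ⟨a, ha⟩ (fun e => ha1 (congrArg Subtype.val e))
    rw [show orderOf a = 3 from e]; decide

/-- If only one core is nontrivial it contains its centraliser. -/
theorem centralizer_core_le {K : Type u} [Group K] [Finite K] [Group.IsSolvable K] (h : Six K)
    (h2 : Cfsg.pCore 2 K = ⊥) {p : ℕ} (hp : p = 3 ∧ Cfsg.pCore 5 K = ⊥ ∨ p = 5 ∧ Cfsg.pCore 3 K = ⊥) :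
    Subgroup.centralizer (Cfsg.pCore p K : Set K) ≤ Cfsg.pCore p K := by
  have hF : Cfsg.fittingSubgroup K ≤ Cfsg.pCore p K := by
    rw [fittingSubgroup_eq_iSup_pCore]
    refine iSup_le fun q => ?_
    by_cases hq : Cfsg.pCore (q : ℕ) K = ⊥
    · rw [hq]; exact bot_le
    haveI := Fact.mk q.2
    obtain ⟨n, hn⟩ := IsPGroup.iff_card.mp (isPGroup_pCore (G := K) (q : ℕ))
    have hn0 : n ≠ 0 := fun e => hq (Subgroup.card_eq_one.mp (by rw [hn, e, pow_zero]))
    rcases h.prime_cases q.2 ((hn ▸ dvd_pow_self _ hn0).trans (Subgroup.card_subgroup_dvd_card _)) with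
      e | e | e
    · exact absurd (e ▸ h2) hq
    · rcases hp with ⟨rfl, _⟩ | ⟨rfl, h3⟩
      · rw [e]
      · exact absurd (e ▸ h3) hq
    · rcases hp with ⟨rfl, h5⟩ | ⟨rfl, _⟩
      · exact absurd (e ▸ h5) hq
      · rw [e]
  exact (Subgroup.centralizer_le hF).trans (le_trans centralizer_fitting_le hF)

/-- The two odd cores are not both nontrivial. -/
theorem Six.one_core {K : Type u} [Group K] [Finite K] (h : Six K) :
    Cfsg.pCore 3 K = ⊥ ∨ Cfsg.pCore 5 K = ⊥ := by
  by_contra hno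
  rw [not_or] at hno
  haveI : Fact (Nat.Prime 3) := ⟨Nat.prime_three⟩
  haveI : Fact (Nat.Prime 5) := ⟨by norm_num⟩
  have key : ∀ (p : ℕ) [Fact p.Prime], Cfsg.pCore p K ≠ ⊥ → ∃ a ∈ Cfsg.pCore p K, orderOf a = p := by
    intro p _ hne
    obtain ⟨n, hn⟩ := IsPGroup.iff_card.mp (isPGroup_pCore (G := K) p)
    have hn0 : n ≠ 0 := fun e => hne (Subgroup.card_eq_one.mp (by rw [hn, e, pow_zero]))
    obtain ⟨a, ha⟩ := exists_prime_orderOf_dvd_card' (G := Cfsg.pCore p K) p (hn ▸ dvd_pow_self _ hn0)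
    exact ⟨a, a.2, by rw [Subgroup.orderOf_coe, ha]⟩
  obtain ⟨a, ha, hao⟩ := key 3 hno.1
  obtain ⟨b, hb, hbo⟩ := key 5 hno.2
  refine h.not_commute ?_ hao hbo (by norm_num) (by norm_num)
  exact Subgroup.commute_of_normal_of_disjoint _ _ inferInstance inferInstance
    (IsPGroup.disjoint_of_coprime (isPGroup_pCore _) (isPGroup_pCore _) (by norm_num)) _ _ ha hb

/-- A nontrivial 5-core of the top has order five. -/
theorem Six.five_core_card (h : Six G) {Q : Subgroup G} [Q.Normal] (hQ : IsPGroup 2 Q)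
    (hC : Subgroup.centralizer (Q : Set G) ≤ Q) (h5 : Cfsg.pCore 5 (G ⧸ Q) ≠ ⊥) :
    Nat.card (Cfsg.pCore 5 (G ⧸ Q)) = 5 := by
  haveI : Fact (Nat.Prime 5) := ⟨by norm_num⟩
  set F := Cfsg.pCore 5 (G ⧸ Q) with hF
  have hK : Six (G ⧸ Q) := h.quotient Q
  have hp : IsPGroup 5 F := isPGroup_pCore _
  haveI : Nontrivial F := F.nontrivial_iff_ne_bot.mpr h5
  haveI := hp.center_nontrivial
  obtain ⟨z, hz⟩ := exists_ne (1 : Subgroup.center F)
  have hexp : ∀ a ∈ F, a ^ 5 = 1 := fun a ha => by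
    obtain ⟨j, hj⟩ := hp ⟨a, ha⟩
    exact hK.pow_eq_one (Or.inr rfl) (congrArg Subtype.val hj)
  have hz1 : ((z : F) : G ⧸ Q) ≠ 1 := fun e => hz (Subtype.ext (Subtype.ext e))
  have hoz : orderOf ((z : F) : G ⧸ Q) = 5 := orderOf_eq_prime (hexp _ (z : F).2) hz1
  by_contra hne
  obtain ⟨v, hv, hvz⟩ : ∃ v ∈ F, v ∉ Subgroup.zpowers ((z : F) : G ⧸ Q) := by
    by_contra hno
    push Not at hno
    refine hne (le_antisymm ?_ ?_)
    · rw [← hoz, ← Nat.card_zpowers]; exact Subgroup.card_le_of_le hno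
    · rw [← hoz, ← Nat.card_zpowers]
      exact Subgroup.card_le_of_le (Subgroup.zpowers_le.mpr (z : F).2)
  have hzv : Commute ((z : F) : G ⧸ Q) v :=
    congrArg Subtype.val (Subgroup.mem_center_iff.mp z.2 ⟨v, hv⟩).symm
  set A := Subgroup.closure ({((z : F) : G ⧸ Q), v} : Set (G ⧸ Q)) with hA
  have hAF : A ≤ F := (Subgroup.closure_le _).mpr (by
    rintro a (rfl | rfl); exacts [(z : F).2, hv])
  haveI hAc : IsMulCommutative A := by
    refine Subgroup.isMulCommutative_closure ?_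
    rintro a (rfl | rfl) b (rfl | rfl)
    exacts [rfl, hzv.eq, hzv.eq.symm, rfl]
  have hAcyc : ¬ IsCyclic A := by
    intro hc
    obtain ⟨g, hg⟩ := hc.exists_ofOrder_eq_natCard (α := A)
    have hg5 : Nat.card A ∣ 5 := by
      rw [← hg, ← Subgroup.orderOf_coe]; exact orderOf_dvd_of_pow_eq_one (hexp _ (hAF g.2))
    refine hvz ?_
    have hzA : Subgroup.zpowers ((z : F) : G ⧸ Q) ≤ A :=
      Subgroup.zpowers_le.mpr (Subgroup.subset_closure (Set.mem_insert _ _))
    rw [Subgroup.eq_of_le_of_card_ge hzA (by rw [Nat.card_zpowers, hoz]; exact Nat.le_of_dvd (by norm_num) hg5)]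
    exact Subgroup.subset_closure (Set.mem_insert_of_mem _ rfl)
  -- a Sylow 5-subgroup of the preimage
  set M := A.comap (QuotientGroup.mk' Q) with hM
  obtain ⟨P⟩ : Nonempty (Sylow 5 M) := inferInstance
  set P' := (P : Subgroup M).map M.subtype with hP'
  have hP5 : IsPGroup 5 P' := P.isPGroup'.map _
  have hinj : ∀ a ∈ P', (a : G ⧸ Q) = 1 → a = 1 := by
    intro a ha he
    obtain ⟨i, hi⟩ := hP5 ⟨a, ha⟩
    obtain ⟨j, hj⟩ := hQ ⟨a, (QuotientGroup.eq_one_iff a).mp he⟩
    have e := pow_gcd_eq_one.mpr ⟨congrArg Subtype.val hi, congrArg Subtype.val hj⟩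
    rwa [Nat.Coprime.gcd_eq_one (Nat.Coprime.pow _ _ (by norm_num)), pow_one] at e
  haveI : IsMulCommutative P' := ⟨⟨fun a b => Subtype.ext (by
    have hc : ((a : G) : G ⧸ Q) * (b : G) = (b : G) * (a : G) := by
      have haA : ((a : G) : G ⧸ Q) ∈ A := (Subgroup.map_subtype_le (P : Subgroup M)) a.2
      have hbA : ((b : G) : G ⧸ Q) ∈ A := (Subgroup.map_subtype_le (P : Subgroup M)) b.2
      exact congrArg Subtype.val (hAc.is_comm.comm ⟨_, haA⟩ ⟨_, hbA⟩)
    have e : ((a : G) * b * ((b : G) * a)⁻¹) = 1 := by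
      refine hinj _ (mul_mem (mul_mem a.2 b.2) (inv_mem (mul_mem b.2 a.2))) ?_
      simp only [QuotientGroup.mk_mul, QuotientGroup.mk_inv, hc, mul_inv_cancel]
    exact mul_inv_eq_one.mp e)⟩⟩
  have hPc : Nat.card A ∣ Nat.card P' := by
    obtain ⟨n, hn⟩ := IsPGroup.iff_card.mp (hp.to_le hAF)
    obtain ⟨m, hm⟩ := IsPGroup.iff_card.mp hQ
    have hcop : Nat.Coprime (5 ^ n) (P : Subgroup M).index :=
      Nat.Coprime.pow_left n ((Nat.Prime.coprime_iff_not_dvd (by norm_num)).mpr P.not_dvd_index)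
    rw [hP', Subgroup.card_map_of_injective M.subtype_injective, hn]
    refine hcop.dvd_of_dvd_mul_right ?_
    rw [Subgroup.card_mul_index, hM, CfsgLib.card_comap_mk, hn]
    exact dvd_mul_left _ _
  have hPcyc : ¬ IsCyclic P' := by
    intro hc
    obtain ⟨g, hg⟩ := hc.exists_ofOrder_eq_natCard (α := P')
    have h5g : orderOf (g : G) ∣ 5 := by
      obtain ⟨j, hj⟩ := hP5 g
      exact orderOf_dvd_of_pow_eq_one (h.pow_eq_one (Or.inr rfl) (congrArg Subtype.val hj))
    rw [Subgroup.orderOf_coe, hg] at h5g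
    have hd : Nat.card A ∣ 5 := hPc.trans h5g
    haveI : Fact (Nat.Prime 5) := ⟨by norm_num⟩
    exact hAcyc (isCyclic_of_card_dvd_prime hd)
  have hgen := coprime_generated_by_centralizers (A := P') (K := Q) hPcyc
    (by rw [Subgroup.normalizer_eq_top]; exact le_top)
    (by
      obtain ⟨i, hi⟩ := IsPGroup.iff_card.mp hP5
      obtain ⟨j, hj⟩ := IsPGroup.iff_card.mp hQ
      rw [hi, hj]; exact Nat.Coprime.pow _ _ (by norm_num))
  have hQ1 : Q = ⊥ := by
    rw [← hgen]
    refine le_bot_iff.mp (iSup₂_le fun a ha => ?_)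
    rintro q ⟨hq, hqa⟩
    obtain ⟨j, hj⟩ := hQ ⟨q, hq⟩
    obtain ⟨i, hi⟩ := hP5 ⟨a, ha.1⟩
    have hao : orderOf a = 5 := orderOf_eq_prime (h.pow_eq_one (Or.inr rfl) (congrArg Subtype.val hi)) ha.2
    exact h.five_fixes hao (Subgroup.mem_centralizer_singleton_iff.mp hqa).symm (p := 2) (by norm_num)
      (congrArg Subtype.val hj)
  have htop : (⊤ : Subgroup G) ≤ Q := by
    refine le_trans ?_ hC
    rw [hQ1]
    intro g _ x hx
    rw [Subgroup.coe_bot, Set.mem_singleton_iff] at hx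
    simp [hx]
  refine h5 ((Subgroup.eq_bot_iff_forall _).mpr fun a _ => ?_)
  obtain ⟨y, rfl⟩ := QuotientGroup.mk_surjective a
  exact (QuotientGroup.eq_one_iff y).mpr (htop trivial)

/-- **The shape of a solvable top.** -/
theorem Six.top_shape (h : Six G) {Q : Subgroup G} [Q.Normal] (hQ : IsPGroup 2 Q)
    (hC : Subgroup.centralizer (Q : Set G) ≤ Q) [Group.IsSolvable (G ⧸ Q)]
    (hO : Cfsg.pCore 2 (G ⧸ Q) = ⊥) :
    (Nat.card (Cfsg.pCore 5 (G ⧸ Q)) = 5 ∧ Nat.card (G ⧸ Q) ∣ 10) ∨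
    (¬ 5 ∣ Nat.card (G ⧸ Q) ∧
      Subgroup.centralizer (Cfsg.pCore 3 (G ⧸ Q) : Set (G ⧸ Q)) ≤ Cfsg.pCore 3 (G ⧸ Q)) := by
  classical
  haveI : Fact (Nat.Prime 5) := ⟨by norm_num⟩
  haveI : Fact (Nat.Prime 3) := ⟨Nat.prime_three⟩
  haveI : Fact (Nat.Prime 2) := ⟨Nat.prime_two⟩
  have hK : Six (G ⧸ Q) := h.quotient Q
  by_cases h5 : Cfsg.pCore 5 (G ⧸ Q) = ⊥
  · have hcent := centralizer_core_le hK hO (p := 3) (Or.inl ⟨rfl, h5⟩)
    refine Or.inr ⟨fun hd => ?_, hcent⟩
    obtain ⟨k, hk⟩ := exists_prime_orderOf_dvd_card' (G := G ⧸ Q) 5 hd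
    set R := Cfsg.pCore 3 (G ⧸ Q) with hR
    set Z := (Subgroup.center R).map R.subtype with hZ
    haveI : Z.Normal := by rw [hZ, hR]; infer_instance
    haveI : IsMulCommutative Z := ⟨⟨by
      rintro ⟨_, a, ha, rfl⟩ ⟨_, b, hb, rfl⟩
      refine Subtype.ext ?_
      show R.subtype a * R.subtype b = R.subtype b * R.subtype a
      rw [← map_mul, ← map_mul, Subgroup.mem_center_iff.mp hb a]⟩⟩
    have hR3 : IsPGroup 3 R := isPGroup_pCore _
    have hZ1 : Z = ⊥ := by
      refine h.five_fixes_three hQ hC (fun a ha => ?_) hk (fun a ha => Subgroup.Normal.conj_mem ‹_› a ha k)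
      obtain ⟨b, hb, rfl⟩ := ha
      obtain ⟨j, hj⟩ := hR3 b
      exact hK.pow_eq_one (Or.inl rfl) (congrArg Subtype.val hj)
    have hR1 : R = ⊥ := by
      by_contra hne
      haveI : Nontrivial R := R.nontrivial_iff_ne_bot.mpr hne
      haveI := hR3.center_nontrivial
      rw [hZ, Subgroup.map_eq_bot_iff_of_injective _ R.subtype_injective] at hZ1
      exact (Subgroup.nontrivial_iff_ne_bot _).mp inferInstance hZ1
    have hall : k ∈ R := hcent (by rw [hR1]; intro x hx; rw [Subgroup.coe_bot, Set.mem_singleton_iff] at hx; simp [hx])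
    rw [hR1, Subgroup.mem_bot] at hall
    rw [hall, orderOf_one] at hk
    norm_num at hk
  · left
    have h3 : Cfsg.pCore 3 (G ⧸ Q) = ⊥ := (hK.one_core).resolve_right h5
    have hcent := centralizer_core_le hK hO (p := 5) (Or.inr ⟨rfl, h3⟩)
    have hcard := h.five_core_card hQ hC h5
    refine ⟨hcard, ?_⟩
    set F := Cfsg.pCore 5 (G ⧸ Q) with hF
    haveI : IsCyclic F := isCyclic_of_prime_card hcard
    let φ : G ⧸ Q →* MulAut F := MulAut.conjNormal
    have hker : φ.ker ≤ F := fun b hb => hcent (by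
      intro a ha
      have e : φ b ⟨a, ha⟩ = ⟨a, ha⟩ := by rw [MonoidHom.mem_ker.mp hb]; rfl
      have e' : b * a * b⁻¹ = a := congrArg Subtype.val e
      exact (mul_inv_eq_iff_eq_mul.mp e').symm)
    have haut : Nat.card (MulAut F) = 4 := by
      rw [IsCyclic.card_mulAut, hcard]; decide
    let e2 : F →* F := powMonoidHom 2
    have hbij : Function.Bijective e2 := (powCoprime (G := F) (n := 2) (by rw [hcard]; norm_num)).bijective
    let sq : MulAut F := MulEquiv.ofBijective e2 hbij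
    have hnot : sq ∉ φ.range := by
      rintro ⟨b, hb⟩
      obtain ⟨u, hu⟩ := exists_prime_orderOf_dvd_card' (G := F) 5 (dvd_of_eq hcard.symm)
      have huo : orderOf (u : G ⧸ Q) = 5 := by rw [Subgroup.orderOf_coe, hu]
      have hbu : b * (u : G ⧸ Q) * b⁻¹ = (u : G ⧸ Q) ^ 2 :=
        congrArg Subtype.val (congrArg (fun f : MulAut F => f u) hb)
      have hu5 : (u : G ⧸ Q) ^ 5 = 1 := huo ▸ pow_orderOf_eq_one _
      have hpow : ∀ n : ℕ, b ^ n * (u : G ⧸ Q) * (b ^ n)⁻¹ = (u : G ⧸ Q) ^ 2 ^ n := fun n => by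
        induction n with
        | zero => simp
        | succ n ih =>
          calc b ^ (n + 1) * (u : G ⧸ Q) * (b ^ (n + 1))⁻¹ = b * (b ^ n * (u : G ⧸ Q) * (b ^ n)⁻¹) * b⁻¹ := by
                rw [pow_succ', mul_inv_rev]; simp only [mul_assoc]
            _ = (b * (u : G ⧸ Q) * b⁻¹) ^ 2 ^ n := by rw [ih, conj_pow]
            _ = (u : G ⧸ Q) ^ 2 ^ (n + 1) := by rw [hbu, ← pow_mul, pow_succ']
      have hb20 : (b ^ 5) ^ 4 = 1 := by
        have hc : Commute (u : G ⧸ Q) (b ^ 4) := by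
          have e := hpow 4
          have e2 : (u : G ⧸ Q) ^ (2 : ℕ) ^ 4 = u := by
            rw [show (2 : ℕ) ^ 4 = 5 * 3 + 1 by norm_num, pow_succ, pow_mul, hu5, one_pow, one_mul]
          rw [e2, mul_inv_eq_iff_eq_mul] at e
          exact e.symm
        rw [← pow_mul, show 5 * 4 = 4 * 5 by norm_num, pow_mul]
        exact hK.commute_five huo hc
      obtain ⟨g, hg⟩ := QuotientGroup.mk_surjective (b ^ 5)
      obtain ⟨x, hx⟩ := QuotientGroup.mk_surjective (u : G ⧸ Q)
      obtain ⟨j, hj⟩ := hQ ⟨g ^ 4, by rw [← QuotientGroup.eq_one_iff, QuotientGroup.mk_pow, hg, hb20]⟩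
      refine h.top_five_mod Q hQ ?_ (u := x) (g := g) ?_ ?_ (k := 2 + j) ?_ ?_
      · rintro rfl
        have hct : (⊤ : Subgroup G) ≤ Subgroup.centralizer ((⊥ : Subgroup G) : Set G) := fun y _ z hz => by
          rw [Subgroup.coe_bot, Set.mem_singleton_iff] at hz; simp [hz]
        have : (⊤ : Subgroup G) ≤ ⊥ := hct.trans hC
        have hx1 : x = 1 := Subgroup.mem_bot.mp (this trivial)
        rw [← hx, hx1, QuotientGroup.mk_one, orderOf_one] at huo
        norm_num at huo
      · rw [← QuotientGroup.eq_one_iff, QuotientGroup.mk_pow, hx, hu5]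
      · intro hxQ
        rw [← hx, (QuotientGroup.eq_one_iff x).mpr hxQ, orderOf_one] at huo
        norm_num at huo
      · rw [pow_add, show (2 : ℕ) ^ 2 = 4 by norm_num, pow_mul]; exact congrArg Subtype.val hj
      · rw [← QuotientGroup.eq_one_iff]
        simp only [QuotientGroup.mk_mul, QuotientGroup.mk_inv, QuotientGroup.mk_pow, hx, hg]
        have e := hpow 5
        have e2 : (u : G ⧸ Q) ^ (2 : ℕ) ^ 5 = (u : G ⧸ Q) ^ 2 := by
          rw [show (2 : ℕ) ^ 5 = 5 * 6 + 2 by norm_num, pow_add, pow_mul, hu5, one_pow, one_mul]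
        rw [e2, mul_inv_eq_iff_eq_mul] at e
        rw [inv_mul_eq_one, e]
    have hrange : Nat.card φ.range ∣ 2 := by
      have hd : Nat.card φ.range ∣ 2 ^ 2 := by
        rw [show (2 : ℕ) ^ 2 = 4 by norm_num, ← haut]; exact Subgroup.card_subgroup_dvd_card _
      have hne : Nat.card φ.range ≠ 4 := fun e =>
        hnot ((Subgroup.eq_top_of_card_eq φ.range (e.trans haut.symm)) ▸ Subgroup.mem_top sq)
      obtain ⟨i, hi, he⟩ := (Nat.dvd_prime_pow Nat.prime_two).mp hd
      interval_cases i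
      · rw [he]; norm_num
      · rw [he]; norm_num
      · exact absurd he (by norm_num at hne ⊢; exact hne)
    calc Nat.card (G ⧸ Q) = Nat.card ((G ⧸ Q) ⧸ φ.ker) * Nat.card φ.ker :=
          Subgroup.card_eq_card_quotient_mul_card_subgroup _
      _ = Nat.card φ.range * Nat.card φ.ker := by
          rw [Nat.card_congr (QuotientGroup.quotientKerEquivRange φ).toEquiv]
      _ ∣ 2 * 5 := mul_dvd_mul hrange (hcard ▸ Subgroup.card_dvd_of_le hker)
      _ = 10 := by norm_num

end CfsgLib.SpecSix
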