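import Cfsg.Agent.Lib.SpecSix.Top
import Cfsg.Agent.Lib.SpecSix.Dten
import Cfsg.Agent.Lib.Frobenius.Complement
import Cfsg.Agent.Lib.G2Cent.SL23
import Cfsg.Prelude.Def_Transfer

/-!
Solvable groups with element orders exactly one to six.
-/

set_option autoImplicit false
set_option linter.unusedSectionVars false
set_option linter.style.haveILetI false

namespace CfsgLib.SpecSix

open scoped IsMulCommutative commutatorElement

universe u

/-- An operator of order five and one squaring it, both with vanishing norm, in characteristic three. -/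
theorem five_four_odd {A : Type*} [AddCommGroup A] (μ γ : A →+ A) (h3 : ∀ x : A, x + x + x = 0)
    (h5 : ∀ x : A, μ (μ (μ (μ (μ x)))) = x) (hc : ∀ x : A, γ (μ x) = μ (μ (γ x)))
    (hT : ∀ x : A, x + μ x + μ (μ x) + μ (μ (μ x)) + μ (μ (μ (μ x))) = 0)
    (hN : ∀ x : A, x + γ x + γ (γ x) + γ (γ (γ x)) = 0) (x : A) : x = 0 := by
  have e0 := hN x
  have e1 := congrArg (fun y => μ (μ (μ (μ y)))) (hN (μ x))
  have e2 := congrArg (fun y => μ (μ (μ y))) (hN (μ (μ x)))
  have e3 := congrArg (fun y => μ (μ y)) (hN (μ (μ (μ x))))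
  have e4 := congrArg μ (hN (μ (μ (μ (μ x)))))
  have t1 := hT (γ x)
  have t2 := hT (γ (γ x))
  have t3 := hT (γ (γ (γ x)))
  simp only [map_add, hc, h5, map_zero] at e1 e2 e3 e4
  have h : x + x + x + x + x = 0 := by
    have s : (x + γ x + γ (γ x) + γ (γ (γ x))) + _ + _ + _ + _ = (0 : A) + 0 + 0 + 0 + 0 :=
      congrArg₂ (· + ·) (congrArg₂ (· + ·) (congrArg₂ (· + ·) (congrArg₂ (· + ·) e0 e1) e2) e3) e4
    have s' : _ + _ + _ = (0 : A) + 0 + 0 := congrArg₂ (· + ·) (congrArg₂ (· + ·) t1 t2) t3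
    calc x + x + x + x + x = ((0 : A) + 0 + 0 + 0 + 0) - (0 + 0 + 0) := by rw [← s, ← s']; abel
      _ = 0 := by abel
  have h' : x + x = 0 := by
    calc x + x = (x + x + x) + (x + x) := by rw [h3, zero_add]
      _ = x + x + x + x + x := by abel
      _ = 0 := h
  calc x = (x + x + x) - (x + x) := by abel
    _ = 0 := by rw [h3, h', sub_zero]

variable {G : Type u} [Group G] [Finite G]

theorem pow_of_order {H : Type*} [Monoid H] {g : H} {k : ℕ} (hk : orderOf g = k) : g ^ k = 1 :=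
  hk ▸ pow_orderOf_eq_one g

/-- A preimage of an element of order five has order five. -/
theorem Six.five_lift (h : Six G) {K : Type u} [Group K] (f : G →* K) {g : G} (hg : orderOf (f g) = 5) :
    orderOf g = 5 := by
  obtain ⟨c, hc⟩ := hg ▸ orderOf_map_dvd f g
  have := h g
  have := orderOf_pos g
  rcases c with _ | _ | c <;> omega

/-- An element of order five fixes nothing in a subgroup of order prime to five. -/
theorem Six.five_free (h : Six G) {u a : G} (hu : orderOf u = 5) {H : Subgroup G}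
    (hH : (Nat.card H).Coprime 5) (ha : a ∈ H) (hc : Commute u a) : a = 1 := by
  have h5 := h.commute_five hu hc
  have hd : orderOf a ∣ Nat.card H := by
    have := orderOf_dvd_natCard (⟨a, ha⟩ : H)
    rwa [Subgroup.orderOf_mk] at this
  exact orderOf_eq_one_iff.mp (Nat.eq_one_of_dvd_coprimes hH hd (orderOf_dvd_of_pow_eq_one h5))

/-- A subgroup normalised by an element of order five above it centralises the coprime abelian ones. -/
theorem Six.frob_abelian (h : Six G) (N : Subgroup G) [N.Normal] {P V : Subgroup G} [V.Normal]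
    [IsMulCommutative V] (hPN : P ≤ N) (hVN : V ≤ N) {u : G} (hu : orderOf (u : G ⧸ N) = 5)
    (huP : u ∈ Subgroup.normalizer (P : Set G)) (hcop : (Nat.card P).Coprime (Nat.card V)) :
    P ≤ Subgroup.centralizer (V : Set G) := by
  have hPV : P ≤ Subgroup.normalizer (V : Set G) := by rw [Subgroup.normalizer_eq_top]; exact le_top
  set W := ⁅V, P⁆ with hW
  have hWV : W ≤ V := by
    rw [hW, Subgroup.commutator_le]
    intro v hv a _
    rw [commutatorElement_def, show v * a * v⁻¹ * a⁻¹ = v * (a * v⁻¹ * a⁻¹) by group]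
    exact mul_mem hv (Subgroup.Normal.conj_mem ‹_› _ (inv_mem hv) a)
  haveI : IsMulCommutative W := ⟨⟨fun a b => Subtype.ext (congrArg Subtype.val
    (IsMulCommutative.is_comm.comm (⟨a, hWV a.2⟩ : V) ⟨b, hWV b.2⟩) :)⟩⟩
  have hn : ∀ x : G, x ∈ Subgroup.normalizer (P : Set G) → x ∈ Subgroup.normalizer (W : Set G) := fun x hx => by
    rw [Subgroup.mem_normalizer_iff_map_conj_eq] at hx ⊢
    rw [hW, Subgroup.map_commutator, hx]
    congr 1
    exact Subgroup.mem_normalizer_iff_map_conj_eq.mp (by rw [Subgroup.normalizer_eq_top]; trivial)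
  have hbot : W = ⊥ := by
    refine CfsgLib.Frob.eq_one_of_norm (p := 5) (by norm_num) (S := P) (x := u)
      (fun a ha => hn a (Subgroup.le_normalizer ha)) (hn u huP) huP (fun k hk z hz => ?_)
      (hcop.coprime_dvd_right (Subgroup.card_dvd_of_le hWV)) ?_
    · refine orderOf_dvd_iff_pow_eq_one.mp (dvd_of_eq ?_)
      refine h.five_lift (QuotientGroup.mk' N) ?_
      rw [map_mul, map_mul, QuotientGroup.mk'_apply, QuotientGroup.mk'_apply, QuotientGroup.mk'_apply,
        (QuotientGroup.eq_one_iff z).mpr (hVN (hWV hz)), (QuotientGroup.eq_one_iff k).mpr (hPN hk), one_mul,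
        one_mul, hu]
    · rw [eq_bot_iff, ← CfsgLib.coprime_abelian_disjoint P V hPV hcop]
      exact fun x hx => ⟨⟨hWV hx.1, hx.2⟩, hx.1⟩
  intro a ha
  refine Subgroup.mem_centralizer_iff.mpr fun v hv => ?_
  have := Subgroup.commutator_mem_commutator (H₁ := V) (H₂ := P) hv ha
  rw [← hW, hbot, Subgroup.mem_bot, commutatorElement_eq_one_iff_commute] at this
  exact this

/-- A subgroup normalised by an element of order five above it centralises the coprime primary ones. -/
theorem Six.frob_centralizes (h : Six G) (N : Subgroup G) [N.Normal] {P R : Subgroup G} [R.Normal] {q : ℕ}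
    [Fact q.Prime] (hR : IsPGroup q R) (hPN : P ≤ N) (hRN : R ≤ N) {u : G} (hu : orderOf (u : G ⧸ N) = 5)
    (huP : u ∈ Subgroup.normalizer (P : Set G)) (hcop : (Nat.card P).Coprime q) :
    P ≤ Subgroup.centralizer (R : Set G) := by
  haveI : (frat R).Normal := frat_normal R
  set π := QuotientGroup.mk' (frat R) with hπ
  have hπs : Function.Surjective π := QuotientGroup.mk'_surjective _
  have hfR : frat R ≤ R := Subgroup.map_subtype_le _
  haveI : (R.map π).Normal := Subgroup.Normal.map inferInstance π hπs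
  haveI : (N.map π).Normal := Subgroup.Normal.map inferInstance π hπs
  haveI : IsMulCommutative (R.map π) := by
    refine ⟨⟨?_⟩⟩
    rintro ⟨_, a, ha, rfl⟩ ⟨_, b, hb, rfl⟩
    refine Subtype.ext ?_
    show π a * π b = π b * π a
    rw [← map_mul, ← map_mul]
    refine QuotientGroup.eq.mpr ⟨⟨_, mul_mem (inv_mem (mul_mem ha hb)) (mul_mem hb ha)⟩, ?_, rfl⟩
    have := CfsgLib.commutator_le_frattini_pGroup hR
      (Subgroup.commutator_mem_commutator (Subgroup.mem_top (⟨b, hb⟩ : R)⁻¹) (Subgroup.mem_top (⟨a, ha⟩ : R)⁻¹))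
    exact (congrArg (· ∈ frattini R) (Subtype.ext (by simp [commutatorElement_def, mul_assoc]) :
      (⟨(a * b)⁻¹ * (b * a), mul_mem (inv_mem (mul_mem ha hb)) (mul_mem hb ha)⟩ : R) =
        ⁅(⟨b, hb⟩ : R)⁻¹, (⟨a, ha⟩ : R)⁻¹⁆)).mpr this
  obtain ⟨n, hn⟩ := IsPGroup.iff_card.mp hR
  have hu' : orderOf ((π u : G ⧸ frat R) : (G ⧸ frat R) ⧸ N.map π) = 5 := by
    haveI : Fact (Nat.Prime 5) := ⟨by norm_num⟩
    refine orderOf_eq_prime ?_ fun e => ?_
    · rw [← QuotientGroup.mk_pow, ← map_pow]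
      refine (QuotientGroup.eq_one_iff _).mpr (Subgroup.mem_map_of_mem π ?_)
      rw [← QuotientGroup.eq_one_iff, QuotientGroup.mk_pow, pow_of_order hu]
    · obtain ⟨m, hm, hmu⟩ := (QuotientGroup.eq_one_iff _).mp e
      have huN : u ∈ N := by
        simpa using mul_mem hm (hRN (hfR (QuotientGroup.eq.mp hmu)))
      rw [(QuotientGroup.eq_one_iff u).mpr huN, orderOf_one] at hu
      omega
  have huP' : π u ∈ Subgroup.normalizer (P.map π : Set (G ⧸ frat R)) :=
    Subgroup.le_normalizer_map π (Subgroup.mem_map_of_mem π huP)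
  have hcop' : (Nat.card (P.map π)).Coprime (Nat.card (R.map π)) :=
    ((hcop.pow_right n).coprime_dvd_left (Subgroup.card_map_dvd P π)).coprime_dvd_right
      (hn ▸ Subgroup.card_map_dvd R π)
  have key := (h.quotient (frat R)).frob_abelian (N.map π) (Subgroup.map_mono hPN)
    (Subgroup.map_mono hRN) hu' huP' hcop'
  refine CfsgLib.centralize_of_trivial_mod_frattini (by rw [Subgroup.normalizer_eq_top]; exact le_top) ?_
    fun a ha r hr => (QuotientGroup.eq_one_iff (N := frat R) _).mp ?_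
  · exact (hcop.pow_right n).coprime_dvd_right (hn ▸ Subgroup.card_subgroup_dvd_card _)
  · show π (a * r * a⁻¹ * r⁻¹) = 1
    have e := Subgroup.mem_centralizer_iff.mp (key (Subgroup.mem_map_of_mem π ha)) _ (Subgroup.mem_map_of_mem π hr)
    rw [map_mul, map_mul, map_mul, map_inv, map_inv, ← e]
    group

/-- The cores for two and three of the top of the product of those of the group are trivial. -/
theorem Six.core_bot (h : Six G) {p q : ℕ} (hpq : (p = 2 ∧ q = 3) ∨ (p = 3 ∧ q = 2)) (F : Subgroup G) [F.Normal]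
    (hF : F = Cfsg.pCore p G ⊔ Cfsg.pCore q G) {u : G} (hu : orderOf u = 5) :
    Cfsg.pCore p (G ⧸ F) = ⊥ := by
  haveI : Fact p.Prime := ⟨by rcases hpq with ⟨e, -⟩ | ⟨e, -⟩ <;> subst e <;> norm_num⟩
  haveI : Fact q.Prime := ⟨by rcases hpq with ⟨-, e⟩ | ⟨-, e⟩ <;> subst e <;> norm_num⟩
  have hp5 : Nat.Coprime p 5 := by rcases hpq with ⟨e, -⟩ | ⟨e, -⟩ <;> subst e <;> norm_num
  have hq5 : Nat.Coprime q 5 := by rcases hpq with ⟨-, e⟩ | ⟨-, e⟩ <;> subst e <;> norm_num
  have hqp : Nat.Coprime p q := by rcases hpq with ⟨e, e'⟩ | ⟨e, e'⟩ <;> subst e <;> subst e' <;> norm_num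
  set W := Cfsg.pCore p (G ⧸ F) with hW
  set N := W.comap (QuotientGroup.mk' F) with hN
  have hFN : F ≤ N := fun f hf => by
    show ((f : G) : G ⧸ F) ∈ W
    rw [(QuotientGroup.eq_one_iff f).mpr hf]; exact one_mem W
  have hQF : Cfsg.pCore p G ≤ F := hF ▸ le_sup_left
  have hRF : Cfsg.pCore q G ≤ F := hF ▸ le_sup_right
  obtain ⟨a, ha⟩ := IsPGroup.iff_card.mp (CfsgLib.isPGroup_pCore (G := G) p)
  obtain ⟨b, hb⟩ := IsPGroup.iff_card.mp (CfsgLib.isPGroup_pCore (G := G) q)
  obtain ⟨c, hc⟩ := IsPGroup.iff_card.mp (CfsgLib.isPGroup_pCore (G := G ⧸ F) p)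
  have hN5 : (Nat.card N).Coprime 5 := by
    rw [hN, CfsgLib.card_comap_mk, hc]
    refine Nat.Coprime.mul_left ?_ (hp5.pow_left c)
    refine Nat.Coprime.coprime_dvd_left (hF ▸ CfsgLib.card_sup_dvd_mul _ _) ?_
    rw [ha, hb]
    exact (hp5.pow_left a).mul_left (hq5.pow_left b)
  obtain ⟨S⟩ : Nonempty (Sylow p N) := inferInstance
  set P := (S : Subgroup N).map N.subtype with hP
  have hPN : P ≤ N := Subgroup.map_subtype_le _
  have hQP : Cfsg.pCore p G ≤ P := fun x hx => by
    refine ⟨⟨x, hFN (hQF hx)⟩, CfsgLib.pCore_le_sylow S (CfsgLib.le_pCore (N := (Cfsg.pCore p G).subgroupOf N)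
      ?_ hx), rfl⟩
    exact ((CfsgLib.isPGroup_pCore (G := G) p).comap_of_injective N.subtype N.subtype_injective)
  have hPF : N ≤ P ⊔ F := by
    set H := (P ⊔ F).subgroupOf N with hH
    have h1 : H.index ∣ (S : Subgroup N).index :=
      Subgroup.index_dvd_of_le fun x hx => Subgroup.mem_subgroupOf.mpr
        (Subgroup.mem_sup_left (Subgroup.mem_map_of_mem _ hx))
    have h2 : H.index ∣ p ^ c := by
      have hle : F.subgroupOf N ≤ H := fun x hx => Subgroup.mem_subgroupOf.mpr (Subgroup.mem_sup_right hx)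
      refine (Subgroup.index_dvd_of_le hle).trans (dvd_of_eq ?_)
      have e1 := (F.subgroupOf N).card_mul_index
      rw [Nat.card_congr (Subgroup.subgroupOfEquivOfLe hFN).toEquiv] at e1
      have e2 : Nat.card N = Nat.card F * p ^ c := by rw [hN, CfsgLib.card_comap_mk, hc]
      exact Nat.eq_of_mul_eq_mul_left Nat.card_pos (e1.trans e2)
    have h3 : H.index = 1 := Nat.eq_one_of_dvd_coprimes
      (((Fact.out : p.Prime).coprime_iff_not_dvd.mpr S.not_dvd_index).symm.pow_right c) h1 h2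
    intro x hx
    have := (Subgroup.index_eq_one.mp h3 ▸ Subgroup.mem_top (⟨x, hx⟩ : N) : (⟨x, hx⟩ : N) ∈ H)
    exact Subgroup.mem_subgroupOf.mp this
  -- an element of order five normalising the Sylow subgroup
  obtain ⟨u', hu', m, hm, hum⟩ := Subgroup.mem_sup_of_normal_right.mp
    ((Sylow.normalizer_sup_eq_top S).symm ▸ Subgroup.mem_top u)
  have hou : orderOf (u' : G ⧸ N) = 5 := by
    haveI : Fact (Nat.Prime 5) := ⟨by norm_num⟩
    have e : (u : G ⧸ N) = u' := by
      rw [← hum, QuotientGroup.mk_mul, (QuotientGroup.eq_one_iff m).mpr hm, mul_one]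
    rw [← e]
    refine orderOf_eq_prime ?_ fun e1 => ?_
    · rw [← QuotientGroup.mk_pow, pow_of_order hu]; rfl
    · have h1 : u = 1 := h.five_free hu hN5 ((QuotientGroup.eq_one_iff u).mp e1) (Commute.refl u)
      rw [h1, orderOf_one] at hu
      omega
  obtain ⟨d, hd⟩ := IsPGroup.iff_card.mp (S.isPGroup'.map N.subtype)
  have hcen : P ≤ Subgroup.centralizer (Cfsg.pCore q G : Set G) :=
    h.frob_centralizes N (CfsgLib.isPGroup_pCore q) hPN (hRF.trans hFN) hou hu'
      (by rw [hP, hd]; exact hqp.pow_left d)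
  have hNn : N ≤ Subgroup.normalizer (P : Set G) := by
    refine hPF.trans (sup_le Subgroup.le_normalizer (hF ▸ sup_le (hQP.trans Subgroup.le_normalizer) ?_))
    intro r hr
    refine Subgroup.mem_normalizer_iff.mpr fun x => ⟨fun hx => ?_, fun hx => ?_⟩
    · rw [Subgroup.mem_centralizer_iff.mp (hcen hx) r hr, mul_inv_cancel_right]; exact hx
    · have e := Subgroup.mem_centralizer_iff.mp (hcen hx) r hr
      have e' : x = r * x * r⁻¹ := by
        calc x = r⁻¹ * ((r * x * r⁻¹) * r) := by group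
          _ = r⁻¹ * (r * (r * x * r⁻¹)) := by rw [e]
          _ = r * x * r⁻¹ := by group
      rw [e']; exact hx
  haveI : P.Normal := Subgroup.normalizer_eq_top_iff.mp
    (top_le_iff.mp ((Sylow.normalizer_sup_eq_top S).ge.trans (sup_le le_rfl hNn)))
  have hPQ : P ≤ Cfsg.pCore p G := CfsgLib.le_pCore (S.isPGroup'.map N.subtype)
  refine (Subgroup.eq_bot_iff_forall _).mpr fun x hx => ?_
  obtain ⟨g, rfl⟩ := QuotientGroup.mk_surjective x
  exact (QuotientGroup.eq_one_iff g).mpr (sup_le (hPQ.trans hQF) le_rfl (hPF hx))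

/-- A Sylow subgroup acting fixed point freely has at most one subgroup of prime order. -/
theorem Six.sylow_uniq (h : Six G) {p r : ℕ} [Fact p.Prime] (hr : r.Prime) (hrp : r ≠ p) {V : Subgroup G}
    [V.Normal] [IsMulCommutative V] (hV : V ≠ ⊥) (hV5 : ∀ v ∈ V, v ^ r = 1) (hr5 : r = 5 ∨ p = 5)
    (S : Sylow p G) : CfsgLib.Frob.UniqSub p (S : Subgroup G) := by
  refine CfsgLib.Frob.uniqSub_of_fpf hV (A := (S : Subgroup G)) (by rw [Subgroup.normalizer_eq_top]; exact le_top)
    (fun x hx hx1 => (Subgroup.eq_bot_iff_forall _).mpr fun a ha => ?_) S.isPGroup'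
  by_contra ha1
  haveI := Fact.mk hr
  have hoa : orderOf a = r := orderOf_eq_prime (hV5 a ha.1) ha1
  obtain ⟨k, hk⟩ := S.isPGroup' ⟨x, hx⟩
  have hk' : x ^ p ^ k = 1 := congrArg Subtype.val hk
  have hc : Commute a x := Subgroup.mem_centralizer_singleton_iff.mp ha.2
  obtain ⟨i, -, hi⟩ := (Nat.dvd_prime_pow (Fact.out : p.Prime)).mp (orderOf_dvd_of_pow_eq_one hk')
  have hi0 : i ≠ 0 := fun e => hx1 (orderOf_eq_one_iff.mp (by rw [hi, e, pow_zero]))
  have hb : orderOf (x ^ (orderOf x / p)) = p :=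
    orderOf_pow_orderOf_div (orderOf_pos x).ne' (hi ▸ dvd_pow_self p hi0)
  have hcop : Nat.Coprime r p := (Nat.coprime_primes hr Fact.out).mpr hrp
  refine h.not_commute (hc.pow_right _) hoa hb hcop ?_
  have := hr.two_le
  have := (Fact.out : p.Prime).two_le
  rcases hr5 with e | e <;> subst e <;> nlinarith

/-- Cyclic Sylow subgroups for three and five have prime order. -/
theorem Six.sylow_card (h : Six G) {p : ℕ} [Fact p.Prime] (hp : p = 3 ∨ p = 5) (S : Sylow p G)
    (hS : CfsgLib.Frob.UniqSub p (S : Subgroup G)) : Nat.card (S : Subgroup G) ∣ p := by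
  haveI := CfsgLib.Frob.isCyclic_of_uniq_odd (by omega) S.isPGroup' hS
  obtain ⟨a, ha⟩ := IsCyclic.exists_ofOrder_eq_natCard (α := (S : Subgroup G))
  rw [← ha]
  obtain ⟨k, hk⟩ := S.isPGroup' a
  exact orderOf_dvd_of_pow_eq_one (Subtype.ext (h.pow_eq_one hp (congrArg Subtype.val hk)))

/-- An element of order four, one of order five and one of order three force a normal five-group. -/
theorem Six.five_core_ne_bot (h : Six G) [Group.IsSolvable G] {g u y : G} (hg : orderOf g = 4) (hu : orderOf u = 5)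
    (hy : orderOf y = 3) : Cfsg.pCore 5 G ≠ ⊥ := by
  intro h50
  haveI : Fact (Nat.Prime 2) := ⟨Nat.prime_two⟩
  haveI : Fact (Nat.Prime 3) := ⟨Nat.prime_three⟩
  haveI : Fact (Nat.Prime 5) := ⟨by norm_num⟩
  set Q := Cfsg.pCore 2 G with hQd
  set R := Cfsg.pCore 3 G with hRd
  set F := Q ⊔ R with hFd
  have hQ : IsPGroup 2 Q := CfsgLib.isPGroup_pCore 2
  have hR : IsPGroup 3 R := CfsgLib.isPGroup_pCore 3
  have hQR : ∀ a ∈ Q, ∀ b ∈ R, a * b = b * a := fun a ha b hb =>
    Subgroup.commute_of_normal_of_disjoint Q R inferInstance inferInstance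
      (IsPGroup.disjoint_of_ne 2 3 (by norm_num) _ _ hQ hR) a b ha hb
  have hF5 : (Nat.card F).Coprime 5 := by
    refine Nat.Coprime.coprime_dvd_left (CfsgLib.card_sup_dvd_mul Q R) ?_
    obtain ⟨a, ha⟩ := IsPGroup.iff_card.mp hQ
    obtain ⟨b, hb⟩ := IsPGroup.iff_card.mp hR
    rw [ha, hb]
    exact ((by norm_num : Nat.Coprime 2 5).pow_left a).mul_left ((by norm_num : Nat.Coprime 3 5).pow_left b)
  -- the Sylow five-subgroups have order five
  have hv5 : (Nat.card G).factorization 5 ≤ 1 := by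
    haveI : Nontrivial G := ⟨⟨u, 1, fun e => by rw [e, orderOf_one] at hu; omega⟩⟩
    obtain ⟨A, hAn, -, hA1, hAmin⟩ := CfsgLib.exists_minimal_normal (N := (⊤ : Subgroup G)) top_ne_bot
    haveI := hAn
    obtain ⟨hAc, r, hr, hexp⟩ := CfsgLib.minimal_normal_elementary hA1 inferInstance hAmin
    haveI := hAc
    haveI := Fact.mk hr
    have hr5 : r ≠ 5 := fun e => hA1 (le_bot_iff.mp (h50 ▸ CfsgLib.le_pCore (N := A)
      (fun x => ⟨1, Subtype.ext (by simpa [e] using hexp x x.2)⟩)))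
    obtain ⟨S⟩ : Nonempty (Sylow 5 G) := inferInstance
    have hd := h.sylow_card (Or.inr rfl) S (h.sylow_uniq hr hr5 hA1 hexp (Or.inr rfl) S)
    rw [S.card_eq_multiplicity] at hd
    exact (Nat.pow_dvd_pow_iff_le_right (by norm_num : 1 < 5)).mp (hd.trans (pow_one 5).symm.dvd)
  set ub := (u : G ⧸ F) with hub
  have hub5 : orderOf ub = 5 := orderOf_eq_prime (by rw [hub, ← QuotientGroup.mk_pow, pow_of_order hu]; rfl)
    fun e => by
      rw [h.five_free hu hF5 ((QuotientGroup.eq_one_iff u).mp e) (Commute.refl u), orderOf_one] at hu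
      omega
  have hK : Six (G ⧸ F) := h.quotient F
  obtain ⟨S, hS⟩ := (show IsPGroup 5 (Subgroup.zpowers ub) from
    IsPGroup.of_card (n := 1) (by rw [Nat.card_zpowers, hub5, pow_one])).exists_le_sylow
  have hS' : (S : Subgroup (G ⧸ F)) ≤ Subgroup.zpowers ub := by
    refine (Subgroup.eq_of_le_of_card_ge hS ?_).ge
    rw [Nat.card_zpowers, hub5, S.card_eq_multiplicity]
    refine (Nat.pow_le_pow_right (by norm_num) (le_trans ?_ hv5)).trans (pow_one 5).le
    exact (Nat.factorization_le_iff_dvd Nat.card_pos.ne' Nat.card_pos.ne').mpr (Subgroup.card_quotient_dvd_card F) 5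
  -- the centraliser of the image of `u`
  have hfit : Cfsg.fittingSubgroup (G ⧸ F) ≤ Subgroup.zpowers ub := by
    rw [fittingSubgroup_eq_iSup_pCore]
    refine iSup_le fun p x hx => ?_
    by_cases hx1 : x = 1
    · rw [hx1]; exact one_mem _
    haveI := Fact.mk p.2
    have hdvd : (p : ℕ) ∣ Nat.card (G ⧸ F) := by
      obtain ⟨n, hn⟩ := IsPGroup.iff_card.mp (CfsgLib.isPGroup_pCore (G := G ⧸ F) (p : ℕ))
      rcases n with _ | n
      · rw [pow_zero] at hn
        exact absurd (Subgroup.eq_bot_of_card_eq _ hn ▸ hx) (by simpa using hx1)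
      · exact (Dvd.intro_left _ (hn.trans (pow_succ _ _)).symm).trans (Subgroup.card_subgroup_dvd_card _)
    rcases hK.prime_cases p.2 hdvd with e | e | e <;> rw [e] at hx
    · rw [h.core_bot (q := 3) (Or.inl ⟨rfl, rfl⟩) F hFd hu, Subgroup.mem_bot] at hx; exact absurd hx hx1
    · rw [h.core_bot (q := 2) (Or.inr ⟨rfl, rfl⟩) F (by rw [hFd, sup_comm]) hu, Subgroup.mem_bot] at hx
      exact absurd hx hx1
    · exact hS' (CfsgLib.pCore_le_sylow S hx)
  have hcent : ∀ x : G ⧸ F, Commute x ub → x ∈ Subgroup.zpowers ub := fun x hx =>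
    hfit (centralizer_fitting_le (Subgroup.mem_centralizer_iff.mpr fun y hy => by
      obtain ⟨i, rfl⟩ := Subgroup.mem_zpowers_iff.mp (hfit hy)
      exact (hx.zpow_right i).eq.symm))
  have hconj : ∀ x : G ⧸ F, ∃ i < 5, x * ub * x⁻¹ = ub ^ i := fun x => by
    have h1 : x * ub * x⁻¹ ∈ Cfsg.fittingSubgroup (G ⧸ F) → ∃ i < 5, x * ub * x⁻¹ = ub ^ i := fun hm => by
      obtain ⟨i, hi⟩ := mem_powers_iff_mem_zpowers.mpr (hfit hm)
      exact ⟨i % 5, Nat.mod_lt _ (by norm_num), by rw [← hub5, pow_mod_orderOf]; exact hi.symm⟩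
    refine h1 (Subgroup.Normal.conj_mem inferInstance _ ?_ x)
    have h2 : Cfsg.fittingSubgroup (G ⧸ F) ≠ ⊥ := fun e => by
      have := centralizer_fitting_le (G := G ⧸ F) (show ub ∈ Subgroup.centralizer _ from
        Subgroup.mem_centralizer_iff.mpr fun y hy => by rw [e] at hy; simp_all)
      rw [e, Subgroup.mem_bot] at this
      rw [this, orderOf_one] at hub5
      omega
    obtain ⟨w, hw, hw1⟩ := (Subgroup.ne_bot_iff_exists_ne_one.mp h2 :
      ∃ w : Cfsg.fittingSubgroup (G ⧸ F), w ≠ 1).elim fun w e => (⟨w, w.2, fun e' => e (Subtype.ext e')⟩ :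
        ∃ w, w ∈ Cfsg.fittingSubgroup (G ⧸ F) ∧ w ≠ 1)
    have e5 : Subgroup.zpowers w = Subgroup.zpowers ub := by
      refine Subgroup.eq_of_le_of_card_ge (Subgroup.zpowers_le.mpr (hfit hw)) (le_of_eq ?_)
      have hd : orderOf w ∣ 5 := by
        rw [← hub5, ← Nat.card_zpowers ub]; exact Subgroup.orderOf_dvd_natCard _ (hfit hw)
      rw [Nat.card_zpowers, Nat.card_zpowers, hub5,
        ((Nat.dvd_prime (by norm_num)).mp hd).resolve_left (fun e' => hw1 (orderOf_eq_one_iff.mp e'))]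
    exact Subgroup.zpowers_le.mpr hw (e5 ▸ Subgroup.mem_zpowers ub)
  have hconjpow : ∀ {x : G ⧸ F} {i : ℕ}, x * ub * x⁻¹ = ub ^ i → ∀ n, x ^ n * ub * (x ^ n)⁻¹ = ub ^ i ^ n := by
    intro x i e n
    induction n with
    | zero => simp
    | succ n ih =>
      calc x ^ (n + 1) * ub * (x ^ (n + 1))⁻¹ = x * (x ^ n * ub * (x ^ n)⁻¹) * x⁻¹ := by rw [pow_succ']; group
        _ = (x * ub * x⁻¹) ^ i ^ n := by rw [ih, conj_pow]
        _ = ub ^ i ^ (n + 1) := by rw [e, ← pow_mul, pow_succ']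
  have hexpo : ∀ {i j : ℕ}, ub ^ i = ub ^ j → i % 5 = j % 5 := fun e => by
    have := pow_eq_pow_iff_modEq.mp e
    rwa [hub5] at this
  -- the element of order three lies below
  have hyF : y ∈ F := by
    set x := (y : G ⧸ F) with hx
    have hx3 : x ^ 3 = 1 := by rw [hx, ← QuotientGroup.mk_pow, pow_of_order hy]; rfl
    obtain ⟨i, hi5, hi⟩ := hconj x
    have e := hconjpow hi 3
    rw [hx3, one_mul, inv_one, mul_one] at e
    have e' := hexpo ((pow_one ub).trans e)
    have hi1 : i = 1 := by interval_cases i <;> first | rfl | (norm_num at e')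
    rw [hi1, pow_one, mul_inv_eq_iff_eq_mul] at hi
    have hm := hcent x hi
    have hd : orderOf x ∣ 5 := by
      rw [← hub5, ← Nat.card_zpowers ub]; exact Subgroup.orderOf_dvd_natCard _ hm
    exact (QuotientGroup.eq_one_iff y).mp (orderOf_eq_one_iff.mp
      (Nat.eq_one_of_dvd_coprimes (by norm_num : Nat.Coprime 3 5) (orderOf_dvd_of_pow_eq_one hx3) hd))
  have hR1 : R ≠ ⊥ := fun e => by
    have hd := Subgroup.orderOf_dvd_natCard _ hyF
    rw [hy, hFd, e, sup_bot_eq] at hd
    obtain ⟨a, ha⟩ := IsPGroup.iff_card.mp hQ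
    rw [ha] at hd
    have := (Nat.prime_dvd_prime_iff_eq Nat.prime_three Nat.prime_two).mp (Nat.prime_three.dvd_of_dvd_pow hd)
    omega
  -- the centre of the three-core
  set V := (Subgroup.center R).map R.subtype with hV
  haveI : V.Normal := by rw [hV]; infer_instance
  have hVR : V ≤ R := Subgroup.map_subtype_le _
  have hVc : ∀ v ∈ V, ∀ r ∈ R, v * r = r * v := by
    rintro _ ⟨v, hv, rfl⟩ r hr
    exact (congrArg Subtype.val (Subgroup.mem_center_iff.mp hv ⟨r, hr⟩)).symm
  haveI : IsMulCommutative V := ⟨⟨fun a b => Subtype.ext (hVc a a.2 b (hVR b.2))⟩⟩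
  have hV3 : ∀ v ∈ V, v ^ 3 = 1 := fun v hv => by
    obtain ⟨k, hk⟩ := hR ⟨v, hVR hv⟩
    exact h.pow_eq_one (Or.inl rfl) (congrArg Subtype.val hk)
  obtain ⟨v0, hv0, hv01⟩ : ∃ v ∈ V, v ≠ 1 := by
    haveI : Nontrivial R := R.nontrivial_iff_ne_bot.mpr hR1
    haveI := hR.center_nontrivial
    obtain ⟨⟨z, hz⟩, hz1⟩ := exists_ne (1 : Subgroup.center R)
    exact ⟨z, Subgroup.mem_map_of_mem _ hz, fun e => hz1 (Subtype.ext (Subtype.ext e))⟩
  have hV5 : ∀ {a : G}, a ∈ V → Commute u a → a = 1 := fun {a} ha hc =>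
    h.five_free hu hF5 (hFd ▸ Subgroup.mem_sup_right (hVR ha) : a ∈ F) hc
  have hcQ : ∀ q ∈ Q, q * q = 1 := fun q hq => by
    obtain ⟨k, hk⟩ := hQ ⟨q, hq⟩
    exact h.commute_three (orderOf_eq_prime (hV3 v0 hv0) hv01) (hQR q hq v0 (hVR hv0)).symm
      (congrArg Subtype.val hk)
  set gb := (g : G ⧸ F) with hgb
  obtain ⟨i, hi5, hi⟩ := hconj gb
  have hgb4 : gb ^ 4 = 1 := by rw [hgb, ← QuotientGroup.mk_pow, pow_of_order hg]; rfl
  have hFn : ∀ n ∈ F, ∀ v ∈ V, n * v = v * n := fun n hn v hv => by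
    obtain ⟨q, hq, r, hr, rfl⟩ := Subgroup.mem_sup_of_normal_right.mp hn
    rw [mul_assoc, ← hVc v hv r hr, ← mul_assoc, hQR q hq v (hVR hv), mul_assoc]
  -- an element of order four squaring the element of order five
  have killTwo : ∀ c : G, orderOf c = 4 → (c : G ⧸ F) * ub * (c : G ⧸ F)⁻¹ = ub ^ 2 → False := by
    intro c hc hcu
    have h3 : ∀ a : Additive V, a + a + a = 0 := fun a => Additive.toMul.injective (Subtype.ext (by
      have e := hV3 _ a.toMul.2
      rw [pow_succ, pow_two] at e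
      exact e))
    have cong : ∀ {a b : G}, (a : G ⧸ F) = (b : G ⧸ F) → ∀ x, actAdd V a x = actAdd V b x :=
      fun {a b} e x => actAdd_congr V hFn (QuotientGroup.eq.mp e.symm) x
    have hu5 : u ^ 5 = 1 := pow_of_order hu
    have h5 : ∀ a, actAdd V u (actAdd V u (actAdd V u (actAdd V u (actAdd V u a)))) = a := fun a => by
      simp only [← actAdd_mul]
      rw [show u * (u * (u * (u * u))) = u ^ 5 by simp [pow_succ, mul_assoc], hu5, actAdd_one]
    have hc4 : c ^ 4 = 1 := pow_of_order hc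
    have hcc : ∀ a, actAdd V c (actAdd V c (actAdd V c (actAdd V c a))) = a := fun a => by
      simp only [← actAdd_mul]
      rw [show c * (c * (c * c)) = c ^ 4 by simp [pow_succ, mul_assoc], hc4, actAdd_one]
    have fixed : ∀ (x : G) (w : Additive V), actAdd V x w = w → Commute x (w.toMul : G) := fun x w hw => by
      have e := congrArg (fun b : Additive V => ((b.toMul : V) : G)) hw
      simp only [actAdd_apply] at e
      exact mul_inv_eq_iff_eq_mul.mp e
    refine hv01 (congrArg (fun b : Additive V => ((b.toMul : V) : G))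
      (five_four_odd (actAdd V u) (actAdd V c) h3 h5 (fun a => ?_) (fun a => ?_) (fun a => ?_)
        (Additive.ofMul ⟨v0, hv0⟩)))
    · simp only [← actAdd_mul]
      refine cong ?_ a
      simp only [QuotientGroup.mk_mul]
      rw [← mul_assoc, ← hub, ← pow_two, ← hcu]; group
    · set w := a + actAdd V u a + actAdd V u (actAdd V u a) + actAdd V u (actAdd V u (actAdd V u a)) +
        actAdd V u (actAdd V u (actAdd V u (actAdd V u a))) with hw
      exact Additive.toMul.injective (Subtype.ext (hV5 w.toMul.2 (fixed u w (by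
        rw [hw]; simp only [map_add, h5]; abel))))
    · set w := a + actAdd V c a + actAdd V c (actAdd V c a) + actAdd V c (actAdd V c (actAdd V c a)) with hw
      have hcw := fixed c w (by rw [hw]; simp only [map_add, hcc]; abel)
      by_contra hne
      exact h.not_commute hcw.symm (orderOf_eq_prime (hV3 _ w.toMul.2)
        (fun e => hne (Additive.toMul.injective (Subtype.ext e)))) hc (by norm_num) (by norm_num)
  have e4 := hconjpow hi 4
  rw [hgb4, one_mul, inv_one, mul_one] at e4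
  have e4' := hexpo ((pow_one ub).trans e4)
  have hsmall : ∀ x : G ⧸ F, x ^ 4 = 1 → Commute x ub → x = 1 := fun x h4 hx =>
    orderOf_eq_one_iff.mp (Nat.eq_one_of_dvd_coprimes (by norm_num : Nat.Coprime 4 5)
      (orderOf_dvd_of_pow_eq_one h4)
      (by rw [← hub5, ← Nat.card_zpowers ub]; exact Subgroup.orderOf_dvd_natCard _ (hcent x hx)))
  have hg2ne : g * g ≠ 1 := fun e => by
    have := orderOf_dvd_of_pow_eq_one (by rw [pow_two]; exact e : g ^ 2 = 1)
    rw [hg] at this
    norm_num at this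
  interval_cases i <;> norm_num at e4'
  · -- the element lies below
    rw [pow_one, mul_inv_eq_iff_eq_mul] at hi
    obtain ⟨q, hq, r, hr, hqr⟩ := Subgroup.mem_sup_of_normal_right.mp
      ((QuotientGroup.eq_one_iff g).mp (hsmall gb hgb4 hi))
    have hq2 : q ^ 2 = 1 := by rw [pow_two]; exact hcQ q hq
    have hr3 : r ^ 3 = 1 := by
      obtain ⟨k, hk⟩ := hR ⟨r, hr⟩
      exact h.pow_eq_one (Or.inl rfl) (congrArg Subtype.val hk)
    have h6 : g ^ 6 = 1 := by
      rw [← hqr, Commute.mul_pow (hQR q hq r hr), show 6 = 2 * 3 from rfl, pow_mul, hq2, one_pow, one_mul,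
        mul_comm 2 3, pow_mul, hr3, one_pow]
    have := hg ▸ orderOf_dvd_of_pow_eq_one h6
    norm_num at this
  · exact killTwo g hg hi
  · refine killTwo g⁻¹ (by rw [orderOf_inv, hg]) ?_
    rw [QuotientGroup.mk_inv, inv_inv]
    have e2 : ub = (gb⁻¹ * ub * gb) ^ 3 := by
      calc ub = gb⁻¹ * (gb * ub * gb⁻¹) * gb := by group
        _ = gb⁻¹ * ub ^ 3 * gb⁻¹⁻¹ := by rw [hi, inv_inv]
        _ = (gb⁻¹ * ub * gb⁻¹⁻¹) ^ 3 := by rw [conj_pow]
        _ = _ := by rw [inv_inv]
    have h5w : (gb⁻¹ * ub * gb) ^ 5 = 1 := by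
      have := conj_pow (i := 5) (a := gb⁻¹) (b := ub)
      rw [inv_inv] at this
      rw [this, show ub ^ 5 = 1 from pow_of_order hub5]; group
    calc gb⁻¹ * ub * gb = (gb⁻¹ * ub * gb) ^ 6 := by rw [pow_succ, h5w, one_mul]
      _ = ub ^ 2 := by rw [show 6 = 3 * 2 from rfl, pow_mul, ← e2]
  -- the element inverts
  have hu4 : ub ^ 4 = ub⁻¹ := eq_inv_of_mul_eq_one_left (by rw [← pow_succ]; exact pow_of_order hub5)
  rw [hu4] at hi
  have hg2F : g * g ∈ F := by
    refine (QuotientGroup.eq_one_iff _).mp (hsmall _ ?_ ?_)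
    · rw [← QuotientGroup.mk_pow, ← pow_two, ← pow_mul, show 2 * 4 = 4 * 2 from rfl, pow_mul, pow_of_order hg,
        one_pow]; rfl
    · show ((g * g : G) : G ⧸ F) * ub = ub * ((g * g : G) : G ⧸ F)
      rw [QuotientGroup.mk_mul]
      calc gb * gb * ub = gb * (gb * ub * gb⁻¹) * gb := by group
        _ = gb * ub⁻¹ * gb := by rw [hi]
        _ = (gb * ub * gb⁻¹)⁻¹ * (gb * gb) := by group
        _ = ub * (gb * gb) := by rw [hi, inv_inv]
  have hQ1 : Q ≠ ⊥ := fun e => by
    rw [hFd, e, bot_sup_eq] at hg2F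
    obtain ⟨k, hk⟩ := hR ⟨g * g, hg2F⟩
    have h2 : (g * g) ^ 2 = 1 := by rw [← pow_two, ← pow_mul]; exact pow_of_order hg
    exact hg2ne (orderOf_eq_one_iff.mp (Nat.eq_one_of_dvd_coprimes
      ((by norm_num : Nat.Coprime 2 3).pow_right k) (orderOf_dvd_of_pow_eq_one h2)
      (orderOf_dvd_of_pow_eq_one (congrArg Subtype.val hk))))
  -- an involution inverting `u`
  let f : F → F := fun r => ⟨(r : G) * (u⁻¹ * (r : G)⁻¹ * u), mul_mem r.2 (by
    simpa using Subgroup.Normal.conj_mem (inferInstance : F.Normal) _ (inv_mem r.2) u⁻¹)⟩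
  have hf : Function.Injective f := fun r s e => by
    have e' : (r : G) * (u⁻¹ * (r : G)⁻¹ * u) = s * (u⁻¹ * (s : G)⁻¹ * u) := congrArg Subtype.val e
    have e2 : ((s : G)⁻¹ * r) * u⁻¹ = u⁻¹ * ((s : G)⁻¹ * r) := by
      calc ((s : G)⁻¹ * r) * u⁻¹ = (s : G)⁻¹ * (r * (u⁻¹ * (r : G)⁻¹ * u)) * (u⁻¹ * r) := by group
        _ = u⁻¹ * ((s : G)⁻¹ * r) := by rw [e']; group
    exact Subtype.ext (inv_mul_eq_one.mp (h.five_free hu hF5 (mul_mem (inv_mem s.2) r.2)
      (Commute.inv_left_iff.mp (e2.symm : Commute u⁻¹ _)))).symm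
  have hq0 : g * u * g⁻¹ * u ∈ F := by
    refine (QuotientGroup.eq_one_iff _).mp ?_
    simp only [QuotientGroup.mk_mul, QuotientGroup.mk_inv]
    rw [← hgb, ← hub, hi, inv_mul_cancel]
  obtain ⟨r, hr⟩ := (Finite.injective_iff_surjective.mp hf) ⟨_, hq0⟩
  have hr' : (r : G) * (u⁻¹ * (r : G)⁻¹ * u) = g * u * g⁻¹ * u := congrArg Subtype.val hr
  set t1 := (r : G)⁻¹ * g with ht1
  have h1 : t1 * u * t1⁻¹ = u⁻¹ := by
    calc t1 * u * t1⁻¹ = (r : G)⁻¹ * ((g * u * g⁻¹ * u) * u⁻¹) * r := by rw [ht1]; group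
      _ = u⁻¹ := by rw [← hr']; group
  have hc2 : Commute u (t1 * t1) := by
    show u * (t1 * t1) = t1 * t1 * u
    calc u * (t1 * t1) = (t1 * u * t1⁻¹)⁻¹ * (t1 * t1) := by rw [h1, inv_inv]
      _ = t1 * u⁻¹ * t1 := by group
      _ = t1 * (t1 * u * t1⁻¹) * t1 := by rw [h1]
      _ = t1 * t1 * u := by group
  have h10 : (t1 * t1) ^ 5 = 1 := h.commute_five hu hc2
  set t := t1 ^ 5 with ht
  have ht2 : t * t = 1 := by
    rw [ht, ← pow_add, show 5 + 5 = 2 * 5 from rfl, pow_mul, pow_two, h10]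
  have htu : t * u * t⁻¹ = u⁻¹ := by
    have hc4 : Commute u (t1 ^ 4) := by
      rw [show 4 = 2 * 2 from rfl, pow_mul, pow_two t1]; exact hc2.pow_right 2
    calc t * u * t⁻¹ = t1 * (t1 ^ 4 * u * (t1 ^ 4)⁻¹) * t1⁻¹ := by rw [ht, pow_succ' t1 4, mul_inv_rev]; group
      _ = u⁻¹ := by rw [← hc4.eq, mul_inv_cancel_right, h1]
  obtain ⟨hcard, hsurj, -⟩ := h.dten_module Q hcQ hu ht2 htu
  obtain ⟨z, hz, hz1⟩ : ∃ z ∈ Q ⊓ Subgroup.centralizer {t}, z ≠ 1 := by
    by_contra hno
    push_neg at hno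
    rw [(Subgroup.eq_bot_iff_forall _).mpr hno, Subgroup.card_bot, one_pow] at hcard
    exact hQ1 (Subgroup.eq_bot_of_card_eq _ hcard.symm)
  obtain ⟨q, hq, hzq⟩ := hsurj z hz.1
    (mul_inv_eq_iff_eq_mul.mpr (Subgroup.mem_centralizer_singleton_iff.mp hz.2).symm)
  obtain ⟨a, ha, ha1⟩ : ∃ a ∈ V, a * (t * a * t⁻¹) ≠ 1 := by
    by_contra hno
    push_neg at hno
    have hinv : ∀ a ∈ V, t * a * t⁻¹ = a⁻¹ := fun a ha => (inv_eq_of_mul_eq_one_right (hno a ha)).symm
    have hu2 : u * t * u⁻¹ = u * u * t := by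
      have e : t * u⁻¹ = u * t := by
        calc t * u⁻¹ = (t * u * t⁻¹)⁻¹ * t := by group
          _ = u * t := by rw [htu, inv_inv]
      calc u * t * u⁻¹ = u * (t * u⁻¹) := by group
        _ = u * u * t := by rw [e]; group
    have e1 : u * u * (t * v0 * t⁻¹) * (u * u)⁻¹ = v0⁻¹ := by
      calc u * u * (t * v0 * t⁻¹) * (u * u)⁻¹ = (u * u * t) * v0 * (u * u * t)⁻¹ := by group
        _ = u * (t * (u⁻¹ * v0 * u) * t⁻¹) * u⁻¹ := by rw [← hu2]; group
        _ = u * (u⁻¹ * v0 * u)⁻¹ * u⁻¹ := by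
          rw [hinv _ (by simpa using Subgroup.Normal.conj_mem (inferInstance : V.Normal) v0 hv0 u⁻¹)]
        _ = v0⁻¹ := by group
    rw [hinv v0 hv0, mul_inv_eq_iff_eq_mul] at e1
    have hu25 : orderOf (u * u) = 5 := by
      rw [← pow_two, Nat.Coprime.orderOf_pow (by rw [hu]; norm_num), hu]
    exact hv01 (inv_eq_one.mp (h.five_free hu25 hF5
      (inv_mem (hFd ▸ Subgroup.mem_sup_right (hVR hv0) : v0 ∈ F)) e1))
  set b := a * (t * a * t⁻¹) with hb
  have hta : t * a * t⁻¹ ∈ V := Subgroup.Normal.conj_mem ‹_› a ha t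
  have hbV : b ∈ V := mul_mem ha hta
  have htb : Commute b t := by
    have e : t * b * t⁻¹ = b := by
      calc t * b * t⁻¹ = (t * a * t⁻¹) * ((t * t) * a * (t * t)⁻¹) := by rw [hb]; group
        _ = (t * a * t⁻¹) * a := by rw [ht2]; group
        _ = b := (hVc a ha _ (hVR hta)).symm
    exact (mul_inv_eq_iff_eq_mul.mp e).symm
  have hbq : Commute b q := (hQR q hq b (hVR hbV)).symm
  have htq2 : (t * q) ^ 2 = z := by
    rw [hzq, pow_two]
    calc t * q * (t * q) = (t * q * t⁻¹) * ((t * t) * q) := by group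
      _ = (t * q * t⁻¹) * q := by rw [ht2, one_mul]
  have htq4 : orderOf (t * q) = 4 := orderOf_eq_prime_pow (p := 2) (n := 1) (by rw [pow_one, htq2]; exact hz1)
    (by rw [show 2 ^ (1 + 1) = 2 * 2 from rfl, pow_mul, htq2, pow_two]; exact hcQ z hz.1)
  exact h.not_commute (htb.mul_right hbq) (orderOf_eq_prime (hV3 b hbV) ha1) htq4 (by norm_num) (by norm_num)

/-- A group of order twelve or twenty-four with one involution and no larger element orders. -/
theorem Six.one_involution (h : Six G) [Group.IsSolvable G]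
    (huniq : ∀ s t : G, orderOf s = 2 → orderOf t = 2 → s = t) (hcard : Nat.card G = 12 ∨ Nat.card G = 24)
    {c d : G} (hc : orderOf c = 6) (hd : orderOf d = 4) :
    Nonempty (G ≃* QuaternionGroup 3) ∨ Nonempty (G ≃* Matrix.SpecialLinearGroup (Fin 2) (ZMod 3)) := by
  haveI : Fact (Nat.Prime 2) := ⟨Nat.prime_two⟩
  haveI : Fact (Nat.Prime 3) := ⟨Nat.prime_three⟩
  rcases hcard with h12 | h24
  · left
    set A := Subgroup.zpowers c with hA
    have hAc : Nat.card A = 6 := by rw [hA, Nat.card_zpowers, hc]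
    have hi : A.index = 2 := by
      have := A.card_mul_index
      rw [hAc, h12] at this
      omega
    haveI : A.Normal := Subgroup.normal_of_index_eq_two hi
    have hdA : d ∉ A := fun hm => by
      have := Subgroup.orderOf_dvd_natCard A hm
      rw [hd, hAc] at this
      norm_num at this
    obtain ⟨j, hj⟩ := mem_powers_iff_mem_zpowers.mpr (Subgroup.Normal.conj_mem ‹_› c (Subgroup.mem_zpowers c) d)
    simp only at hj
    rw [← pow_mod_orderOf, hc] at hj
    have hlt : j % 6 < 6 := Nat.mod_lt _ (by norm_num)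
    have hconj : d * c * d⁻¹ = c⁻¹ := by
      have ho : orderOf (c ^ (j % 6)) = 6 := by
        rw [hj, show d * c * d⁻¹ = MulAut.conj d c from rfl, MulEquiv.orderOf_eq, hc]
      rw [orderOf_pow, hc] at ho
      interval_cases hjj : j % 6
      all_goals first | (exfalso; norm_num at ho; done) | skip
      · exfalso
        rw [pow_one] at hj
        have hcd : Commute c d := (mul_inv_eq_iff_eq_mul.mp hj.symm).symm
        exact h.not_commute (hcd.pow_left 2) (show orderOf (c ^ 2) = 3 by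
          rw [orderOf_pow, hc]; rfl) hd (by norm_num) (by norm_num)
      · rw [← hj]
        exact eq_inv_of_mul_eq_one_left (by rw [← pow_succ]; exact pow_of_order hc)
    refine CfsgLib.Frob.quaternion_iso (by norm_num : 0 < 3) c d (by rw [hc]) ?_ hconj hdA fun g => ?_
    · exact huniq _ _ (by rw [orderOf_pow, hd]; rfl) (by rw [orderOf_pow, hc]; rfl)
    · by_cases hg : g ∈ A
      · exact Or.inl hg
      · refine Or.inr ((Subgroup.mul_mem_iff_of_index_two hi).mpr ⟨fun hm => ?_, fun hm => absurd hm hg⟩)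
        exact absurd (by simpa using inv_mem hm) hdA
  right
  set Q := Cfsg.pCore 2 G with hQd
  have hQ : IsPGroup 2 Q := CfsgLib.isPGroup_pCore 2
  have hO : Cfsg.pPrimeCore 2 G = ⊥ := by
    by_contra hne
    set M := Cfsg.pPrimeCore 2 G with hM
    have hMc := CfsgLib.card_pPrimeCore_coprime (G := G) 2
    rw [← hM] at hMc
    have hd24 : Nat.card M ∣ 24 := h24 ▸ Subgroup.card_subgroup_dvd_card M
    have hd3 : Nat.card M ∣ 3 := (hMc.pow_right 3).dvd_of_dvd_mul_left (show Nat.card M ∣ 2 ^ 3 * 3 by simpa)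
    have hM3 : Nat.card M = 3 := ((Nat.dvd_prime Nat.prime_three).mp hd3).resolve_left
      (fun e => hne (Subgroup.eq_bot_of_card_eq _ e))
    obtain ⟨m, hm⟩ := exists_prime_orderOf_dvd_card' (G := M) 3 hM3.symm.dvd
    rw [← Subgroup.orderOf_coe] at hm
    set C := Subgroup.centralizer ({(m : G)} : Set G) with hC
    -- the centraliser has index at most two
    have hconj : ∀ x : G, x * m * x⁻¹ = m ∨ x * m * x⁻¹ = (m : G)⁻¹ := fun x => by
      have hMz : Subgroup.zpowers (m : G) = M :=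
        Subgroup.eq_of_le_of_card_ge (Subgroup.zpowers_le.mpr m.2) (by rw [Nat.card_zpowers, hm, hM3])
      have hmem : x * m * x⁻¹ ∈ Subgroup.zpowers (m : G) :=
        hMz.symm ▸ Subgroup.Normal.conj_mem (inferInstance : M.Normal) _ m.2 x
      obtain ⟨j, hj⟩ := mem_powers_iff_mem_zpowers.mpr hmem
      simp only at hj
      rw [← pow_mod_orderOf, hm] at hj
      have hne' : x * m * x⁻¹ ≠ 1 := fun e => by
        rw [conj_eq_one_iff] at e
        rw [e, orderOf_one] at hm
        omega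
      have := Nat.mod_lt j (show 0 < 3 by norm_num)
      interval_cases hjj : j % 3
      · exact absurd (hj.symm.trans (pow_zero _)) hne'
      · exact Or.inl (hj.symm.trans (pow_one _))
      · refine Or.inr (hj.symm.trans (eq_inv_of_mul_eq_one_left ?_))
        rw [← pow_succ]; exact pow_of_order hm
    have hCi : C.index ≤ 2 := by
      classical
      rw [Subgroup.index_eq_card]
      refine le_trans (Nat.card_le_card_of_injective
        (fun q : G ⧸ C => decide (q.out * m * q.out⁻¹ = (m : G))) fun q q' e => ?_) (by simp)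
      rw [← q.out_eq, ← q'.out_eq]
      refine QuotientGroup.eq.mpr (Subgroup.mem_centralizer_singleton_iff.mpr ?_)
      have hee : q.out * m * q.out⁻¹ = q'.out * m * q'.out⁻¹ := by
        rcases hconj q.out with a | a <;> rcases hconj q'.out with b | b
        · rw [a, b]
        · rw [a]; exact ((decide_eq_decide.mp e).mp a).symm
        · rw [b]; exact (decide_eq_decide.mp e).mpr b
        · rw [a, b]
      calc q.out⁻¹ * q'.out * m = q.out⁻¹ * (q'.out * m * q'.out⁻¹) * q'.out := by group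
        _ = q.out⁻¹ * (q.out * m * q.out⁻¹) * q'.out := by rw [hee]
        _ = m * (q.out⁻¹ * q'.out) := by group
    have h4 : 2 ^ 2 ∣ Nat.card C := by
      have e := C.card_mul_index
      have hpos : 0 < C.index := Nat.pos_of_ne_zero Subgroup.index_ne_zero_of_finite
      rw [h24] at e
      interval_cases C.index <;> omega
    obtain ⟨T, hT⟩ := Sylow.exists_subgroup_card_pow_prime 2 h4
    have hT2 : IsPGroup 2 T := IsPGroup.of_card (n := 2) hT
    obtain ⟨x, hx1, hxne⟩ : ∃ x : T, x ≠ 1 ∧ orderOf x ≠ 2 := by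
      by_contra hno
      push_neg at hno
      haveI : Subsingleton {x : T // x ≠ 1} := ⟨fun a b => Subtype.ext (Subtype.ext (Subtype.ext (huniq _ _
        (by rw [Subgroup.orderOf_coe, Subgroup.orderOf_coe]; exact hno _ a.2)
        (by rw [Subgroup.orderOf_coe, Subgroup.orderOf_coe]; exact hno _ b.2))))⟩
      haveI := Fintype.ofFinite T
      classical
      have h1 : Fintype.card {x : T // x ≠ 1} ≤ 1 := Fintype.card_le_one_iff_subsingleton.mpr inferInstance
      rw [Fintype.card_subtype_compl, Fintype.card_subtype_eq, ← Nat.card_eq_fintype_card, hT] at h1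
      norm_num at h1
    obtain ⟨k, hk⟩ := hT2 x
    have hsq := h.commute_three hm (Subgroup.mem_centralizer_singleton_iff.mp (x : C).2).symm
      (congrArg (fun y : T => ((y : C) : G)) hk)
    exact hxne (orderOf_eq_prime (by rw [pow_two]; exact Subtype.ext (Subtype.ext hsq)) hx1)
  have hCQ : Subgroup.centralizer (Q : Set G) ≤ Q := CfsgLib.centralizer_pCore_le Nat.prime_two hO
  have hu : CfsgLib.Frob.UniqSub 2 Q := by
    intro H H' hH hH'
    obtain ⟨a, ha⟩ := exists_prime_orderOf_dvd_card' (G := H) 2 hH.symm.dvd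
    obtain ⟨b, hb⟩ := exists_prime_orderOf_dvd_card' (G := H') 2 hH'.symm.dvd
    rw [← Subgroup.orderOf_coe] at ha hb
    have e : ((a : Q) : G) = ((b : Q) : G) :=
      huniq _ _ (by rw [Subgroup.orderOf_coe, ha]) (by rw [Subgroup.orderOf_coe, hb])
    have key : ∀ (L : Subgroup Q) (x : L), orderOf (x : Q) = 2 → Nat.card L = 2 → L = Subgroup.zpowers (x : Q) :=
      fun L x hx hL => (Subgroup.eq_of_le_of_card_ge (Subgroup.zpowers_le.mpr x.2)
        (by rw [Nat.card_zpowers, hx, hL])).symm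
    rw [key H a ha hH, key H' b hb hH', Subtype.ext e]
  have hc2 : orderOf (c ^ 2) = 3 := by rw [orderOf_pow, hc]; rfl
  obtain ⟨e, he⟩ : ∃ e : G, orderOf e = 3 := ⟨_, hc2⟩
  have he3 : ∀ k : ℕ, e ^ 2 ^ k ≠ 1 := fun k hk => by
    have hd := he ▸ orderOf_dvd_of_pow_eq_one hk
    exact absurd ((Nat.prime_dvd_prime_iff_eq Nat.prime_three Nat.prime_two).mp
      (Nat.prime_three.dvd_of_dvd_pow hd)) (by norm_num)
  have hnc : ¬ IsCyclic Q := fun hcyc => by
    obtain ⟨a, ha⟩ := hcyc.exists_generator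
    have ha4 : (a : G) ^ 4 = 1 := h.pgroup_pow_four hQ a.2
    have hcase : e * a * e⁻¹ = a ∨ e * a * e⁻¹ = (a : G)⁻¹ := by
      obtain ⟨j, hj⟩ := mem_powers_iff_mem_zpowers.mpr (ha ⟨e * a * e⁻¹, Subgroup.Normal.conj_mem inferInstance _ a.2 e⟩)
      have hj' : (a : G) ^ j = e * a * e⁻¹ := congrArg Subtype.val hj
      obtain ⟨m, r, hr, rfl⟩ : ∃ m r : ℕ, r < 4 ∧ j = 4 * m + r :=
        ⟨j / 4, j % 4, Nat.mod_lt _ (by norm_num), (Nat.div_add_mod j 4).symm⟩
      rw [pow_add, pow_mul, ha4, one_pow, one_mul] at hj'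
      have hoj : orderOf ((a : G) ^ r) = orderOf (a : G) := by
        rw [hj']; exact MulEquiv.orderOf_eq (MulAut.conj e) (a : G)
      interval_cases r
      · rw [pow_zero] at hj'
        left
        rw [eq_comm, conj_eq_one_iff] at hj'
        rw [hj']; group
      · exact Or.inl (hj'.symm.trans (pow_one _))
      · left
        have h2 : (a : G) ^ 2 = 1 := by
          have e8 : ((a : G) ^ 2) ^ 2 = 1 := by rw [← pow_mul]; exact ha4
          exact orderOf_dvd_iff_pow_eq_one.mp (hoj ▸ orderOf_dvd_of_pow_eq_one e8)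
        rw [h2, eq_comm, conj_eq_one_iff] at hj'
        rw [hj']; group
      · exact Or.inr (hj'.symm.trans (eq_inv_of_mul_eq_one_left (by rw [← pow_succ, ha4])))
    have hfix : e * a = a * e := by
      rcases hcase with e1 | e1
      · exact mul_inv_eq_iff_eq_mul.mp e1
      · have e4 : e ^ 2 * a * (e ^ 2)⁻¹ = a := by
          calc e ^ 2 * a * (e ^ 2)⁻¹ = e * (e * a * e⁻¹) * e⁻¹ := by rw [pow_two]; group
            _ = e * (a : G)⁻¹ * e⁻¹ := by rw [e1]
            _ = (e * a * e⁻¹)⁻¹ := by group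
            _ = a := by rw [e1, inv_inv]
        have hcc : Commute (e ^ 2) (a : G) := mul_inv_eq_iff_eq_mul.mp e4
        have := hcc.pow_left 2
        rw [← pow_mul, show 2 * 2 = 3 + 1 from rfl, pow_succ, pow_of_order he,
          one_mul] at this
        exact this.eq
    have hm : e ∈ Q := hCQ (Subgroup.mem_centralizer_iff.mpr fun x hx => by
      obtain ⟨j, hj⟩ := Subgroup.mem_zpowers_iff.mp (ha ⟨x, hx⟩)
      rw [show x = (a : G) ^ j from (congrArg Subtype.val hj).symm]
      exact ((Commute.zpow_left (show Commute (a : G) e from hfix.symm) j)).eq)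
    obtain ⟨k, hk⟩ := hQ ⟨e, hm⟩
    exact he3 k (congrArg Subtype.val hk)
  obtain ⟨n, ⟨i⟩⟩ := (CfsgLib.Frob.cyclic_or_quaternion_two hQ hu).resolve_left hnc
  have hn : n ≤ 1 := by
    have h1 := h ((i.symm (QuaternionGroup.a 1) : Q) : G)
    rw [Subgroup.orderOf_coe, MulEquiv.orderOf_eq, QuaternionGroup.orderOf_a_one] at h1
    by_contra hlt
    have := Nat.pow_le_pow_right (show 0 < 2 by norm_num) (show 2 ≤ n by omega)
    omega
  have hQc : Nat.card Q = 4 * 2 ^ n := by
    rw [Nat.card_congr i.toEquiv, Nat.card_eq_fintype_card, QuaternionGroup.card]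
  have hidx := Q.card_mul_index
  rw [hQc, h24] at hidx
  have hQ8 : n = 1 := by
    by_contra hn1
    obtain rfl : n = 0 := by omega
    refine hnc (isCyclic_of_orderOf_eq_card (i.symm (QuaternionGroup.xa 0)) ?_)
    rw [MulEquiv.orderOf_eq, QuaternionGroup.orderOf_xa, hQc]
    norm_num
  subst hQ8
  refine (CfsgLib.G2Cent.sl23_general Q (i.trans (MulEquiv.refl _)) ?_ ?_ hCQ).2.1
  · omega
  · intro e'
    rw [e', Subgroup.index_top] at hidx
    omega

/-- The solvable groups with element orders exactly one to six. -/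
theorem solvable_case [Group.IsSolvable G] (h : Set.range (orderOf : G → ℕ) = {k : ℕ | 1 ≤ k ∧ k ≤ 6}) :
    ∃ (N : Subgroup G) (_ : N.Normal), Cfsg.IsElementaryAbelian 5 N ∧
      (Nonempty (G ⧸ N ≃* QuaternionGroup 3) ∨
        Nonempty (G ⧸ N ≃* Matrix.SpecialLinearGroup (Fin 2) (ZMod 3))) := by
  haveI : Fact (Nat.Prime 2) := ⟨Nat.prime_two⟩
  haveI : Fact (Nat.Prime 3) := ⟨Nat.prime_three⟩
  haveI : Fact (Nat.Prime 5) := ⟨by norm_num⟩
  have h6 : Six G := fun g => ((h ▸ Set.mem_range_self g : orderOf g ∈ {k : ℕ | 1 ≤ k ∧ k ≤ 6})).2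
  have ex : ∀ k, 1 ≤ k → k ≤ 6 → ∃ g : G, orderOf g = k := fun k h1 h2 => by
    have : k ∈ Set.range (orderOf : G → ℕ) := h ▸ (⟨h1, h2⟩ : k ∈ {k : ℕ | 1 ≤ k ∧ k ≤ 6})
    exact this
  obtain ⟨d0, hd0⟩ := ex 4 (by norm_num) (by norm_num)
  obtain ⟨c0, hc0⟩ := ex 6 (by norm_num) (by norm_num)
  obtain ⟨u0, hu0⟩ := ex 5 (by norm_num) (by norm_num)
  obtain ⟨y0, hy0⟩ := ex 3 (by norm_num) (by norm_num)
  obtain ⟨t0, ht0⟩ := ex 2 (by norm_num) (by norm_num)
  have hne := h6.five_core_ne_bot hd0 hu0 hy0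
  set P := Cfsg.pCore 5 G with hPd
  have hP : IsPGroup 5 P := CfsgLib.isPGroup_pCore 5
  have h5 : ∀ a ∈ P, a ^ 5 = 1 := fun a ha => by
    obtain ⟨k, hk⟩ := hP ⟨a, ha⟩
    exact h6.pow_eq_one (Or.inr rfl) (congrArg Subtype.val hk)
  have inverts : ∀ t : G, orderOf t = 2 → ∀ a ∈ P, t * a * t⁻¹ = a⁻¹ := fun t ht => by
    have ht2 : t * t = 1 := by rw [← pow_two]; exact pow_of_order ht
    let f : P → P := fun r => ⟨(r : G)⁻¹ * (t * r * t⁻¹),
      mul_mem (inv_mem r.2) (Subgroup.Normal.conj_mem inferInstance _ r.2 t)⟩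
    have hf : Function.Injective f := fun r s e => by
      have e' : (r : G)⁻¹ * (t * r * t⁻¹) = (s : G)⁻¹ * (t * s * t⁻¹) := congrArg Subtype.val e
      have hc : Commute ((s : G) * (r : G)⁻¹) t := by
        show s * (r : G)⁻¹ * t = t * (s * (r : G)⁻¹)
        calc (s : G) * (r : G)⁻¹ * t = s * ((r : G)⁻¹ * (t * r * t⁻¹)) * (t * (r : G)⁻¹) := by group
          _ = s * ((s : G)⁻¹ * (t * s * t⁻¹)) * (t * (r : G)⁻¹) := by rw [e']
          _ = t * (s * (r : G)⁻¹) := by group
      by_contra hrs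
      exact h6.not_commute hc (orderOf_eq_prime (h5 _ (mul_mem s.2 (inv_mem r.2)))
        (fun e1 => hrs (Subtype.ext (mul_inv_eq_one.mp e1).symm))) ht (by norm_num) (by norm_num)
    intro a ha
    obtain ⟨r, hr⟩ := (Finite.injective_iff_surjective.mp hf) ⟨a, ha⟩
    have hr' : (r : G)⁻¹ * (t * r * t⁻¹) = a := congrArg Subtype.val hr
    rw [← hr']
    calc t * ((r : G)⁻¹ * (t * r * t⁻¹)) * t⁻¹ = (t * (r : G)⁻¹ * t⁻¹) * ((t * t) * r * (t * t)⁻¹) := by group
      _ = ((r : G)⁻¹ * (t * r * t⁻¹))⁻¹ := by rw [ht2]; group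
  have hab : ∀ a ∈ P, ∀ b ∈ P, a * b = b * a := fun a ha b hb => by
    have e := inverts t0 ht0 _ (mul_mem ha hb)
    rw [← conj_mul, inverts t0 ht0 a ha, inverts t0 ht0 b hb, mul_inv_rev] at e
    calc a * b = (b⁻¹ * a⁻¹)⁻¹ := by group
      _ = (a⁻¹ * b⁻¹)⁻¹ := by rw [← e]
      _ = b * a := by group
  haveI : IsMulCommutative P := ⟨⟨fun a b => Subtype.ext (hab a a.2 b b.2)⟩⟩
  refine ⟨P, inferInstance, ⟨inferInstance, h5⟩, ?_⟩
  obtain ⟨a0, ha0, ha01⟩ : ∃ a ∈ P, a ≠ 1 := by
    obtain ⟨⟨a, ha⟩, h1⟩ := Subgroup.ne_bot_iff_exists_ne_one.mp hne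
    exact ⟨a, ha, fun e => h1 (Subtype.ext e)⟩
  have hC : Subgroup.centralizer (P : Set G) ≤ P := CfsgLib.le_pCore (fun x => ⟨1, Subtype.ext (by
    rw [pow_one, SubmonoidClass.coe_pow, OneMemClass.coe_one]
    exact h6.commute_five (orderOf_eq_prime (h5 a0 ha0) ha01) (Subgroup.mem_centralizer_iff.mp x.2 a0 ha0))⟩)
  have hK : Six (G ⧸ P) := h6.quotient P
  obtain ⟨pn, hpn⟩ := IsPGroup.iff_card.mp hP
  -- the order of an element outside is not changed
  have hord : ∀ g : G, orderOf g ≠ 5 → orderOf (g : G ⧸ P) = orderOf g := fun g hg => by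
    refine Nat.dvd_antisymm (orderOf_map_dvd (QuotientGroup.mk' P) g) ?_
    set k := orderOf (g : G ⧸ P) with hk
    have hm : g ^ k ∈ P := by
      rw [← QuotientGroup.eq_one_iff, QuotientGroup.mk_pow, hk, pow_orderOf_eq_one]
    have h1 : orderOf g ∣ k * 5 := orderOf_dvd_of_pow_eq_one (by rw [pow_mul, h5 _ hm])
    have hc5 : (orderOf g).Coprime 5 := by
      have := h6 g
      have := orderOf_pos g
      interval_cases orderOf g <;> first | (exfalso; omega) | norm_num
    exact hc5.dvd_of_dvd_mul_right h1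
  have lift2 : ∀ s : G ⧸ P, orderOf s = 2 → ∃ g : G, (g : G ⧸ P) = s ∧ orderOf g = 2 := fun s hs => by
    obtain ⟨g, rfl⟩ := QuotientGroup.mk_surjective s
    refine ⟨g, rfl, ?_⟩
    rw [← hord g (fun e => ?_), hs]
    have := hs ▸ orderOf_map_dvd (QuotientGroup.mk' P) g
    rw [e] at this
    norm_num at this
  have huniq : ∀ s t : G ⧸ P, orderOf s = 2 → orderOf t = 2 → s = t := fun s t hs ht => by
    obtain ⟨g, rfl, hg⟩ := lift2 s hs
    obtain ⟨g', rfl, hg'⟩ := lift2 t ht
    refine QuotientGroup.eq.mpr (hC (Subgroup.mem_centralizer_iff.mpr fun v hv => ?_))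
    calc v * (g⁻¹ * g') = g⁻¹ * (g * v * g⁻¹) * g' := by group
      _ = g⁻¹ * (g' * v * g'⁻¹) * g' := by rw [inverts g hg v hv, inverts g' hg' v hv]
      _ = g⁻¹ * g' * v := by group
  obtain ⟨c, hc⟩ : ∃ c : G ⧸ P, orderOf c = 6 := ⟨_, (hord c0 (by omega)).trans hc0⟩
  obtain ⟨d, hd⟩ : ∃ d : G ⧸ P, orderOf d = 4 := ⟨_, (hord d0 (by omega)).trans hd0⟩
  refine hK.one_involution huniq ?_ hc hd
  -- the order of the top
  have hn : Nat.card (G ⧸ P) ≠ 0 := Nat.card_pos.ne'
  have hk5 : ¬ 5 ∣ Nat.card (G ⧸ P) := fun hdv => by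
    obtain ⟨w, hw⟩ := exists_prime_orderOf_dvd_card' (G := G ⧸ P) 5 hdv
    obtain ⟨s, hs⟩ : ∃ s : G ⧸ P, orderOf s = 2 := ⟨_, (hord t0 (by omega)).trans ht0⟩
    have e := huniq (w * s * w⁻¹) s (((MulEquiv.orderOf_eq (MulAut.conj w) s)).trans hs) hs
    exact hK.not_commute (mul_inv_eq_iff_eq_mul.mp e : Commute w s) hw hs (by norm_num) (by norm_num)
  have hsplit : ∀ r : ℕ, r.Prime → r ≠ 5 →
      (Nat.card G).factorization r = (Nat.card (G ⧸ P)).factorization r := fun r hr hr5 => by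
    rw [Subgroup.card_eq_card_quotient_mul_card_subgroup P, Nat.factorization_mul hn Nat.card_pos.ne', hpn,
      Finsupp.add_apply, (by norm_num : Nat.Prime 5).factorization_pow, Finsupp.single_eq_of_ne hr5, add_zero]
  obtain ⟨S3⟩ : Nonempty (Sylow 3 G) := inferInstance
  obtain ⟨S2⟩ : Nonempty (Sylow 2 G) := inferInstance
  have hv3 : (Nat.card (G ⧸ P)).factorization 3 ≤ 1 := by
    have hd3 := h6.sylow_card (Or.inl rfl) S3
      (h6.sylow_uniq (by norm_num) (by norm_num) hne h5 (Or.inl rfl) S3)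
    rw [S3.card_eq_multiplicity, hsplit 3 Nat.prime_three (by norm_num)] at hd3
    exact (Nat.pow_dvd_pow_iff_le_right (by norm_num : 1 < 3)).mp (hd3.trans (pow_one 3).symm.dvd)
  have hv2 : (Nat.card (G ⧸ P)).factorization 2 ≤ 3 := by
    have hu := h6.sylow_uniq (r := 5) (by norm_num) (by norm_num) hne h5 (Or.inl rfl) S2
    have hle : Nat.card (S2 : Subgroup G) ≤ 8 := by
      rcases CfsgLib.Frob.cyclic_or_quaternion_two S2.isPGroup' hu with hcyc | ⟨n, ⟨i⟩⟩
      · obtain ⟨a, ha⟩ := IsCyclic.exists_ofOrder_eq_natCard (α := (S2 : Subgroup G))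
        rw [← ha, ← Subgroup.orderOf_coe]
        have := h6 (a : G)
        omega
      · have h1 := h6 ((i.symm (QuaternionGroup.a 1) : (S2 : Subgroup G)) : G)
        rw [Subgroup.orderOf_coe, MulEquiv.orderOf_eq, QuaternionGroup.orderOf_a_one] at h1
        rw [Nat.card_congr i.toEquiv, Nat.card_eq_fintype_card, QuaternionGroup.card]
        have hn1 : n ≤ 1 := by
          by_contra hlt
          have := Nat.pow_le_pow_right (show 0 < 2 by norm_num) (show 2 ≤ n by omega)
          omega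
        have := Nat.pow_le_pow_right (show 0 < 2 by norm_num) hn1
        omega
    rw [S2.card_eq_multiplicity, hsplit 2 Nat.prime_two (by norm_num)] at hle
    exact (Nat.pow_le_pow_iff_right (by norm_num : 1 < 2)).mp (hle.trans (by norm_num : 8 ≤ 2 ^ 3))
  have hdiv : Nat.card (G ⧸ P) ∣ 24 := by
    rw [← Nat.factorization_le_iff_dvd hn (by norm_num)]
    intro r
    by_cases hr : r ∈ (Nat.card (G ⧸ P)).primeFactors
    · have hrp := Nat.prime_of_mem_primeFactors hr
      have hrd := Nat.dvd_of_mem_primeFactors hr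
      have e : (24 : ℕ).factorization = Finsupp.single 2 3 + Finsupp.single 3 1 := by
        rw [show (24 : ℕ) = 2 ^ 3 * 3 ^ 1 by norm_num, Nat.factorization_mul (by norm_num) (by norm_num),
          Nat.prime_two.factorization_pow, Nat.prime_three.factorization_pow]
      rcases hK.prime_cases hrp hrd with e' | e' | e' <;> subst e'
      · rw [e]; simpa using hv2
      · rw [e]; simpa using hv3
      · exact absurd hrd hk5
    · rw [← Nat.support_factorization, Finsupp.notMem_support_iff] at hr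
      rw [hr]; exact Nat.zero_le _
  have h12 : 12 ∣ Nat.card (G ⧸ P) := by
    have a4 := hd ▸ orderOf_dvd_natCard d
    have a6 := hc ▸ orderOf_dvd_natCard c
    omega
  have hle := Nat.le_of_dvd (by norm_num) hdiv
  obtain ⟨k, hk⟩ := h12
  have hpos : 0 < Nat.card (G ⧸ P) := Nat.card_pos
  omega

end CfsgLib.SpecSix
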