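import Cfsg.Agent.Lib.SpecSix.Cases
import Cfsg.Prelude.Def_Involutions

/-!
Element orders at most six, the simple case: a subgroup containing every 2-local over a Sylow 2-subgroup is
strongly embedded.
-/

set_option autoImplicit false
set_option linter.unusedSectionVars false
set_option linter.style.haveILetI false

namespace CfsgLib.SpecSix

open Cfsg
open scoped Pointwise

universe u

local notation "A5" => alternatingGroup (Fin 5)

variable {G : Type u} [Group G] [Finite G]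

theorem card_double {A B : Subgroup G} (h : A < B) : 2 * Nat.card A ≤ Nat.card B := by
  obtain ⟨c, hc⟩ := Subgroup.card_dvd_of_le h.le
  have hpos : 0 < Nat.card B := Nat.card_pos
  rcases c with _ | _ | c
  · omega
  · exact absurd (Subgroup.eq_of_le_of_card_ge h.le (by omega)) h.ne
  · rw [hc]; nlinarith

/-- An element of order five inverted modulo the core makes the core elementary. -/
theorem Frame.five_inverted {T P : Subgroup G} (hF : Frame T P) (h6 : Six G) {t u : G} (ht : t ∈ T) (hu : u ∈ P)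
    (huo : orderOf u = 5) (hmod : t * u * t⁻¹ * u ∈ pCoreOf 2 P) :
    (∀ v ∈ pCoreOf 2 P, v * v = 1) ∧
      Nat.card ↥(pCoreOf 2 P ⊓ Subgroup.centralizer {t}) ^ 2 = Nat.card (pCoreOf 2 P) := by
  set Q := pCoreOf 2 P with hQ
  haveI : (Q.subgroupOf P).Normal := by rw [hQ, core_subgroupOf]; infer_instance
  have hQ2 : IsPGroup 2 (Q.subgroupOf P) := (core_isPGroup P).comap_of_injective P.subtype P.subtype_injective
  obtain ⟨q, hq, hqt⟩ := exists_inverting_lift (Q.subgroupOf P) hQ2 (u := (⟨u, hu⟩ : P))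
    (t := ⟨t, hF.le ht⟩) (by rw [← Subgroup.orderOf_coe]; exact huo) (Subgroup.mem_subgroupOf.mpr (by simpa using hmod))
  obtain ⟨k, hk⟩ := hF.two ⟨(q : G) * t, mul_mem (hF.core_le_T hq) ht⟩
  obtain ⟨-, hsq, hcard⟩ := (h6.subgroup P).dten (Q.subgroupOf P) hQ2 (u := (⟨u, hu⟩ : P))
    (by rw [← Subgroup.orderOf_coe]; exact huo) (t := q * ⟨t, hF.le ht⟩) (k := k)
    (by
      apply Subtype.ext
      have e := congrArg Subtype.val hk
      simpa using e) hqt
  have hsq' : ∀ v ∈ Q, v * v = 1 := fun v hv => by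
    have := hsq ⟨v, core_le P hv⟩ hv
    exact congrArg Subtype.val this
  refine ⟨hsq', ?_⟩
  have hcomm : ∀ v ∈ Q, ∀ w ∈ Q, v * w = w * v := fun v hv w hw => by
    haveI := isMulCommutative_of_sq hsq'
    exact congrArg Subtype.val (IsMulCommutative.is_comm.comm (⟨v, hv⟩ : Q) ⟨w, hw⟩)
  have e1 : (Q ⊓ Subgroup.centralizer {t}).subgroupOf P =
      Q.subgroupOf P ⊓ Subgroup.centralizer {q * (⟨t, hF.le ht⟩ : P)} := by
    ext ⟨v, hv⟩
    simp only [Subgroup.mem_subgroupOf, Subgroup.mem_inf, Subgroup.mem_centralizer_singleton_iff, Subtype.ext_iff,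
      Subgroup.coe_mul]
    constructor
    · rintro ⟨h1, h2⟩
      exact ⟨h1, by rw [← mul_assoc, hcomm v h1 (q : G) hq, mul_assoc, h2, mul_assoc]⟩
    · rintro ⟨h1, h2⟩
      refine ⟨h1, ?_⟩
      rw [← mul_assoc, hcomm v h1 (q : G) hq, mul_assoc, mul_assoc] at h2
      exact mul_left_cancel h2
  have hc1 : ∀ H : Subgroup G, H ≤ P → Nat.card (H.subgroupOf P) = Nat.card H := fun H hH =>
    Nat.card_congr (Subgroup.subgroupOfEquivOfLe hH).toEquiv
  rw [← hc1 _ (core_le P), ← hc1 _ (inf_le_left.trans (core_le P)), e1]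
  exact hcard

/-- An element squaring into a 2-group that moves one of its normal elementary subgroups `Q` to `Q'`: some
involution of the product is outside both. -/
theorem swap_false (h : Six G) {T Q Q' : Subgroup G} (hT : IsPGroup 2 T) (hQT : Q ≤ T)
    (hnQ : T ≤ Subgroup.normalizer (Q : Set G)) (hsq : ∀ v ∈ Q, v * v = 1) (s : G)
    (hs : s ∈ Subgroup.normalizer (T : Set G)) (hs2 : s * s ∈ T)
    (hQ' : Q.map (MulAut.conj s).toMonoidHom = Q') (hne : Q' ≠ Q)
    (hprod : ∀ w ∈ T, ∃ q ∈ Q, ∃ q' ∈ Q', w = q * q')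
    (hcen : ∀ a ∈ Q', a ∉ Q → ∀ q ∈ Q, Commute a q → q ∈ Q') : False := by
  have hmem' : ∀ v ∈ Q', ∃ q ∈ Q, s * q * s⁻¹ = v := fun v hv => by
    rw [← hQ'] at hv; exact hv
  have hto : ∀ q ∈ Q, s * q * s⁻¹ ∈ Q' := fun q hq => hQ' ▸ ⟨q, hq, rfl⟩
  have hQ'T : Q' ≤ T := fun v hv => by
    obtain ⟨q, hq, rfl⟩ := hmem' v hv
    exact (Subgroup.mem_normalizer_iff.mp hs q).mp (hQT hq)
  have hsq' : ∀ v ∈ Q', v * v = 1 := fun v hv => by
    obtain ⟨q, hq, rfl⟩ := hmem' v hv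
    calc s * q * s⁻¹ * (s * q * s⁻¹) = s * (q * q) * s⁻¹ := by group
      _ = 1 := by rw [hsq q hq]; group
  have hnQ' : ∀ t ∈ T, ∀ v ∈ Q', t * v * t⁻¹ ∈ Q' := fun t ht v hv => by
    obtain ⟨q, hq, rfl⟩ := hmem' v hv
    have ht' : s⁻¹ * t * s ∈ T :=
      (Subgroup.mem_normalizer_iff.mp hs (s⁻¹ * t * s)).mpr (by simpa [mul_assoc] using ht)
    have e : t * (s * q * s⁻¹) * t⁻¹ = s * ((s⁻¹ * t * s) * q * (s⁻¹ * t * s)⁻¹) * s⁻¹ := by group
    rw [e]
    exact hto _ ((Subgroup.mem_normalizer_iff.mp (hnQ ht') q).mp hq)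
  have hinvol : ∀ w ∈ T, w * w = 1 → w ∈ Q ∨ w ∈ Q' := by
    intro w hw hw2
    obtain ⟨q, hq, a, ha, rfl⟩ := hprod w hw
    by_cases haQ : a ∈ Q
    · exact Or.inl (mul_mem hq haQ)
    refine Or.inr (mul_mem (hcen a ha haQ q hq ?_) ha)
    show a * q = q * a
    calc a * q = q⁻¹ * (q * a * (q * a)) * a⁻¹ := by group
      _ = q⁻¹ * a⁻¹ := by rw [hw2, mul_one]
      _ = q * a := by rw [inv_eq_of_mul_eq_one_left (hsq q hq), inv_eq_of_mul_eq_one_left (hsq' a ha)]
  have hback : ∀ v ∈ Q', s * v * s⁻¹ ∈ Q := fun v hv => by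
    obtain ⟨q, hq, rfl⟩ := hmem' v hv
    have e : s * (s * q * s⁻¹) * s⁻¹ = (s * s) * q * (s * s)⁻¹ := by group
    rw [e]
    exact (Subgroup.mem_normalizer_iff.mp (hnQ hs2) q).mp hq
  have key : ∀ q ∈ Q, s * q * (s * q) ∈ Q ∧ s * q * (s * q) ∈ Q' := by
    intro q hq
    set g := s * q with hg
    have hT2 : g * g ∈ T := by
      rw [show g * g = (s * q * s⁻¹) * (s * s) * q by rw [hg]; group]
      exact mul_mem (mul_mem (hQ'T (hto q hq)) hs2) (hQT hq)
    obtain ⟨k, hk⟩ := hT ⟨g * g, hT2⟩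
    have h4 : g ^ 4 = 1 := h.two_pow (k := k + 1) (by
      rw [pow_succ', pow_mul, pow_two]; exact congrArg Subtype.val hk)
    have hfix : g * (g * g) * g⁻¹ = g * g := by group
    have h1 : g * g ∈ Q → g * g ∈ Q' := fun hh => by
      rw [← hfix, show g * (g * g) * g⁻¹ = s * (q * (g * g) * q⁻¹) * s⁻¹ by rw [hg]; group]
      exact hto _ ((Subgroup.mem_normalizer_iff.mp (hnQ (hQT hq)) _).mp hh)
    have h2 : g * g ∈ Q' → g * g ∈ Q := fun hh => by
      rw [← hfix, show g * (g * g) * g⁻¹ = s * (q * (g * g) * q⁻¹) * s⁻¹ by rw [hg]; group]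
      exact hback _ (hnQ' q (hQT hq) _ hh)
    rcases hinvol _ hT2 (by rw [← h4]; simp [pow_succ, mul_assoc]) with hh | hh
    · exact ⟨hh, h1 hh⟩
    · exact ⟨h2 hh, hh⟩
  have hd : s * s ∈ Q := by
    have := (key 1 (one_mem _)).1
    rwa [mul_one] at this
  refine hne (Subgroup.eq_of_le_of_card_ge (fun v hv => ?_) ?_)
  · obtain ⟨q, hq, rfl⟩ := hmem' v hv
    have e : s * q * s⁻¹ = (s * q * (s * q)) * q⁻¹ * (s * s)⁻¹ := by group
    rw [e]
    exact mul_mem (mul_mem (key q hq).1 (inv_mem hq)) (inv_mem hd)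
  · rw [← hQ', Subgroup.card_map_of_injective (MulAut.conj s).injective]

/-- **A subgroup containing all 2-locals over a Sylow 2-subgroup is strongly embedded.** -/
theorem Hyp.strongly_embedded (H : Hyp G) (S : Sylow 2 G) (M : Subgroup G) (hM : M ≠ ⊤)
    (hU : ∀ L : Subgroup G, IsTwoLocal L → (S : Subgroup G) ≤ L → L ≤ M) : IsStronglyEmbedded M := by
  classical
  by_contra hnse
  haveI : Fact (Nat.Prime 2) := ⟨Nat.prime_two⟩
  haveI := H.nontrivial
  obtain ⟨g6, hg6⟩ := H.order_six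
  have h2G : 2 ∣ Nat.card G := (show 2 ∣ orderOf g6 by rw [hg6]; norm_num).trans (orderOf_dvd_natCard g6)
  have hS1 : (S : Subgroup G) ≠ ⊥ := fun e => by
    have := S.not_dvd_index
    rw [e, Subgroup.index_bot] at this
    exact this h2G
  have hSM : (S : Subgroup G) ≤ M :=
    Subgroup.le_normalizer.trans (hU _ ⟨S, S.isPGroup', hS1, rfl⟩ Subgroup.le_normalizer)
  have hSylM : IsSylowTwoIn (S : Subgroup G) M := by
    refine ⟨hSM, S.isPGroup', ?_⟩
    rw [← Nat.not_even_iff_odd]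
    exact fun hev => S.not_dvd_index ((even_iff_two_dvd.mp hev).trans
      (Dvd.intro _ (Subgroup.relIndex_mul_index hSM)))
  -- some 2-subgroup of `M` has its normalizer outside
  obtain ⟨R0, hR02, hR01, hR0M, hR0N⟩ : ∃ R : Subgroup G, IsPGroup 2 R ∧ R ≠ ⊥ ∧ R ≤ M ∧
      ¬ Subgroup.normalizer (R : Set G) ≤ M := by
    by_contra hno
    push Not at hno
    have h2M : Even (Nat.card M) := by
      obtain ⟨n, hn⟩ := IsPGroup.iff_card.mp S.isPGroup'
      have hn0 : n ≠ 0 := fun e => hS1 (Subgroup.card_eq_one.mp (by rw [hn, e, pow_zero]))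
      exact even_iff_two_dvd.mpr ((hn ▸ dvd_pow_self 2 hn0).trans (Subgroup.card_dvd_of_le hSM))
    refine hnse ⟨hM, h2M, fun g hg => ?_⟩
    rw [← Nat.not_even_iff_odd]
    intro hev
    set D := M ⊓ M.map (MulAut.conj g).toMonoidHom with hD
    obtain ⟨Q0⟩ : Nonempty (Sylow 2 ↥D) := inferInstance
    set Q := (Q0 : Subgroup ↥D).map D.subtype with hQ
    have hQp : IsPGroup 2 ↥Q := Q0.isPGroup'.map _
    have hQD : Q ≤ D := Subgroup.map_subtype_le _
    have hQ1 : Q ≠ ⊥ := by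
      intro e
      have hb : (Q0 : Subgroup ↥D) = ⊥ := (Subgroup.map_eq_bot_iff_of_injective _ D.subtype_injective).mp e
      have := Q0.not_dvd_index
      rw [hb, Subgroup.index_bot] at this
      exact this (even_iff_two_dvd.mp hev)
    set Q' := Q.map (MulAut.conj g⁻¹).toMonoidHom with hQ'
    have hQ'M : Q' ≤ M := by
      rintro _ ⟨q, hq, rfl⟩
      obtain ⟨m, hm, e⟩ := (hQD hq).2
      rw [← e]
      simpa [mul_assoc] using hm
    have hQ'1 : Q' ≠ ⊥ := fun e => hQ1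
      ((Subgroup.map_eq_bot_iff_of_injective _ (MulEquiv.injective (MulAut.conj g⁻¹))).mp e)
    have hND : Subgroup.normalizer (Q : Set G) ≤ D := by
      refine le_inf (hno Q hQp hQ1 (hQD.trans inf_le_left)) fun n hn => ⟨g⁻¹ * n * g, ?_, by simp [mul_assoc]⟩
      refine hno Q' (hQp.map _) hQ'1 hQ'M (CfsgLib.JComp.mem_normalizer_of_conj_mem ?_)
      rintro _ ⟨q, hq, rfl⟩
      exact ⟨n * q * n⁻¹, (Subgroup.mem_normalizer_iff.mp hn q).mp hq, by simp [mul_assoc]⟩
    obtain ⟨P, hQP⟩ := hQp.exists_le_sylow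
    have hPQ : (P : Subgroup G) = Q := by
      by_contra hne
      have h := CfsgLib.JComp.exists_normalizer_gt P.isPGroup' (lt_of_le_of_ne hQP (Ne.symm hne))
      set Q2 := (P : Subgroup G) ⊓ Subgroup.normalizer (Q : Set G) with hQ2
      have hQ2D : Q2 ≤ D := inf_le_right.trans hND
      have h2 : Q2.subgroupOf D = (Q0 : Subgroup ↥D) :=
        Q0.is_maximal' ((P.isPGroup'.to_le inf_le_left).comap_of_injective D.subtype D.subtype_injective)
          fun q hq => h.le ⟨q, hq, rfl⟩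
      refine h.2 ?_
      rw [← Subgroup.map_subgroupOf_eq_of_le hQ2D, h2]
    have hPM : (P : Subgroup G) ≤ M := hPQ ▸ hQD.trans inf_le_left
    have hP'M : ((g⁻¹ • P : Sylow 2 G) : Subgroup G) ≤ M := by
      have hcoe : ((g⁻¹ • P : Sylow 2 G) : Subgroup G) = (P : Subgroup G).map (MulAut.conj g⁻¹).toMonoidHom := rfl
      rw [hcoe, hPQ]; exact hQ'M
    obtain ⟨m, hm⟩ := MulAction.exists_smul_eq ↥M (P.subtype hPM) ((g⁻¹ • P).subtype hP'M)
    rw [Sylow.smul_subtype] at hm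
    have heq : (m : G) • P = g⁻¹ • P := Sylow.subtype_injective hm
    have hN : g * (m : G) ∈ Subgroup.normalizer ((P : Subgroup G) : Set G) := by
      exact Sylow.smul_eq_iff_mem_normalizer.mp (by rw [mul_smul, heq, smul_inv_smul])
    have hgm : g * (m : G) ∈ M := hno _ P.isPGroup' (hPQ ▸ hQ1) hPM hN
    have := M.mul_mem hgm (M.inv_mem m.2)
    rw [mul_inv_cancel_right] at this
    exact hg this
  -- conjugates into `S` keep the property
  have hmove : ∀ U R : Subgroup G, IsPGroup 2 U → U ≤ M → R ≤ U → U ≤ Subgroup.normalizer (R : Set G) →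
      R ≠ ⊥ → ¬ Subgroup.normalizer (R : Set G) ≤ M →
      ∃ U' : Subgroup G, Nat.card U' = Nat.card U ∧ U' ≤ (S : Subgroup G) ∧ ∃ R' : Subgroup G, R' ≠ ⊥ ∧ R' ≤ U' ∧
        U' ≤ Subgroup.normalizer (R' : Set G) ∧ ¬ Subgroup.normalizer (R' : Set G) ≤ M := by
    intro U R hU2 hUM hRU hUR hR1 hRN
    obtain ⟨l, hl, hlS⟩ := CfsgLib.JComp.exists_conj_le hSylM hU2 hUM
    refine ⟨_, Subgroup.card_map_of_injective (MulAut.conj l).injective, hlS,
      R.map (MulAut.conj l).toMonoidHom, ?_, Subgroup.map_mono hRU, ?_, ?_⟩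
    · exact fun e => hR1 ((Subgroup.map_eq_bot_iff_of_injective _ (MulAut.conj l).injective).mp e)
    · rintro _ ⟨a, ha, rfl⟩
      refine CfsgLib.JComp.mem_normalizer_of_conj_mem ?_
      rintro _ ⟨r, hr, rfl⟩
      exact ⟨a * r * a⁻¹, (Subgroup.mem_normalizer_iff.mp (hUR ha) r).mp hr, by simp [mul_assoc]⟩
    · intro hle
      refine hRN fun n hn => ?_
      have h1 : l * n * l⁻¹ ∈ M := by
        refine hle (CfsgLib.JComp.mem_normalizer_of_conj_mem ?_)
        rintro _ ⟨r, hr, rfl⟩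
        exact ⟨n * r * n⁻¹, (Subgroup.mem_normalizer_iff.mp hn r).mp hr, by simp [mul_assoc]⟩
      have := M.mul_mem (M.mul_mem (M.inv_mem hl) h1) hl
      rwa [show l⁻¹ * (l * n * l⁻¹) * l = n by group] at this
  -- a largest straddling subgroup of `S`
  set A : Set (Subgroup G) := {U | U ≤ (S : Subgroup G) ∧ ∃ R : Subgroup G, R ≠ ⊥ ∧ R ≤ U ∧
    U ≤ Subgroup.normalizer (R : Set G) ∧ ¬ Subgroup.normalizer (R : Set G) ≤ M} with hA
  have hAne : A.Nonempty := by
    obtain ⟨U', -, hU'⟩ := hmove R0 R0 hR02 hR0M le_rfl Subgroup.le_normalizer hR01 hR0N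
    exact ⟨U', hU'⟩
  obtain ⟨T, ⟨hTS, R, hR1, hRT, hTR, hRN⟩, hTmax⟩ :=
    Set.Finite.exists_maximalFor (fun U : Subgroup G => Nat.card U) A A.toFinite hAne
  have hmaxA : ∀ U ∈ A, Nat.card U ≤ Nat.card T := fun U hU => by
    rcases le_total (Nat.card U) (Nat.card T) with h | h
    · exact h
    · exact hTmax hU h
  have hT2 : IsPGroup 2 T := S.isPGroup'.to_le hTS
  have hTS' : T < (S : Subgroup G) := lt_of_le_of_ne hTS fun e =>
    hRN (hU _ ⟨R, hT2.to_le hRT, hR1, rfl⟩ (e ▸ hTR))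
  -- an element of `S` squaring into `T` and normalising it
  obtain ⟨s, hsS, hsT, hsN, hs2⟩ : ∃ s ∈ (S : Subgroup G), s ∉ T ∧ s ∈ Subgroup.normalizer (T : Set G) ∧
      s * s ∈ T := by
    obtain ⟨-, hlt⟩ := CfsgLib.JComp.exists_normalizer_gt S.isPGroup' hTS'
    obtain ⟨s0, ⟨hs0S, hs0N⟩, hs0T⟩ := SetLike.not_le_iff_exists.mp hlt
    obtain ⟨k, hk⟩ := S.isPGroup' ⟨s0, hs0S⟩
    have hex : ∃ j, s0 ^ 2 ^ j ∈ T := ⟨k, by rw [show s0 ^ 2 ^ k = 1 from congrArg Subtype.val hk]; exact one_mem _⟩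
    set j := Nat.find hex with hj
    have hj0 : j ≠ 0 := fun e => hs0T (by
      have := Nat.find_spec hex
      rwa [← hj, e, pow_zero, pow_one] at this)
    obtain ⟨i, hi⟩ := Nat.exists_eq_succ_of_ne_zero hj0
    refine ⟨s0 ^ 2 ^ i, pow_mem hs0S _, Nat.find_min hex (by omega), Subgroup.pow_mem _ hs0N _, ?_⟩
    have := Nat.find_spec hex
    rw [← hj, hi] at this
    rwa [← pow_add, ← two_mul, ← pow_succ']
  have hbig : ∀ C : Subgroup G, C ≠ ⊥ → C ≤ T → T ≤ Subgroup.normalizer (C : Set G) →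
      s ∈ Subgroup.normalizer (C : Set G) → Subgroup.normalizer (C : Set G) ≤ M := by
    intro C hC1 hCT hTC hsC
    by_contra hCN
    have h1 : T ⊔ Subgroup.zpowers s ∈ A := ⟨sup_le hTS (Subgroup.zpowers_le.mpr hsS), C, hC1,
      hCT.trans le_sup_left, sup_le hTC (Subgroup.zpowers_le.mpr hsC), hCN⟩
    have h2 := card_double (lt_of_le_of_ne (le_sup_left : T ≤ T ⊔ Subgroup.zpowers s) fun e =>
      hsT (e ▸ Subgroup.mem_sup_right (Subgroup.mem_zpowers s)))
    have := hmaxA _ h1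
    have := Nat.card_pos (α := T)
    omega
  have hT1 : T ≠ ⊥ := fun e => hR1 (le_bot_iff.mp (e ▸ hRT))
  have hNT : Subgroup.normalizer (T : Set G) ≤ M := hbig T hT1 le_rfl Subgroup.le_normalizer hsN
  set N := Subgroup.normalizer (R : Set G) with hN
  have hodd : Odd (T.relIndex N) := by
    obtain ⟨P, hP⟩ := (hT2.comap_of_injective N.subtype N.subtype_injective :
      IsPGroup 2 (T.subgroupOf N)).exists_le_sylow
    set T1 := (P : Subgroup N).map N.subtype with hT1d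
    have hle : T ≤ T1 := fun t ht => ⟨⟨t, hTR ht⟩, hP ht, rfl⟩
    have hT12 : IsPGroup 2 T1 := P.isPGroup'.map _
    rcases eq_or_lt_of_le hle with e | e
    · rw [e, hT1d, ← Nat.not_even_iff_odd, even_iff_two_dvd, Subgroup.relIndex, Subgroup.subgroupOf,
        Subgroup.comap_map_eq_self_of_injective N.subtype_injective]
      exact P.not_dvd_index
    · exfalso
      have hlt := CfsgLib.JComp.exists_normalizer_gt hT12 e
      obtain ⟨U', hcU, hU'⟩ := hmove _ R (hT12.to_le inf_le_left) (inf_le_right.trans hNT)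
        (hRT.trans hlt.le) (inf_le_left.trans (Subgroup.map_subtype_le _)) hR1 hRN
      have h1 := hmaxA _ hU'
      have h2 := card_double hlt
      have := Nat.card_pos (α := T)
      omega
  -- a parabolic outside `M`
  obtain ⟨P, hPN, hP, hPM⟩ : ∃ P : Subgroup G, P ≤ N ∧ Parab T P ∧ ¬ P ≤ M := by
    by_contra hno
    push Not at hno
    exact hRN (le_of_parab hTR (fun K hK hKN => Frame.of_char2 H.char2 (hT2.to_le hRT) hR1 hKN hK hT2 hodd)
      (inf_le_right.trans hNT) hno)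
  set Q := pCoreOf 2 P with hQ
  have hQT := hP.core_le_T
  have hQ1 : Q ≠ ⊥ := hP.toFrame.core_ne_bot
  have hPQ : P ≤ Subgroup.normalizer (Q : Set G) := le_normalizer_core P
  have hsQ : s ∉ Subgroup.normalizer (Q : Set G) := fun hsQ =>
    hPM (hPQ.trans (hbig Q hQ1 hQT (hP.le.trans hPQ) hsQ))
  set Q' := Q.map (MulAut.conj s).toMonoidHom with hQ'
  have hne : Q' ≠ Q := fun e => hsQ (CfsgLib.Local.mem_normalizer_of_map_conj_eq e)
  have hQ'T : Q' ≤ T := by
    rintro _ ⟨q, hq, rfl⟩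
    exact (Subgroup.mem_normalizer_iff.mp hsN q).mp (hQT hq)
  have hcardQ' : Nat.card Q' = Nat.card Q := Subgroup.card_map_of_injective (MulAut.conj s).injective
  have hQQ' : Q ≤ Subgroup.normalizer (Q' : Set G) := by
    intro t ht
    refine CfsgLib.JComp.mem_normalizer_of_conj_mem ?_
    rintro _ ⟨q, hq, rfl⟩
    have ht' : s⁻¹ * t * s ∈ T :=
      (Subgroup.mem_normalizer_iff.mp hsN (s⁻¹ * t * s)).mpr (by simpa [mul_assoc] using hQT ht)
    exact ⟨(s⁻¹ * t * s) * q * (s⁻¹ * t * s)⁻¹, (Subgroup.mem_normalizer_iff.mp (hPQ (hP.le ht')) q).mp hq,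
      by simp [mul_assoc]⟩
  have hsum := CfsgLib.JComp.card_sup_mul_card_inf hQQ'
  rw [hcardQ'] at hsum
  have hprod : Nat.card ↥(Q ⊔ Q') = Nat.card T → ∀ w ∈ T, ∃ q ∈ Q, ∃ q' ∈ Q', w = q * q' := fun hc w hw => by
    rw [← Subgroup.eq_of_le_of_card_ge (sup_le hQT hQ'T) hc.ge] at hw
    have hw' : w ∈ (Q : Set G) * (Q' : Set G) := by
      rw [← Subgroup.coe_mul_of_left_le_normalizer_right _ _ hQQ']; exact hw
    obtain ⟨q, hq, a, ha, e⟩ := Set.mem_mul.mp hw'
    exact ⟨q, hq, a, ha, e.symm⟩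
  have hT4 : Nat.card Q * Q.relIndex T = Nat.card T := hP.toFrame.card_eq
  obtain ⟨t0, ht0, ht0Q⟩ : ∃ t ∈ Q', t ∉ Q := SetLike.not_le_iff_exists.mp fun hle =>
    hne (Subgroup.eq_of_le_of_card_ge hle hcardQ'.ge)
  have hsupT : Nat.card ↥(Q ⊔ Q') ≤ Nat.card T := Subgroup.card_le_of_le (sup_le hQT hQ'T)
  have hQpos := Nat.card_pos (α := Q)
  have hDC : (∀ v ∈ Q, v * v = 1) → ∀ a ∈ Q',
      Nat.card ↥(Q ⊓ Q') ≤ Nat.card ↥(Q ⊓ Subgroup.centralizer {a}) ∧
        Q ⊓ Q' ≤ Q ⊓ Subgroup.centralizer {a} := by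
    intro hsq a ha
    have hle : Q ⊓ Q' ≤ Q ⊓ Subgroup.centralizer {a} := fun d hd => ⟨hd.1, Subgroup.mem_centralizer_singleton_iff.mpr (by
      obtain ⟨q, hq, hqd⟩ := hd.2
      obtain ⟨r, hr, hra⟩ := ha
      have hc : q * r = r * q := by
        haveI := isMulCommutative_of_sq hsq
        exact congrArg Subtype.val (IsMulCommutative.is_comm.comm (⟨q, hq⟩ : Q) ⟨r, hr⟩)
      rw [← hqd, ← hra]
      simp only [MulEquiv.coe_toMonoidHom, MulAut.conj_apply]
      calc s * q * s⁻¹ * (s * r * s⁻¹) = s * (q * r) * s⁻¹ := by group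
        _ = s * (r * q) * s⁻¹ := by rw [hc]
        _ = s * r * s⁻¹ * (s * q * s⁻¹) := by group)⟩
    exact ⟨Subgroup.card_le_of_le hle, hle⟩
  rcases H.parab_cases hP with h | h | ⟨φ, h⟩
  · -- top `S₃`
    rcases hP.char_or_elementary H.six h with ⟨C, hC1, hCT, hPC, hTC⟩ | hsq
    · exact hPM (hPC.trans (hbig C hC1 hCT (Subgroup.le_normalizer.trans hTC) (hTC hsN)))
    obtain ⟨h2, -⟩ := hP.di H.six (p := 3) (Or.inl rfl) h
    rw [← hQ] at h2
    rw [h2] at hT4
    have hlt : Q < Q ⊔ Q' := lt_of_le_of_ne le_sup_left fun e => ht0Q (e ▸ Subgroup.mem_sup_right ht0)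
    have hsup := card_double hlt
    refine swap_false H.six hT2 hQT (hP.le.trans hPQ) hsq s hsN hs2 rfl hne (hprod (by omega)) ?_
    intro a ha haQ q hq hc
    by_contra hqQ'
    obtain ⟨-, hle⟩ := hDC hsq a ha
    have hlt' : Q ⊓ Q' < Q ⊓ Subgroup.centralizer {a} := lt_of_le_of_ne hle fun e =>
      hqQ' ((e ▸ ⟨hq, Subgroup.mem_centralizer_singleton_iff.mpr hc.eq.symm⟩ : q ∈ Q ⊓ Q')).2
    have h2' := card_double hlt'
    have hall : Q ⊓ Subgroup.centralizer {a} = Q :=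
      Subgroup.eq_of_le_of_card_ge inf_le_left (by nlinarith)
    refine haQ (hP.cent fun v hv => ?_)
    have hv' : v ∈ Q ⊓ Subgroup.centralizer {a} := hall.ge hv
    exact Subgroup.mem_centralizer_singleton_iff.mp hv'.2
  · -- top `D₁₀`
    obtain ⟨h2, x, hxP, t, ht, hxo, -, htQ, -, hinv, -, hall⟩ := hP.di H.six (p := 5) (Or.inr rfl) h
    rw [← hQ] at h2
    rw [h2] at hT4
    have ht0mod : t0 * x * t0⁻¹ * x ∈ Q := by
      have hd : t * t0⁻¹ ∈ Q := by
        have hd' := hall t0 (hQ'T ht0) ht0Q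
        have := (Subgroup.mem_normalizer_iff.mp (hPQ (hP.le (hQ'T ht0))) _).mp hd'
        rwa [mul_assoc t0, mul_assoc t0⁻¹, mul_inv_cancel_left] at this
      set d := t * t0⁻¹ with hdd
      have e : t0 * x * t0⁻¹ * x = (d⁻¹ * (t * x * t⁻¹ * x) * d) * (d⁻¹ * (x⁻¹ * d * x)) := by
        rw [hdd]; group
      rw [e]
      refine mul_mem (mul_mem (mul_mem (inv_mem hd) hinv) hd) (mul_mem (inv_mem hd) ?_)
      have := (Subgroup.mem_normalizer_iff.mp (hPQ (inv_mem hxP)) d).mp hd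
      rwa [inv_inv] at this
    obtain ⟨hsq, hc2⟩ := hP.toFrame.five_inverted H.six (hQ'T ht0) hxP hxo ht0mod
    obtain ⟨hc1, -⟩ := hDC hsq t0 ht0
    rw [← hQ] at hc2
    have : Nat.card Q ≤ 4 := by
      have hD2 : Nat.card Q ≤ 2 * Nat.card ↥(Q ⊓ Q') :=
        Nat.le_of_mul_le_mul_left (a := Nat.card Q) (by
          rw [← hsum, ← mul_assoc, hT4]
          exact Nat.mul_le_mul_right _ hsupT) hQpos
      have hpos := Nat.card_pos (α := ↥(Q ⊓ Subgroup.centralizer {t0}))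
      nlinarith
    exact hQ1 (H.six.five_small (core_isPGroup P) hxo (hPQ hxP) this)
  · -- top `A₅`
    have h4 := h.relIndex_T
    rw [← hQ] at h4
    rw [h4] at hT4
    have hsq := (h.cent_card H.six (hQ'T ht0) ht0Q).1
    have hcard : ∀ a ∈ Q', a ∉ Q → Nat.card ↥(Q ⊓ Subgroup.centralizer {a}) ^ 2 = Nat.card Q := fun a ha haQ =>
      (h.cent_card H.six (hQ'T ha) haQ).2
    have hD4 : Nat.card Q ≤ 4 * Nat.card ↥(Q ⊓ Q') := by nlinarith
    have hbig5 : ¬ Nat.card Q ≤ 4 := fun hle => by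
      obtain ⟨r, hr⟩ := h.surj rot
      refine hQ1 (H.six.five_small (core_isPGroup P)
        (h.orderOf_five H.six (a := r) (by rw [hr]; exact rot_five.1) ?_) (hPQ r.2) hle)
      rw [hr]; decide
    have h16 : ∀ a ∈ Q', a ∉ Q → Nat.card Q = 16 ∧ Nat.card ↥(Q ⊓ Subgroup.centralizer {a}) = 4 ∧
        Nat.card ↥(Q ⊓ Q') = 4 := by
      intro a ha haQ
      obtain ⟨hc1, -⟩ := hDC hsq a ha
      have hc2 := hcard a ha haQ
      set c := Nat.card ↥(Q ⊓ Subgroup.centralizer {a}) with hc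
      have hc4 : c ≤ 4 := by nlinarith
      obtain ⟨n, hn⟩ := IsPGroup.iff_card.mp (core_isPGroup P)
      rw [← hQ] at hn
      interval_cases c
      · omega
      · omega
      · omega
      · exfalso
        rw [← hc2] at hn
        have : 3 ∣ 2 := Nat.Prime.dvd_of_dvd_pow Nat.prime_three (hn ▸ (by norm_num : 3 ∣ 3 ^ 2))
        omega
      · norm_num at hc2
        exact ⟨hc2.symm, rfl, by omega⟩
    obtain ⟨hQ16, -, hD⟩ := h16 t0 ht0 ht0Q
    refine swap_false H.six hT2 hQT (hP.le.trans hPQ) hsq s hsN hs2 rfl hne ?_ ?_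
    · refine hprod ?_
      rw [hQ16, hD] at hsum
      rw [hQ16] at hT4
      omega
    · intro a ha haQ q hq hc
      obtain ⟨-, hle⟩ := hDC hsq a ha
      obtain ⟨-, hca, hD'⟩ := h16 a ha haQ
      have e := Subgroup.eq_of_le_of_card_ge hle (by rw [hca, hD'])
      exact (e.ge ⟨hq, Subgroup.mem_centralizer_singleton_iff.mpr hc.eq.symm⟩).2

end CfsgLib.SpecSix
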