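import Cfsg.Agent.Lib.SpecSix.Basic
import Cfsg.Agent.Lib.CoprimeGen
import Cfsg.Agent.Lib.Elementary
import Cfsg.Agent.Lib.PSolvable
import Cfsg.Prelude.Def_Solvable

/-!
Element orders at most six: a 2-element squares into the 2-core when the top is solvable.
-/

set_option autoImplicit false
set_option linter.unusedSectionVars false

namespace CfsgLib.SpecSix

open scoped IsMulCommutative

universe u v

/-! ### Norm relations in a module over the field of two elements -/

section Module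

variable {A : Type*} [AddCommGroup A]

theorem add_left_cancel_two (h2 : ∀ x : A, x + x = 0) {x y : A} (h : x + y = 0) : x = y := by
  calc x = x + (y + y) := by rw [h2, add_zero]
    _ = (x + y) + y := (add_assoc _ _ _).symm
    _ = y := by rw [h, zero_add]

theorem five_four (μ γ : A →+ A) (h2 : ∀ x : A, x + x = 0) (h5 : ∀ x : A, μ (μ (μ (μ (μ x)))) = x)
    (hc : ∀ x : A, γ (μ x) = μ (μ (γ x))) (hT : ∀ x : A, x + μ x + μ (μ x) + μ (μ (μ x)) + μ (μ (μ (μ x))) = 0)
    (hN : ∀ x : A, x + γ x + γ (γ x) + γ (γ (γ x)) = 0) (x : A) : x = 0 := by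
  have e0 := hN x
  have e1 := congrArg (fun y => μ (μ (μ (μ y)))) (hN (μ x))
  have e2 := congrArg (fun y => μ (μ (μ y))) (hN (μ (μ x)))
  have e3 := congrArg (fun y => μ (μ y)) (hN (μ (μ (μ x))))
  have e4 := congrArg μ (hN (μ (μ (μ (μ x)))))
  have t1 := hT (γ x)
  have t2 := hT (γ (γ x))
  have t3 := hT (γ (γ (γ x)))
  simp only [map_add, hc, h5, map_zero] at e1 e2 e3 e4
  have h : x + x + x + x + x = 0 := by
    have s : (x + γ x + γ (γ x) + γ (γ (γ x))) + _ + _ + _ + _ = (0 : A) + 0 + 0 + 0 + 0 :=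
      congrArg₂ (· + ·) (congrArg₂ (· + ·) (congrArg₂ (· + ·) (congrArg₂ (· + ·) e0 e1) e2) e3) e4
    have s' : _ + _ + _ = (0 : A) + 0 + 0 := congrArg₂ (· + ·) (congrArg₂ (· + ·) t1 t2) t3
    calc x + x + x + x + x = ((0 : A) + 0 + 0 + 0 + 0) - (0 + 0 + 0) := by rw [← s, ← s']; abel
      _ = 0 := by abel
  rwa [h2, zero_add, h2, zero_add] at h

/-- One line of a group of order nine permuted by an operator of order four. -/
theorem three_line (α β γ : A →+ A) (h2 : ∀ x : A, x + x = 0) (h3 : ∀ x : A, α (α (α x)) = x)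
    (hb3 : ∀ x : A, β (β (β x)) = x) (hab : ∀ x : A, α (β x) = β (α x))
    (ha : ∀ x : A, γ (α x) = β (γ x)) (hb : ∀ x : A, γ (β x) = α (α (γ x)))
    (hN : ∀ x : A, x + γ x + γ (γ x) + γ (γ (γ x)) = 0) {x : A} (hx : α x = x) : β x = x := by
  have key : ∀ y : A, α y = y → β (y + γ (γ y)) = y + γ (γ y) := by
    intro y hy
    have h1 : α (γ (γ y)) = γ (γ y) := by
      have e : γ (γ y) = α (α (γ (γ y))) := by rw [← hb, ← ha, hy]
      calc α (γ (γ y)) = α (α (α (γ (γ y)))) := by rw [← e]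
        _ = γ (γ y) := h3 _
    have e : y + γ (γ y) = γ y + γ (γ (γ y)) := by
      apply add_left_cancel_two h2
      rw [← hN y]; abel
    rw [e, map_add, ← ha, hy, ← ha, h1]
  have k1 := key x hx
  have k2 := key (β x) (by rw [hab, hx])
  have e : γ (γ (β x)) = β (β (γ (γ x))) := by rw [hb, ha, ha]
  rw [e] at k2
  simp only [map_add, hb3] at k1 k2
  have e1 : β (β (β (γ (γ x)))) = γ (γ x) := hb3 _
  have e2 : β (γ (γ x)) = x + γ (γ x) - β x := eq_sub_of_add_eq (by rw [add_comm]; exact k1)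
  rw [e2, map_sub, map_add, e2] at k2
  apply add_left_cancel_two h2
  have n : ∀ y : A, -y = y := fun y => (add_left_cancel_two h2 (h2 y) ▸ neg_eq_of_add_eq_zero_left (h2 y))
  simp only [sub_eq_add_neg, n] at k2
  rw [← sub_eq_zero, sub_eq_add_neg, n] at k2
  have c : ∀ y z : A, y + (y + z) = z := fun y z => by rw [← add_assoc, h2, zero_add]
  simp only [add_comm, add_left_comm, c, h2, add_zero] at k2 ⊢
  simpa [add_comm] using k2

/-- Commuting operators of order three permuted as a cycle of length four, with vanishing norms, are trivial. -/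
theorem three_four (μ ν γ : A →+ A) (h2 : ∀ x : A, x + x = 0) (hm : ∀ x : A, μ (μ (μ x)) = x)
    (hn : ∀ x : A, ν (ν (ν x)) = x) (hc : ∀ x : A, ν (μ x) = μ (ν x))
    (hgm : ∀ x : A, γ (μ x) = ν (γ x)) (hgn : ∀ x : A, γ (ν x) = μ (μ (γ x)))
    (hN : ∀ x : A, x + γ x + γ (γ x) + γ (γ (γ x)) = 0) (x : A) : μ x = x := by
  have c1 : ∀ y : A, μ y = y → ν y = y := fun y => three_line μ ν γ h2 hm hn (fun z => (hc z).symm) hgm hgn hN
  have c2 : ∀ y : A, ν y = y → μ y = y := fun y hy => by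
    have := three_line ν (μ.comp μ) γ h2 hn (by simp [hm]) (by simp [hc]) (by simpa using hgn)
      (by simp [hgm]) hN hy
    simp only [AddMonoidHom.comp_apply] at this
    calc μ y = μ (μ (μ y)) := by rw [this]
      _ = y := hm y
  have c3 : ∀ y : A, μ (ν y) = y → μ y = y := fun y hy => by
    have := three_line (μ.comp ν) (ν.comp (μ.comp μ)) γ h2 (by simp [hc, hn, hm]) (by simp [hc, hn, hm])
      (by simp [hc, hm]) (by simp [hgm, hgn]) (by simp [hgm, hgn, hc]) hN (x := y) (by simpa using hy)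
    simp only [AddMonoidHom.comp_apply] at this
    refine c2 y ?_
    have e : ν (ν y) = y := by
      calc ν (ν y) = μ (ν (ν (μ (μ y)))) := by simp [hc, hm]
        _ = μ (ν y) := by rw [this]
        _ = y := hy
    calc ν y = ν (ν (ν y)) := by rw [e]
      _ = y := hn y
  have c4 : ∀ y : A, ν (μ (μ y)) = y → μ y = y := fun y hy => by
    refine c3 y ?_
    have := three_line (ν.comp (μ.comp μ)) ((μ.comp ν).comp (μ.comp ν)) γ h2 (by simp [hc, hn, hm])
      (by simp [hc, hn, hm]) (by simp [hc, hn, hm]) (by simp [hgm, hgn, hc]) (by simp [hgm, hgn, hc, hn, hm]) hN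
      (x := y) (by simpa using hy)
    simp only [AddMonoidHom.comp_apply] at this
    calc μ (ν y) = μ (ν (μ (ν (μ (ν y))))) := by rw [this]
      _ = y := by simp [hc, hn, hm]
  have f1 : μ (x + μ x + μ (μ x)) = x + μ x + μ (μ x) := by simp [map_add, hm]; abel
  have f2 : μ (x + ν x + ν (ν x)) = x + ν x + ν (ν x) := c2 _ (by simp [map_add, hn]; abel)
  have f3 : μ (x + μ (ν x) + μ (μ (ν (ν x)))) = x + μ (ν x) + μ (μ (ν (ν x))) :=
    c3 _ (by simp [map_add, hc, hn, hm]; abel)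
  have f4 : μ (x + μ (μ (ν x)) + μ (ν (ν x))) = x + μ (μ (ν x)) + μ (ν (ν x)) :=
    c4 _ (by simp [map_add, hc, hn, hm]; abel)
  have f5 : μ ((x + ν x + ν (ν x)) + μ (x + ν x + ν (ν x)) + μ (μ (x + ν x + ν (ν x)))) =
      (x + ν x + ν (ν x)) + μ (x + ν x + ν (ν x)) + μ (μ (x + ν x + ν (ν x))) := by
    simp [map_add, hm]; abel
  set a := x + μ x + μ (μ x)
  set b := x + ν x + ν (ν x) with hb
  set c := x + μ (ν x) + μ (μ (ν (ν x)))
  set d := x + μ (μ (ν x)) + μ (ν (ν x))
  set t := b + μ b + μ (μ b) with ht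
  have e : x = a + b + c + d + t := by
    simp only [a, c, d, ht, hb, map_add]
    have cc : ∀ y z : A, y + (y + z) = z := fun y z => by rw [← add_assoc, h2, zero_add]
    simp [add_comm, add_left_comm, cc, h2, hc]
  rw [e]; simp only [map_add, f1, f2, f3, f4, f5]

end Module

variable {G : Type u} [Group G] [Finite G]

/-- The involutions of the centre of a subgroup, with the identity. -/
def centralInvol (Q : Subgroup G) : Subgroup G where
  carrier := {v | v ∈ Q ∧ v * v = 1 ∧ ∀ q ∈ Q, v * q = q * v}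
  one_mem' := ⟨one_mem _, one_mul _, fun q _ => by simp⟩
  mul_mem' := fun {a b} ha hb => ⟨mul_mem ha.1 hb.1, by
      rw [mul_assoc, ← mul_assoc b a b, hb.2.2 a ha.1, mul_assoc a b b, hb.2.1, mul_one, ha.2.1],
    fun q hq => by rw [mul_assoc, hb.2.2 q hq, ← mul_assoc, ha.2.2 q hq, mul_assoc]⟩
  inv_mem' := fun {a} ha => by
    rw [inv_eq_of_mul_eq_one_left ha.2.1]; exact ha

theorem centralInvol_normal (Q : Subgroup G) [Q.Normal] : (centralInvol Q).Normal := ⟨fun v hv g => by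
  refine ⟨Subgroup.Normal.conj_mem ‹_› v hv.1 g, ?_, fun q hq => ?_⟩
  · calc g * v * g⁻¹ * (g * v * g⁻¹) = g * (v * v) * g⁻¹ := by group
      _ = 1 := by rw [hv.2.1]; group
  · calc g * v * g⁻¹ * q = g * (v * (g⁻¹ * q * g)) * g⁻¹ := by group
      _ = g * ((g⁻¹ * q * g) * v) * g⁻¹ := by rw [hv.2.2 _ (Subgroup.Normal.conj_mem' ‹_› q hq g)]
      _ = q * (g * v * g⁻¹) := by group⟩

theorem centralInvol_ne_bot {Q : Subgroup G} (hQ : IsPGroup 2 Q) (hQ1 : Q ≠ ⊥) : centralInvol Q ≠ ⊥ := by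
  haveI : Fact (Nat.Prime 2) := ⟨Nat.prime_two⟩
  haveI : Nontrivial Q := Q.nontrivial_iff_ne_bot.mpr hQ1
  haveI := hQ.center_nontrivial
  obtain ⟨n, hn, hc⟩ := (hQ.to_subgroup (Subgroup.center Q)).nontrivial_iff_card.mp inferInstance
  obtain ⟨z, hz⟩ := exists_prime_orderOf_dvd_card' (G := Subgroup.center Q) 2 (hc ▸ dvd_pow_self 2 hn.ne')
  intro hbot
  have hmem : ((z : Q) : G) ∈ centralInvol Q := ⟨(z : Q).2, by
      have := congrArg (fun y : Subgroup.center Q => ((y : Q) : G)) (orderOf_dvd_iff_pow_eq_one.mp hz.dvd)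
      simpa [pow_two] using this,
    fun q hq => (congrArg Subtype.val (Subgroup.mem_center_iff.mp z.2 ⟨q, hq⟩)).symm⟩
  rw [hbot, Subgroup.mem_bot] at hmem
  have : z = 1 := Subtype.ext (Subtype.ext hmem)
  rw [this, orderOf_one] at hz
  omega

/-- The conjugation action on an abelian normal subgroup, written additively. -/
noncomputable def actAdd (U : Subgroup G) [U.Normal] (x : G) : Additive U →+ Additive U :=
  MonoidHom.toAdditive (MulAut.conjNormal (H := U) x).toMonoidHom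

theorem actAdd_apply (U : Subgroup G) [U.Normal] (x : G) (a : Additive U) :
    ((actAdd U x a).toMul : G) = x * (a.toMul : G) * x⁻¹ := rfl

theorem actAdd_mul (U : Subgroup G) [U.Normal] (x y : G) (a : Additive U) :
    actAdd U (x * y) a = actAdd U x (actAdd U y a) :=
  Additive.toMul.injective (Subtype.ext (by simp only [actAdd_apply]; group))

theorem actAdd_congr (U : Subgroup G) [U.Normal] {N : Subgroup G} (hN : ∀ n ∈ N, ∀ v ∈ U, n * v = v * n)
    {x y : G} (h : y⁻¹ * x ∈ N) (a : Additive U) : actAdd U x a = actAdd U y a := by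
  refine Additive.toMul.injective (Subtype.ext ?_)
  simp only [actAdd_apply]
  calc x * (a.toMul : G) * x⁻¹ = y * ((y⁻¹ * x) * (a.toMul : G)) * (y⁻¹ * x)⁻¹ * y⁻¹ := by group
    _ = y * (a.toMul : G) * y⁻¹ := by rw [hN _ h _ a.toMul.2]; group

theorem actAdd_one (U : Subgroup G) [U.Normal] (a : Additive U) : actAdd U 1 a = a :=
  Additive.toMul.injective (Subtype.ext (by simp [actAdd_apply]))

theorem Six.norm_add (h : Six G) (U : Subgroup G) [U.Normal] [IsMulCommutative U]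
    (hU : ∀ v ∈ U, v * v = 1) {g : G} (hg : g ^ 4 = 1) (a : Additive U) :
    a + actAdd U g a + actAdd U g (actAdd U g a) + actAdd U g (actAdd U g (actAdd U g a)) = 0 := by
  refine Additive.toMul.injective (Subtype.ext ?_)
  have hn := h.norm_one hU (fun w hw => Subgroup.Normal.conj_mem ‹_› w hw g) hg a.toMul.2
  have e1 : g * (g * (a.toMul : G) * g⁻¹) * g⁻¹ = g ^ 2 * (a.toMul : G) * (g ^ 2)⁻¹ := by
    rw [pow_two, mul_inv_rev]; simp only [mul_assoc]
  have e2 : g * (g ^ 2 * (a.toMul : G) * (g ^ 2)⁻¹) * g⁻¹ = g ^ 3 * (a.toMul : G) * (g ^ 3)⁻¹ := by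
    rw [pow_succ' g 2, mul_inv_rev]; simp only [mul_assoc]
  simp only [toMul_add, toMul_zero, Subgroup.coe_mul, Subgroup.coe_one, actAdd_apply, e1, e2]
  set N := (g * (a.toMul : G) * g⁻¹) * (g ^ 2 * (a.toMul : G) * (g ^ 2)⁻¹) * (g ^ 3 * (a.toMul : G) * (g ^ 3)⁻¹)
  have hv := a.toMul.2
  calc (a.toMul : G) * (g * (a.toMul : G) * g⁻¹) * (g ^ 2 * (a.toMul : G) * (g ^ 2)⁻¹) *
        (g ^ 3 * (a.toMul : G) * (g ^ 3)⁻¹) = (a.toMul : G) * N := by simp only [N, mul_assoc]
    _ = (a.toMul : G) * (a.toMul : G)⁻¹ := by rw [eq_inv_of_mul_eq_one_left hn]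
    _ = 1 := mul_inv_cancel _

theorem isMulCommutative_of_sq {U : Subgroup G} (hU : ∀ v ∈ U, v * v = 1) : IsMulCommutative U :=
  ⟨⟨fun a b => by
    have sq : ∀ c : U, c * c = 1 := fun c => Subtype.ext (hU c c.2)
    calc a * b = (a * b)⁻¹ := eq_inv_of_mul_eq_one_left (sq _)
      _ = b * a := by rw [mul_inv_rev, inv_eq_of_mul_eq_one_left (sq b), inv_eq_of_mul_eq_one_left (sq a)]⟩⟩

/-- An element of order five and a 2-element squaring it cannot normalise a nontrivial 2-subgroup. -/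
theorem Six.top_five_mod (h : Six G) (Q : Subgroup G) [Q.Normal] (hQ : IsPGroup 2 Q) (hQ1 : Q ≠ ⊥)
    {u g : G} (hu5 : u ^ 5 ∈ Q) (hu : u ∉ Q) {k : ℕ} (hg : g ^ 2 ^ k = 1)
    (hgu : (u ^ 2 * g)⁻¹ * (g * u) ∈ Q) : False := by
  haveI : Fact (Nat.Prime 5) := ⟨by norm_num⟩
  have hou : orderOf u = 5 := by
    have hb : orderOf ((u : G ⧸ Q)) = 5 := by
      refine orderOf_eq_prime ?_ (fun e => hu ((QuotientGroup.eq_one_iff u).mp e))
      rw [← QuotientGroup.mk_pow]; exact (QuotientGroup.eq_one_iff _).mpr hu5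
    obtain ⟨c, hc⟩ := hb ▸ orderOf_map_dvd (QuotientGroup.mk' Q) u
    have h6 := h u
    have := orderOf_pos u
    rcases c with _ | _ | c <;> omega
  set U := centralInvol Q
  haveI : U.Normal := centralInvol_normal Q
  have hU : ∀ v ∈ U, v * v = 1 := fun v hv => hv.2.1
  haveI := isMulCommutative_of_sq hU
  have hQU : ∀ n ∈ Q, ∀ v ∈ U, n * v = v * n := fun n hn v hv => (hv.2.2 n hn).symm
  have h2 : ∀ a : Additive U, a + a = 0 := fun a =>
    Additive.toMul.injective (Subtype.ext (hU _ a.toMul.2))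
  have hu5' : u ^ 5 = 1 := hou ▸ pow_orderOf_eq_one u
  have h5 : ∀ a, actAdd U u (actAdd U u (actAdd U u (actAdd U u (actAdd U u a)))) = a := fun a => by
    simp only [← actAdd_mul]
    rw [show u * (u * (u * (u * u))) = u ^ 5 by simp [pow_succ, mul_assoc], hu5', actAdd_one]
  have key : ∀ a : Additive U, a = 0 := by
    refine five_four (actAdd U u) (actAdd U g) h2 h5 (fun a => ?_) (fun a => ?_)
      (fun a => h.norm_add U hU (h.two_pow hg) a)
    · simp only [← actAdd_mul]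
      refine actAdd_congr U hQU ?_ a
      rw [show u * (u * g) = u ^ 2 * g by rw [pow_two, mul_assoc]]
      exact hgu
    · set w := a + actAdd U u a + actAdd U u (actAdd U u a) + actAdd U u (actAdd U u (actAdd U u a)) +
        actAdd U u (actAdd U u (actAdd U u (actAdd U u a))) with hw
      have hfix : actAdd U u w = w := by
        rw [hw]; simp only [map_add, h5]; abel
      have hcomm : Commute u (w.toMul : G) := by
        have e := congrArg (fun b : Additive U => ((b.toMul : U) : G)) hfix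
        simp only [actAdd_apply] at e
        exact mul_inv_eq_iff_eq_mul.mp e
      have h1 : (w.toMul : G) = 1 :=
        h.five_fixes hou hcomm (p := 2) (by norm_num) (k := 1) (by rw [pow_one, pow_two]; exact hU _ w.toMul.2)
      exact Additive.toMul.injective (Subtype.ext h1)
  refine centralInvol_ne_bot hQ hQ1 ((Subgroup.eq_bot_iff_forall _).mpr fun v hv => ?_)
  exact congrArg (fun b : Additive U => ((b.toMul : U) : G)) (key (Additive.ofMul ⟨v, hv⟩))

/-- An element of order five and one conjugating it to its square cannot normalise a nontrivial 2-subgroup. -/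
theorem Six.top_five (h : Six G) (Q : Subgroup G) [Q.Normal] (hQ : IsPGroup 2 Q) (hQ1 : Q ≠ ⊥)
    {u g : G} (hu : orderOf u = 5) (hg : g * u * g⁻¹ = u ^ 2) : False := by
  have hpow : ∀ n : ℕ, g ^ n * u * (g ^ n)⁻¹ = u ^ 2 ^ n := fun n => by
    induction n with
    | zero => simp
    | succ n ih =>
      calc g ^ (n + 1) * u * (g ^ (n + 1))⁻¹ = g * (g ^ n * u * (g ^ n)⁻¹) * g⁻¹ := by
            rw [pow_succ', mul_inv_rev]; simp only [mul_assoc]
        _ = (g * u * g⁻¹) ^ 2 ^ n := by rw [ih, conj_pow]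
        _ = u ^ 2 ^ (n + 1) := by rw [hg, ← pow_mul, pow_succ']
  have hu5 : u ^ 5 = 1 := hu ▸ pow_orderOf_eq_one u
  have h4 : Commute u (g ^ 4) := by
    have e := hpow 4
    have e2 : u ^ (2 : ℕ) ^ 4 = u := by
      rw [show (2 : ℕ) ^ 4 = 5 * 3 + 1 by norm_num, pow_succ, pow_mul, hu5, one_pow, one_mul]
    rw [e2, mul_inv_eq_iff_eq_mul] at e
    exact e.symm
  have h20 : (g ^ 5) ^ 2 ^ 2 = 1 := by
    rw [← pow_mul, show 5 * 2 ^ 2 = 4 * 5 by norm_num, pow_mul]
    exact h.commute_five hu h4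
  have hg5 : g ^ 5 * u * (g ^ 5)⁻¹ = u ^ 2 := by
    have e2 : u ^ (2 : ℕ) ^ 5 = u ^ 2 := by
      rw [show (2 : ℕ) ^ 5 = 5 * 6 + 2 by norm_num, pow_add, pow_mul, hu5, one_pow, one_mul]
    rw [hpow 5, e2]
  refine h.top_five_mod Q hQ hQ1 (u := u) (g := g ^ 5) (hu5 ▸ one_mem Q) (fun hm => ?_) h20 ?_
  · obtain ⟨j, hj⟩ := hQ ⟨u, hm⟩
    have hd := hu ▸ orderOf_dvd_of_pow_eq_one (congrArg Subtype.val hj)
    have := Nat.Prime.dvd_of_dvd_pow (by norm_num : Nat.Prime 5) hd
    omega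
  · rw [mul_inv_eq_iff_eq_mul] at hg5
    rw [hg5]; simp

/-- In a group of exponent three, conjugates commute. -/
theorem commute_conj_of_exp_three {R : Subgroup G} (hR : ∀ r ∈ R, r ^ 3 = 1) {x y : G}
    (hx : x ∈ R) (hy : y ∈ R) : Commute x (y * x * y⁻¹) := by
  have p3 : ∀ r ∈ R, r * r * r = 1 := fun r hr => by
    rw [← hR r hr, pow_succ, pow_succ, pow_one]
  have e1 : y * x * y = x⁻¹ * y⁻¹ * x⁻¹ := by
    calc y * x * y = x⁻¹ * ((x * y) * (x * y) * (x * y)) * y⁻¹ * x⁻¹ := by group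
      _ = x⁻¹ * y⁻¹ * x⁻¹ := by rw [p3 _ (mul_mem hx hy), mul_one]
  have e2 : y⁻¹ * x * y⁻¹ = x⁻¹ * y * x⁻¹ := by
    calc y⁻¹ * x * y⁻¹ = x⁻¹ * ((x * y⁻¹) * (x * y⁻¹) * (x * y⁻¹)) * y * x⁻¹ := by group
      _ = x⁻¹ * y * x⁻¹ := by rw [p3 _ (mul_mem hx (inv_mem hy)), mul_one]
  show x * (y * x * y⁻¹) = y * x * y⁻¹ * x
  calc x * (y * x * y⁻¹) = x * (y * x * y) * (y * y * y)⁻¹ * y := by group
    _ = y⁻¹ * x⁻¹ * y := by rw [p3 y hy, e1]; group
    _ = (y * y * y) * (y⁻¹ * x⁻¹ * y) := by rw [p3 y hy, one_mul]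
    _ = y * y * (x⁻¹ * y * x⁻¹) * x := by group
    _ = y * x * y⁻¹ * x := by rw [← e2]; group

/-- Two elements of a 3-subgroup cycled by an element of order four commute. -/
theorem Six.three_cycle_commute (h : Six G) {R : Subgroup G} (hR : IsPGroup 3 R) {a b : G} (ha : a ∈ R)
    (ha' : b * a * b⁻¹ ∈ R) (hb : b ^ 4 = 1) (hb2 : b * b ≠ 1)
    (hinv : b * b * a * (b * b)⁻¹ = a⁻¹) : Commute a (b * a * b⁻¹) := by
  have hexp : ∀ r ∈ R, r ^ 3 = 1 := fun r hr => by
    obtain ⟨j, hj⟩ := hR ⟨r, hr⟩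
    exact h.pow_eq_one (Or.inl rfl) (congrArg Subtype.val hj)
  set a' := b * a * b⁻¹ with ha'd
  set c := a * a' * a⁻¹ * a'⁻¹ with hc
  have h1 : Commute a (a' * a⁻¹ * a'⁻¹) := by
    have := (commute_conj_of_exp_three hexp ha ha').inv_right
    simpa [mul_assoc] using this
  have hbc : b * c * b⁻¹ = c := by
    calc b * c * b⁻¹ = a' * (b * b * a * (b * b)⁻¹) * a'⁻¹ * (b * b * a * (b * b)⁻¹)⁻¹ := by
          rw [hc, ha'd]; group
      _ = a' * a⁻¹ * a'⁻¹ * a := by rw [hinv, inv_inv]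
      _ = a * (a' * a⁻¹ * a'⁻¹) := h1.eq.symm
      _ = c := by rw [hc]; group
  by_contra hne
  have hc1 : c ≠ 1 := fun e => hne (by
    show a * a' = a' * a
    calc a * a' = c * (a' * a) := by rw [hc]; group
      _ = a' * a := by rw [e, one_mul])
  have hcR : c ∈ R := mul_mem (mul_mem (mul_mem ha ha') (inv_mem ha)) (inv_mem ha')
  haveI : Fact (Nat.Prime 3) := ⟨Nat.prime_three⟩
  have ho3 : orderOf c = 3 := orderOf_eq_prime (hexp c hcR) hc1
  have hcb : Commute c b := by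
    show c * b = b * c
    calc c * b = (b * c * b⁻¹) * b := by rw [hbc]
      _ = b * c := by group
  have hb4 : orderOf b = 4 := orderOf_eq_prime_pow (p := 2) (n := 1) (by rwa [pow_one, pow_two]) hb
  exact h.not_commute hcb ho3 hb4 (by norm_num) (by norm_num)

/-- The Frattini subgroup of a subgroup, inside the group. -/
def frat (Q : Subgroup G) : Subgroup G := (frattini Q).map Q.subtype

theorem frat_normal (Q : Subgroup G) [Q.Normal] : (frat Q).Normal := by
  unfold frat; infer_instance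

/-- The top acts on a self-centralising 2-core with no 3-element cycled by an element of order four. -/
theorem Six.top_three (h : Six G) (Q : Subgroup G) [Q.Normal] (hQ : IsPGroup 2 Q)
    (hC : Subgroup.centralizer (Q : Set G) ≤ Q) {R : Subgroup (G ⧸ Q)} (hR : IsPGroup 3 R)
    {u g : G} (hu : (u : G ⧸ Q) ∈ R) (hu1 : u ∉ Q) (hgu : ((g * u * g⁻¹ : G) : G ⧸ Q) ∈ R)
    {k : ℕ} (hg : g ^ 2 ^ k = 1) (hg2 : g * g ∉ Q) (hinv : u * (g * g * u * (g * g)⁻¹) ∈ Q) : False := by
  haveI : Fact (Nat.Prime 2) := ⟨Nat.prime_two⟩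
  haveI : Fact (Nat.Prime 3) := ⟨Nat.prime_three⟩
  have hg4 := h.two_pow hg
  have hK : Six (G ⧸ Q) := h.quotient Q
  have hinv' : ((g : G ⧸ Q)) * g * u * ((g : G ⧸ Q) * g)⁻¹ = (u : G ⧸ Q)⁻¹ := by
    apply eq_inv_of_mul_eq_one_right
    exact (QuotientGroup.eq_one_iff _).mpr hinv
  have hcomm : Commute (u : G ⧸ Q) ((g : G ⧸ Q) * u * (g : G ⧸ Q)⁻¹) :=
    hK.three_cycle_commute hR hu hgu (by rw [← QuotientGroup.mk_pow, hg4]; rfl)
      (fun e => hg2 ((QuotientGroup.eq_one_iff _).mp e)) hinv'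
  obtain ⟨j, hj⟩ := hR ⟨_, hu⟩
  have hu3 : (u : G ⧸ Q) ^ 3 = 1 := hK.pow_eq_one (Or.inl rfl) (congrArg Subtype.val hj)
  haveI : (frat Q).Normal := frat_normal Q
  set π := QuotientGroup.mk' (frat Q) with hπ
  have hπs : Function.Surjective π := QuotientGroup.mk'_surjective _
  have h1 : Six (G ⧸ frat Q) := h.quotient _
  set V := Q.map π with hV
  haveI : V.Normal := (inferInstance : Q.Normal).map π hπs
  have hVsq : ∀ v ∈ V, v * v = 1 := by
    rintro _ ⟨q, hq, rfl⟩
    rw [← map_mul]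
    refine (QuotientGroup.eq_one_iff _).mpr ⟨⟨q, hq⟩ ^ 2, pow_mem_frattini_pGroup hQ _, ?_⟩
    simp [pow_two]
  haveI := isMulCommutative_of_sq hVsq
  have hVc : ∀ n ∈ V, ∀ v ∈ V, n * v = v * n := fun n hn v hv =>
    congrArg Subtype.val (IsMulCommutative.is_comm.comm (⟨n, hn⟩ : V) ⟨v, hv⟩)
  have h2 : ∀ a : Additive V, a + a = 0 := fun a =>
    Additive.toMul.injective (Subtype.ext (hVsq _ a.toMul.2))
  have cong : ∀ {x y : G}, (x : G ⧸ Q) = (y : G ⧸ Q) → ∀ a, actAdd V (π x) a = actAdd V (π y) a :=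
    fun {x y} e a => actAdd_congr V hVc
      (by rw [← map_inv, ← map_mul]; exact Subgroup.mem_map_of_mem π (QuotientGroup.eq.mp e.symm)) a
  set w := g * u * g⁻¹ with hw
  have hw3 : (w : G ⧸ Q) ^ 3 = 1 := by
    simp only [hw, QuotientGroup.mk_mul, QuotientGroup.mk_inv]
    rw [conj_pow, hu3]; simp
  have e3 : ∀ {x : G}, (x : G ⧸ Q) ^ 3 = 1 → ∀ a,
      actAdd V (π x) (actAdd V (π x) (actAdd V (π x) a)) = a := fun {x} hx a => by
    simp only [← actAdd_mul, ← map_mul]
    have e : ((x * (x * x) : G) : G ⧸ Q) = ((1 : G) : G ⧸ Q) := by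
      calc ((x * (x * x) : G) : G ⧸ Q) = (x : G ⧸ Q) ^ 3 := by simp [pow_succ, mul_assoc]
        _ = _ := by rw [hx]; rfl
    rw [cong e, map_one, actAdd_one]
  have key : ∀ a : Additive V, actAdd V (π u) a = a := by
    refine three_four (actAdd V (π u)) (actAdd V (π w)) (actAdd V (π g)) h2 (e3 hu3) (e3 hw3)
      (fun a => ?_) (fun a => ?_) (fun a => ?_) (h1.norm_add V hVsq (by rw [← map_pow, hg4, map_one]))
    · simp only [← actAdd_mul, ← map_mul]
      refine cong ?_ a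
      simp only [hw, QuotientGroup.mk_mul, QuotientGroup.mk_inv]
      exact hcomm.eq.symm
    · simp only [← actAdd_mul, ← map_mul]
      refine cong (congrArg _ ?_) a
      rw [hw]; group
    · simp only [← actAdd_mul, ← map_mul]
      refine cong ?_ a
      simp only [hw, QuotientGroup.mk_mul, QuotientGroup.mk_inv]
      have e : (u : G ⧸ Q) * u = (u : G ⧸ Q)⁻¹ :=
        eq_inv_of_mul_eq_one_left (by rw [← hu3, pow_succ, pow_succ, pow_one])
      rw [← mul_assoc (u : G ⧸ Q) u, e, ← hinv']; group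
  -- a preimage of order three centralises `Q` modulo its Frattini subgroup
  obtain ⟨u0, hu0, hou⟩ : ∃ u0 : G, (u0 : G ⧸ Q) = u ∧ u0 ^ 3 = 1 := by
    have ho : orderOf (u : G ⧸ Q) = 3 :=
      orderOf_eq_prime hu3 (fun e => hu1 ((QuotientGroup.eq_one_iff u).mp e))
    obtain ⟨c, hc⟩ := ho ▸ orderOf_map_dvd (QuotientGroup.mk' Q) u
    have h6 := h u
    have := orderOf_pos u
    rcases c with _ | _ | _ | c
    · omega
    · exact ⟨u, rfl, orderOf_dvd_iff_pow_eq_one.mp (by rw [hc])⟩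
    · refine ⟨u ^ 4, ?_, ?_⟩
      · rw [QuotientGroup.mk_pow, pow_succ, hu3, one_mul]
      · rw [← pow_mul]
        exact orderOf_dvd_iff_pow_eq_one.mp (by rw [hc]; norm_num)
    · omega
  have hcent : Subgroup.zpowers u0 ≤ Subgroup.centralizer (Q : Set G) := by
    apply centralize_of_trivial_mod_frattini
    · rw [Subgroup.normalizer_eq_top]; exact le_top
    · obtain ⟨n, hn⟩ := IsPGroup.iff_card.mp (hQ.to_subgroup (frattini Q))
      rw [hn, Nat.card_zpowers]
      exact ((Nat.Coprime.coprime_dvd_left (orderOf_dvd_of_pow_eq_one hou) (by norm_num : Nat.Coprime 3 2))).pow_right n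
    · intro a ha q hq
      refine (QuotientGroup.eq_one_iff (N := frat Q) _).mp ?_
      show π (a * q * a⁻¹ * q⁻¹) = 1
      have ht : π a * π q * (π a)⁻¹ = π q := by
        obtain ⟨n, rfl⟩ := Subgroup.mem_zpowers_iff.mp ha
        have hu0' : Commute (π u0) (π q) := by
          have hv : π q ∈ V := Subgroup.mem_map_of_mem π hq
          have e := congrArg (fun b : Additive V => ((b.toMul : V) : G ⧸ frat Q))
            ((cong hu0 _).trans (key (Additive.ofMul ⟨π q, hv⟩)))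
          simp only [actAdd_apply] at e
          exact mul_inv_eq_iff_eq_mul.mp e
        rw [map_zpow, (hu0'.zpow_left n).eq, mul_inv_cancel_right]
      rw [map_mul, map_mul, map_mul, map_inv, map_inv, ht, mul_inv_cancel]
  exact hu1 ((QuotientGroup.eq_one_iff u).mp
    (hu0 ▸ (QuotientGroup.eq_one_iff u0).mpr (hC (hcent (Subgroup.mem_zpowers u0)))))

/-- An element of order four above a self-centralising 2-core with solvable top squares into it. -/
theorem Six.sq_mem (h : Six G) (Q : Subgroup G) [Q.Normal] (hQ : IsPGroup 2 Q)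
    (hC : Subgroup.centralizer (Q : Set G) ≤ Q) [Group.IsSolvable (G ⧸ Q)]
    (hO : Cfsg.pCore 2 (G ⧸ Q) = ⊥) {g : G} {k : ℕ} (hg : g ^ 2 ^ k = 1) : g * g ∈ Q := by
  by_contra hg2
  have hg4 := h.two_pow hg
  have hK : Six (G ⧸ Q) := h.quotient Q
  set b := (g : G ⧸ Q) with hb
  have hb4 : b ^ 4 = 1 := by rw [hb, ← QuotientGroup.mk_pow, hg4]; rfl
  have he1 : b * b ≠ 1 := fun e => hg2 ((QuotientGroup.eq_one_iff _).mp e)
  have hee : (b * b) * (b * b) = 1 := by rw [← hb4, pow_succ, pow_succ, pow_succ, pow_one]; group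
  haveI : Fact (Nat.Prime 2) := ⟨Nat.prime_two⟩
  have he2 : orderOf (b * b) = 2 := orderOf_eq_prime (by rwa [pow_two]) he1
  -- some odd core is not centralised by the involution
  obtain ⟨p, hp, hne⟩ : ∃ p : Nat.Primes, ((p : ℕ) = 3 ∨ (p : ℕ) = 5) ∧
      ∃ x ∈ Cfsg.pCore p (G ⧸ Q), (b * b) * x ≠ x * (b * b) := by
    by_contra hno
    push_neg at hno
    have hcen : b * b ∈ Subgroup.centralizer (Cfsg.fittingSubgroup (G ⧸ Q) : Set (G ⧸ Q)) := by
      suffices Cfsg.fittingSubgroup (G ⧸ Q) ≤ Subgroup.centralizer {b * b} by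
        rw [Subgroup.mem_centralizer_iff]
        intro x hx
        exact Subgroup.mem_centralizer_singleton_iff.mp (this hx)
      rw [fittingSubgroup_eq_iSup_pCore]
      refine iSup_le fun p x hx => ?_
      rw [Subgroup.mem_centralizer_singleton_iff]
      by_cases hx1 : x = 1
      · simp [hx1]
      haveI := Fact.mk p.2
      have hdvd : (p : ℕ) ∣ Nat.card (G ⧸ Q) := by
        obtain ⟨n, hn⟩ := IsPGroup.iff_card.mp (isPGroup_pCore (G := G ⧸ Q) (p : ℕ))
        rcases n with _ | n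
        · rw [pow_zero] at hn
          exact absurd (Subgroup.eq_bot_of_card_eq _ hn ▸ hx) (by simpa using hx1)
        · exact (Dvd.intro_left _ (hn.trans (pow_succ _ _)).symm).trans (Subgroup.card_subgroup_dvd_card _)
      rcases hK.prime_cases p.2 hdvd with e | e | e
      · rw [e, hO, Subgroup.mem_bot] at hx; exact absurd hx hx1
      · exact (hno p (Or.inl e) x hx).symm
      · exact (hno p (Or.inr e) x hx).symm
    have hmem := centralizer_fitting_le hcen
    haveI := Fact.mk Nat.prime_two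
    have hle : Cfsg.fittingSubgroup (G ⧸ Q) ≤ Cfsg.pPrimeCore 2 (G ⧸ Q) := by
      rw [fittingSubgroup_eq_iSup_pCore]
      refine iSup_le fun q => ?_
      by_cases e : (q : ℕ) = 2
      · rw [e, hO]; exact bot_le
      · exact pCore_le_pPrimeCore_of_ne Nat.prime_two q.2 (Ne.symm e)
    have hd := he2 ▸ Subgroup.orderOf_dvd_natCard _ (hle hmem)
    exact absurd (card_pPrimeCore_coprime (G := G ⧸ Q) 2) (fun hc => by
      have := Nat.eq_one_of_dvd_coprimes hc hd dvd_rfl
      omega)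
  obtain ⟨x, hx, hxe⟩ := hne
  set R := Cfsg.pCore (p : ℕ) (G ⧸ Q) with hRd
  haveI := Fact.mk p.2
  have hR : IsPGroup p R := isPGroup_pCore _
  haveI : R.Normal := by rw [hRd]; infer_instance
  have hconj : ∀ r ∈ R, (b * b) * r * (b * b)⁻¹ ∈ R := fun r hr => Subgroup.Normal.conj_mem ‹_› r hr _
  have hei : (b * b)⁻¹ = b * b := inv_eq_of_mul_eq_one_left hee
  set a := x⁻¹ * ((b * b) * x * (b * b)⁻¹) with ha
  have haR : a ∈ R := mul_mem (inv_mem hx) (hconj x hx)
  have hainv : ∀ r : G ⧸ Q, (b * b) * (r⁻¹ * ((b * b) * r * (b * b)⁻¹)) * (b * b)⁻¹ =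
      (r⁻¹ * ((b * b) * r * (b * b)⁻¹))⁻¹ := fun r => by
    clear_value b
    revert hee
    generalize b * b = t
    intro hee
    calc t * (r⁻¹ * (t * r * t⁻¹)) * t⁻¹
        = (t * r⁻¹ * t⁻¹) * ((t * t) * r * (t * t)⁻¹) := by group
      _ = (t * r⁻¹ * t⁻¹) * r := by rw [hee, one_mul, inv_one, mul_one]
      _ = _ := by group
  have ha1 : a ≠ 1 := fun e => hxe (by
    have e' := inv_mul_eq_one.mp e
    calc b * b * x = (b * b * x * (b * b)⁻¹) * (b * b) := by group
      _ = x * (b * b) := by rw [← e'])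
  obtain ⟨u, hu⟩ := QuotientGroup.mk_surjective a
  have hua' : b * a * b⁻¹ ∈ R := Subgroup.Normal.conj_mem ‹_› a haR _
  rcases hp with e | e
  · refine h.top_three Q hQ hC (R := R) (e ▸ hR) (u := u) (g := g) (hu ▸ haR) (fun hm => ha1 ?_) ?_ hg hg2 ?_
    · rw [← hu]; exact (QuotientGroup.eq_one_iff u).mpr hm
    · simp only [QuotientGroup.mk_mul, QuotientGroup.mk_inv, hu]; exact hua'
    · refine (QuotientGroup.eq_one_iff _).mp ?_
      simp only [QuotientGroup.mk_mul, QuotientGroup.mk_inv, hu]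
      rw [← hb, ha, hainv x, mul_inv_cancel]
  · -- the involution inverts the whole 5-core
    haveI : Fact (Nat.Prime 5) := ⟨by norm_num⟩
    have h5 : ∀ r ∈ R, r ^ 5 = 1 := fun r hr => by
      obtain ⟨j, hj⟩ := hR ⟨r, hr⟩
      exact hK.pow_eq_one (Or.inr rfl) (e ▸ congrArg Subtype.val hj)
    let f : R → R := fun r => ⟨(r : G ⧸ Q)⁻¹ * ((b * b) * r * (b * b)⁻¹), mul_mem (inv_mem r.2) (hconj _ r.2)⟩
    have hf : Function.Injective f := fun r s hrs => by
      have hrs' : (r : G ⧸ Q)⁻¹ * ((b * b) * r * (b * b)⁻¹) = (s : G ⧸ Q)⁻¹ * ((b * b) * s * (b * b)⁻¹) :=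
        congrArg Subtype.val hrs
      have hgen : ∀ t x y : G ⧸ Q, x⁻¹ * (t * x * t⁻¹) = y⁻¹ * (t * y * t⁻¹) → y * x⁻¹ * t = t * (y * x⁻¹) := by
        intro t x y hxy
        calc y * x⁻¹ * t = y * (x⁻¹ * (t * x * t⁻¹)) * (t * x⁻¹) := by group
          _ = y * (y⁻¹ * (t * y * t⁻¹)) * (t * x⁻¹) := by rw [hxy]
          _ = t * (y * x⁻¹) := by group
      have hc : Commute ((s : G ⧸ Q) * (r : G ⧸ Q)⁻¹) (b * b) := hgen _ _ _ hrs'
      by_contra hrsne
      have ho : orderOf ((s : G ⧸ Q) * (r : G ⧸ Q)⁻¹) = 5 :=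
        orderOf_eq_prime (h5 _ (mul_mem s.2 (inv_mem r.2)))
          (fun e1 => hrsne (Subtype.ext (mul_inv_eq_one.mp e1).symm))
      exact hK.not_commute hc ho he2 (by norm_num) (by norm_num)
    have hall : ∀ r ∈ R, (b * b) * r * (b * b)⁻¹ = r⁻¹ := fun r hr => by
      obtain ⟨s, hs⟩ := (Finite.injective_iff_surjective.mp hf) ⟨r, hr⟩
      have hs' : (s : G ⧸ Q)⁻¹ * ((b * b) * s * (b * b)⁻¹) = r := congrArg Subtype.val hs
      rw [← hs']; exact hainv s
    have hab : ∀ r ∈ R, ∀ s ∈ R, r * s = s * r := fun r hr s hs => by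
      have := hall _ (mul_mem hr hs)
      calc r * s = ((r * s)⁻¹)⁻¹ := (inv_inv _).symm
        _ = ((b * b) * r * (b * b)⁻¹ * ((b * b) * s * (b * b)⁻¹))⁻¹ := by rw [← this]; group
        _ = s * r := by rw [hall r hr, hall s hs, mul_inv_rev, inv_inv, inv_inv]
    set a' := b * a * b⁻¹ with ha'
    have hba' : b * a' * b⁻¹ = a⁻¹ := by rw [← hall a haR, ha']; group
    have hQ1 : Q ≠ ⊥ := fun hQb => by
      have : Subgroup.centralizer (Q : Set G) = ⊤ := by
        rw [hQb]; ext; simp [Subgroup.mem_centralizer_iff]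
      have h' := hC (this ▸ Subgroup.mem_top g)
      exact hg2 (mul_mem h' h')
    by_cases hc : a' * (a * a) = 1
    · -- the operator cubes `a`
      have hb3 : b * b * b * a * (b * b * b)⁻¹ = a ^ 2 := by
        have e1 : a' = (a * a)⁻¹ := eq_inv_of_mul_eq_one_left hc
        calc b * b * b * a * (b * b * b)⁻¹ = (b * b) * a' * (b * b)⁻¹ := by rw [ha']; group
          _ = a'⁻¹ := hall a' hua'
          _ = a ^ 2 := by rw [e1, inv_inv, pow_two]
      refine h.top_five_mod Q hQ hQ1 (u := u) (g := g * g * g) (k := 2) ?_ (fun hm => ha1 ?_) ?_ ?_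
      · refine (QuotientGroup.eq_one_iff _).mp ?_
        rw [QuotientGroup.mk_pow, hu]; exact h5 a haR
      · rw [← hu]; exact (QuotientGroup.eq_one_iff u).mpr hm
      · rw [show g * g * g = g ^ 3 by simp [pow_succ, mul_assoc], ← pow_mul, show 3 * 2 ^ 2 = 4 * 3 by norm_num,
          pow_mul, hg4, one_pow]
      · refine (QuotientGroup.eq_one_iff _).mp ?_
        simp only [QuotientGroup.mk_mul, QuotientGroup.mk_inv, QuotientGroup.mk_pow, hu]
        rw [inv_mul_eq_one, ← hb, ← hb3]; group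
    · obtain ⟨v, hv⟩ := QuotientGroup.mk_surjective (a' * (a * a))
      have hcR : a' * (a * a) ∈ R := mul_mem hua' (mul_mem haR haR)
      refine h.top_five_mod Q hQ hQ1 (u := v) (g := g) ?_ (fun hm => hc ?_) hg ?_
      · refine (QuotientGroup.eq_one_iff _).mp ?_
        rw [QuotientGroup.mk_pow, hv]; exact h5 _ hcR
      · rw [← hv]; exact (QuotientGroup.eq_one_iff v).mpr hm
      · refine (QuotientGroup.eq_one_iff _).mp ?_
        simp only [QuotientGroup.mk_mul, QuotientGroup.mk_inv, QuotientGroup.mk_pow, hv]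
        rw [inv_mul_eq_one, ← hb]
        have e1 : b * (a' * (a * a)) * b⁻¹ = a⁻¹ * (a' * a') := by
          calc b * (a' * (a * a)) * b⁻¹ = (b * a' * b⁻¹) * ((b * a * b⁻¹) * (b * a * b⁻¹)) := by group
            _ = a⁻¹ * (a' * a') := by rw [hba', ← ha']
        have e2 : (a' * (a * a)) ^ 2 = a⁻¹ * (a' * a') := by
          have hc5 : a ^ 5 = 1 := h5 a haR
          have hcc : Commute a' a := hab a' hua' a haR
          rw [(hcc.mul_right hcc).mul_pow, ← pow_two a', show (a * a) ^ 2 = a⁻¹ by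
            apply eq_inv_of_mul_eq_one_left
            rw [← hc5]; simp [pow_succ, mul_assoc]]
          exact ((hcc.pow_left 2).inv_right).eq
        rw [e2, ← e1]; group

end CfsgLib.SpecSix
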